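import Mathlib
import Cfsg.Prelude.Def_LieTypeDatum
import Cfsg.Agent.H202.Psu
import Cfsg.Agent.H202.Descent
import Cfsg.Agent.H999.PslGraph
import Cfsg.Agent.S2697
set_option linter.all false

-- part: H201/PsuProj
section
/-!
# The projective general linear group with its two involutions (helper201)

`PG n F = GL_n(F) / scalars`; `barQ` (a field automorphism `σ`) and `ctQ` (inverse transpose) on it.

* `mk_eq_iff` : equality in `PG`;
* `exists_of_fixed` : the fixed points of `barQ` come from `GL_n(F₀)`;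
* `exists_GU` : `ctQ (mk K) = barQ (mk K)` iff `K` is a multiple of a unitary matrix;
* `exists_gram` : a Hermitian matrix is `Mᵀ * M̄`.
-/

set_option autoImplicit false
set_option linter.unusedSectionVars false

namespace Cfsg.Agent.H201.PsuProj

open Cfsg Matrix
open Cfsg.Agent.LieClassical.HermBasic (conj conj_apply pow_q_pow_q herm_def exists_norm_eq_ne q_pos
  exists_not_fixed)
open Cfsg.Agent.H202.Descent (scg coe_scg coe_scg_mul scg_mul_comm exists_fixed_multiple exists_hom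
  exists_descend_gl)

section General

variable {F : Type*} [Field F] {n : ℕ}

/-- `PGL_n(F)` as a quotient of `GL_n(F)`. -/
abbrev PG (n : ℕ) (F : Type*) [Field F] : Type _ := GL (Fin n) F ⧸ Geo.scalars (Fin n) F

/-- The projection. -/
def mk : GL (Fin n) F →* PG n F := QuotientGroup.mk' _

theorem mk_surjective : Function.Surjective (mk : GL (Fin n) F →* PG n F) := QuotientGroup.mk'_surjective _

theorem mk_eq_one_iff {g : GL (Fin n) F} : mk g = 1 ↔ ∃ c : Fˣ, (g : Matrix (Fin n) (Fin n) F) = (c : F) • 1 := by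
  rw [mk, QuotientGroup.mk'_apply, QuotientGroup.eq_one_iff, Geo.mem_scalars_iff]

theorem mk_eq_iff {g h : GL (Fin n) F} :
    mk g = mk h ↔ ∃ c : Fˣ, (g : Matrix (Fin n) (Fin n) F) = (c : F) • (h : Matrix (Fin n) (Fin n) F) := by
  have h1 : mk g = mk h ↔ mk (h⁻¹ * g) = 1 := by
    rw [map_mul, map_inv, inv_mul_eq_one]
    exact eq_comm
  rw [h1, mk_eq_one_iff]
  constructor
  · rintro ⟨c, hc⟩
    refine ⟨c, ?_⟩
    have h2 : (g : Matrix (Fin n) (Fin n) F) = (h : Matrix (Fin n) (Fin n) F) * ((h⁻¹ * g : GL (Fin n) F) : Matrix (Fin n) (Fin n) F) := by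
      rw [← Units.val_mul, mul_inv_cancel_left]
    rw [h2, hc, Matrix.mul_smul, Matrix.mul_one]
  · rintro ⟨c, hc⟩
    refine ⟨c, ?_⟩
    rw [Units.val_mul, hc, Matrix.mul_smul, ← Units.val_mul, inv_mul_cancel, Units.val_one]

theorem mk_scg_mul (c : Fˣ) (g : GL (Fin n) F) : mk (scg c * g) = mk g :=
  mk_eq_iff.2 ⟨c, coe_scg_mul c g⟩

/-- `σ` on matrices. -/
def bar (σ : F ≃+* F) : GL (Fin n) F →* GL (Fin n) F := Cfsg.Agent.H202.Descent.gm σ

theorem coe_bar (σ : F ≃+* F) (g : GL (Fin n) F) : (bar σ g : Matrix (Fin n) (Fin n) F) = (g : Matrix (Fin n) (Fin n) F).map σ := rfl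

/-- The inverse transpose. -/
def ct : GL (Fin n) F →* GL (Fin n) F where
  toFun := Cfsg.Agent.H999.PslGraph.ct
  map_one' := by
    apply Units.ext
    rw [Cfsg.Agent.H999.PslGraph.coe_ct, inv_one, Units.val_one, transpose_one]
  map_mul' := Cfsg.Agent.H999.PslGraph.ct_mul

theorem coe_ct (g : GL (Fin n) F) : (ct g : Matrix (Fin n) (Fin n) F) = ((g⁻¹ : GL (Fin n) F) : Matrix (Fin n) (Fin n) F)ᵀ := rfl

theorem coe_ct_inv (g : GL (Fin n) F) : (((ct g)⁻¹ : GL (Fin n) F) : Matrix (Fin n) (Fin n) F) = (g : Matrix (Fin n) (Fin n) F)ᵀ := rfl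

theorem ct_ct (g : GL (Fin n) F) : ct (ct g) = g := Cfsg.Agent.H999.PslGraph.ct_ct g

theorem ct_eq (g : GL (Fin n) F) : ct g = Cfsg.Agent.H999.PslGraph.ct g := rfl

theorem bar_ct (σ : F ≃+* F) (g : GL (Fin n) F) : bar σ (ct g) = ct (bar σ g) := by
  apply Units.ext
  rw [coe_bar, coe_ct, coe_ct, ← map_inv, coe_bar]
  rfl

theorem bar_bar {σ : F ≃+* F} (hσ : ∀ a, σ (σ a) = a) (g : GL (Fin n) F) : bar σ (bar σ g) = g := by
  apply Units.ext
  ext i j
  exact hσ _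

/-- `σ` on `PG`. -/
def barQ (σ : F ≃+* F) : PG n F →* PG n F :=
  QuotientGroup.map _ _ (bar σ) (by
    intro g hg
    rw [Geo.mem_scalars_iff] at hg
    obtain ⟨c, hc⟩ := hg
    rw [Subgroup.mem_comap, Geo.mem_scalars_iff]
    refine ⟨Units.map (σ : F →* F) c, ?_⟩
    rw [coe_bar, hc]
    ext i j
    by_cases hij : i = j
    · subst hij; simp
    · simp [hij])

theorem barQ_mk (σ : F ≃+* F) (g : GL (Fin n) F) : barQ σ (mk g) = mk (bar σ g) := rfl

/-- The inverse transpose on `PG`. -/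
def ctQ : PG n F →* PG n F :=
  QuotientGroup.map _ _ ct (by
    intro g hg
    rw [Geo.mem_scalars_iff] at hg
    obtain ⟨c, hc⟩ := hg
    rw [Subgroup.mem_comap, Geo.mem_scalars_iff]
    refine ⟨c⁻¹, ?_⟩
    have h1 : g⁻¹ = scg c⁻¹ := by
      rw [inv_eq_iff_eq_inv]
      apply Units.ext
      rw [hc]
      rfl
    rw [coe_ct, h1, coe_scg, transpose_smul, transpose_one])

theorem ctQ_mk (g : GL (Fin n) F) : ctQ (mk g) = mk (ct g) := rfl

theorem ctQ_ctQ (x : PG n F) : ctQ (ctQ x) = x := by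
  obtain ⟨g, rfl⟩ := mk_surjective x
  rw [ctQ_mk, ctQ_mk, ct_ct]

theorem barQ_barQ {σ : F ≃+* F} (hσ : ∀ a, σ (σ a) = a) (x : PG n F) : barQ σ (barQ σ x) = x := by
  obtain ⟨g, rfl⟩ := mk_surjective x
  rw [barQ_mk, barQ_mk, bar_bar hσ]

theorem barQ_ctQ (σ : F ≃+* F) (x : PG n F) : barQ σ (ctQ x) = ctQ (barQ σ x) := by
  obtain ⟨g, rfl⟩ := mk_surjective x
  rw [barQ_mk, ctQ_mk, ctQ_mk, barQ_mk, bar_ct]

end General

section Sub

variable {F F₀ : Type*} [Field F] [Field F₀] {n : ℕ}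

/-- The inclusion `GL_n(F₀) → GL_n(F)`. -/
def inc (j : F₀ →+* F) : GL (Fin n) F₀ →* GL (Fin n) F := Matrix.GeneralLinearGroup.map j

theorem coe_inc (j : F₀ →+* F) (g : GL (Fin n) F₀) : (inc j g : Matrix (Fin n) (Fin n) F) = (g : Matrix (Fin n) (Fin n) F₀).map j := rfl

theorem ct_inc (j : F₀ →+* F) (g : GL (Fin n) F₀) : ct (inc j g) = inc j (ct g) := by
  apply Units.ext
  rw [coe_ct, coe_inc, coe_ct, ← map_inv, coe_inc]
  rfl

variable {σ : F ≃+* F} {j : F₀ →+* F}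

theorem bar_inc (hj : ∀ a, σ a = a ↔ ∃ b, j b = a) (g : GL (Fin n) F₀) : bar σ (inc j g) = inc j g := by
  apply Units.ext
  ext i k
  exact (hj _).2 ⟨_, rfl⟩

theorem barQ_inc (hj : ∀ a, σ a = a ↔ ∃ b, j b = a) (g : GL (Fin n) F₀) : barQ σ (mk (inc j g)) = mk (inc j g) := by
  rw [barQ_mk, bar_inc hj]

/-- The fixed points of `barQ`. -/
theorem exists_of_fixed (hn : 0 < n) (hj : ∀ a, σ a = a ↔ ∃ b, j b = a) {x : PG n F} (hx : barQ σ x = x) :
    ∃ P : GL (Fin n) F₀, mk (inc j P) = x := by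
  have : Nonempty (Fin n) := ⟨⟨0, hn⟩⟩
  obtain ⟨g, rfl⟩ := mk_surjective x
  rw [barQ_mk, mk_eq_iff] at hx
  obtain ⟨c, hc⟩ := hx
  rw [coe_bar] at hc
  obtain ⟨e, he⟩ := exists_fixed_multiple hc
  obtain ⟨P, hP⟩ := exists_descend_gl hj he
  refine ⟨P, ?_⟩
  change mk (Matrix.GeneralLinearGroup.map j P) = mk g
  rw [hP, mk_scg_mul]

/-- Proportional matrices over `F₀`. -/
theorem mk_inc_eq_iff (hn : 0 < n) {P P' : GL (Fin n) F₀} : mk (inc j P) = mk (inc j P') ↔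
    ∃ c : F₀ˣ, (P : Matrix (Fin n) (Fin n) F₀) = (c : F₀) • (P' : Matrix (Fin n) (Fin n) F₀) := by
  have : Nonempty (Fin n) := ⟨⟨0, hn⟩⟩
  rw [mk_eq_iff]
  constructor
  · rintro ⟨c, hc⟩
    obtain ⟨i, k, hik⟩ := Cfsg.Agent.H202.Descent.exists_entry_ne_zero P'
    have h1 : ∀ a b, j ((P : Matrix (Fin n) (Fin n) F₀) a b) = c * j ((P' : Matrix (Fin n) (Fin n) F₀) a b) := fun a b =>
      congrFun (congrFun hc a) b
    have hik' : j ((P' : Matrix (Fin n) (Fin n) F₀) i k) ≠ 0 := by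
      rw [Ne, map_eq_zero]; exact hik
    have h2 : (c : F) = j ((P : Matrix (Fin n) (Fin n) F₀) i k / (P' : Matrix (Fin n) (Fin n) F₀) i k) := by
      rw [map_div₀, h1, mul_div_assoc, div_self hik', mul_one]
    have h3 : (P : Matrix (Fin n) (Fin n) F₀) i k / (P' : Matrix (Fin n) (Fin n) F₀) i k ≠ 0 := by
      intro h0
      rw [h0, map_zero] at h2
      exact c.ne_zero h2
    refine ⟨Units.mk0 _ h3, ?_⟩
    ext a b
    apply j.injective
    rw [h1, h2, Units.val_mk0, Matrix.smul_apply, smul_eq_mul, map_mul]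
  · rintro ⟨c, hc⟩
    refine ⟨Units.map (j : F₀ →* F) c, ?_⟩
    rw [coe_inc, coe_inc, hc]
    ext a b
    simp

end Sub

section Unitary

variable {F : Type*} [Field F] [Fintype F] {q n : ℕ}

theorem conj_conj (hF : Fintype.card F = q ^ 2) (a : F) : conj hF (conj hF a) = a := by
  rw [conj_apply, conj_apply, pow_q_pow_q hF]

theorem herm_eq (hF : Fintype.card F = q ^ 2) (u v : Fin n → F) :
    hermForm n F q u v = u ⬝ᵥ (fun i => conj hF (v i)) := rfl

theorem herm_mulVec (hF : Fintype.card F = q ^ 2) (g : Matrix (Fin n) (Fin n) F) (u v : Fin n → F) :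
    hermForm n F q (g *ᵥ u) (g *ᵥ v) = u ⬝ᵥ ((gᵀ * g.map (conj hF)) *ᵥ (fun i => conj hF (v i))) := by
  rw [herm_eq hF, ← mulVec_mulVec, dotProduct_mulVec u, vecMul_transpose]
  congr 1
  funext i
  exact RingHom.map_mulVec (conj hF : F →+* F) g v i

/-- Membership in `GU`. -/
theorem mem_GU_iff (hF : Fintype.card F = q ^ 2) {g : GL (Fin n) F} :
    g ∈ GU n F q ↔ ct g = bar (conj hF) g := by
  have h1 : ct g = bar (conj hF) g ↔
      (g : Matrix (Fin n) (Fin n) F)ᵀ * (g : Matrix (Fin n) (Fin n) F).map (conj hF) = 1 := by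
    rw [← inv_mul_eq_one, ← Units.val_inj, Units.val_mul, Units.val_one, coe_ct_inv, coe_bar]
  rw [h1]
  constructor
  · intro h
    have h2 := fun u v => h u v
    ext i k
    have h3 : hermForm n F q ((g : Matrix (Fin n) (Fin n) F) *ᵥ Pi.single i 1)
        ((g : Matrix (Fin n) (Fin n) F) *ᵥ Pi.single k 1) = hermForm n F q (Pi.single i 1) (Pi.single k 1) :=
      h2 _ _
    have h4 : (fun l => conj hF ((Pi.single k 1 : Fin n → F) l)) = Pi.single k 1 := by
      funext l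
      by_cases hl : l = k
      · subst hl; simp
      · simp [hl]
    rw [herm_mulVec hF, herm_eq hF, h4, mulVec_single_one, single_dotProduct, single_dotProduct, one_mul, one_mul,
      col_apply] at h3
    rw [h3, one_apply, Pi.single_apply]
  · intro h u v
    change hermForm n F q ((g : Matrix (Fin n) (Fin n) F) *ᵥ u) ((g : Matrix (Fin n) (Fin n) F) *ᵥ v) = _
    rw [herm_mulVec hF, h, one_mulVec, herm_eq hF]

/-- A similitude is a multiple of a unitary matrix. -/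
theorem exists_GU (hF : Fintype.card F = q ^ 2) (hn : 0 < n) {x : PG n F} (hx : ctQ x = barQ (conj hF) x) :
    ∃ K : GU n F q, mk (K : GL (Fin n) F) = x := by
  have : Nonempty (Fin n) := ⟨⟨0, hn⟩⟩
  obtain ⟨g, rfl⟩ := mk_surjective x
  rw [ctQ_mk, barQ_mk, eq_comm, mk_eq_iff] at hx
  obtain ⟨c, hc⟩ := hx
  -- `gᵀ ḡ = c`
  have h1 : (g : Matrix (Fin n) (Fin n) F)ᵀ * (g : Matrix (Fin n) (Fin n) F).map (conj hF) = (c : F) • 1 := by
    rw [← coe_bar, hc, Matrix.mul_smul, ← coe_ct_inv, ← Units.val_mul, inv_mul_cancel, Units.val_one]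
  have h2 : ((c : F) • (1 : Matrix (Fin n) (Fin n) F)).map (conj hF) = (c : F) • 1 := by
    have h3 := congrArg (fun M : Matrix (Fin n) (Fin n) F => (Mᵀ).map (conj hF)) h1
    simp only [transpose_mul, transpose_transpose, transpose_smul, transpose_one] at h3
    rw [← h3, ← h1]
    change ((((g : Matrix (Fin n) (Fin n) F).map (conj hF))ᵀ * (g : Matrix (Fin n) (Fin n) F))).map ((conj hF : F ≃+* F) : F →+* F) = _
    rw [Matrix.map_mul]
    congr 1
    · ext i k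
      simp only [Matrix.map_apply, Matrix.transpose_apply]
      exact conj_conj hF _
  have h3 : (c : F) ^ q = c := by
    have h4 := congrFun (congrFun h2 ⟨0, hn⟩) ⟨0, hn⟩
    simp only [Matrix.map_apply, Matrix.smul_apply, Matrix.one_apply_eq, smul_eq_mul, mul_one] at h4
    exact h4
  obtain ⟨t, ht0, ht⟩ := exists_norm_eq_ne hF h3 c.ne_zero
  have hK : (scg (Units.mk0 t ht0)⁻¹ * g) ∈ GU n F q := by
    rw [mem_GU_iff hF, ← inv_mul_eq_one, ← Units.val_inj, Units.val_mul, Units.val_one, coe_ct_inv, coe_bar,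
      coe_scg_mul]
    rw [transpose_smul]
    have h5 : ((((Units.mk0 t ht0)⁻¹ : Fˣ) : F) • (g : Matrix (Fin n) (Fin n) F)).map (conj hF) =
        (conj hF (((Units.mk0 t ht0)⁻¹ : Fˣ) : F)) • (g : Matrix (Fin n) (Fin n) F).map (conj hF) := by
      ext i k
      simp
    rw [h5, Matrix.smul_mul, Matrix.mul_smul, h1, smul_smul, smul_smul, conj_apply, Units.val_inv_eq_inv_val,
      Units.val_mk0, inv_pow, ← mul_inv, ht, inv_mul_cancel₀ c.ne_zero, one_smul]
  exact ⟨⟨_, hK⟩, mk_scg_mul _ _⟩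

theorem ctQ_eq_barQ (hF : Fintype.card F = q ^ 2) (K : GU n F q) :
    ctQ (mk (K : GL (Fin n) F)) = barQ (conj hF) (mk (K : GL (Fin n) F)) := by
  rw [ctQ_mk, barQ_mk, (mem_GU_iff hF).1 K.2]

/-- A Hermitian matrix is a Gram matrix. -/
theorem exists_gram (hF : Fintype.card F = q ^ 2) (W : GL (Fin n) F)
    (hW : ((W : Matrix (Fin n) (Fin n) F).map (conj hF))ᵀ = (W : Matrix (Fin n) (Fin n) F)) :
    ∃ M : GL (Fin n) F, (ct M)⁻¹ * bar (conj hF) M = W := by
  have hne : conj hF ≠ RingEquiv.refl F := by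
    intro h
    obtain ⟨x, hx⟩ := exists_not_fixed hF
    exact hx (DFunLike.congr_fun h x)
  obtain ⟨H, hH⟩ := Cfsg.Agent.S2697.exists_herm hne (conj_conj hF) W hW
  refine ⟨(ct H)⁻¹, ?_⟩
  rw [map_inv, inv_inv, ct_ct, map_inv, bar_ct, hH]
  rfl

end Unitary

end Cfsg.Agent.H201.PsuProj
end

-- part: H201/PsuGraph
section
/-!
# Involutory graph automorphisms of `PSU_n(q)` and of `PSL_n(q)` (helper201)

`|F| = q²`, `j : F₀ → F` the embedding of the field with `q` elements. The involutory graph automorphisms `γ` of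
`PSU n F q` correspond to the invertible `B` over `F₀` with `Bᵀ = ±B` (`Rel hF j γ B`), like the involutory graph
automorphisms `gam B` of `PSL_n(F₀)`:

* `exists_rel` : every involutory graph automorphism `γ` has some `B`;
* `exists_of_gram` : every `B` with `Bᵀ = ±B` occurs;
* `Rel.graph`, `Rel.order`, `Rel.order_gam` : consequences of `Rel γ B`;
* `Rel.isConj_iff` : conjugacy under `Inndiag(PSU)` and under `Inndiag(PSL)` agree;
* `Rel.centEquiv` : the centralizers in the two inner-diagonal groups are isomorphic.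
-/

set_option autoImplicit false
set_option linter.unusedSectionVars false

namespace Cfsg.Agent.H201.PsuGraph

open Cfsg Matrix
open Cfsg.Agent.H201.PsuProj
open Cfsg.Agent.LieClassical.HermBasic (conj conj_apply pow_q_pow_q exists_norm_eq_ne q_pos
  exists_not_fixed exists_trace_zero_ne)
open Cfsg.Agent.ClassicalGeometry.PSUAutCount (gm semiConj toAut gm_mul gm_one eq_of_toAut_eq sc gm_sc_mul
  toAut_sc_mul gm_inj)
open Cfsg.Agent.Schreier.PSU (f₁ f₂ toAut_eq mapGU conj_field)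
open Cfsg.Agent.CpAutU.Desc (toAut_mul toAut_one exists_scalar)
open Cfsg.Agent.H999.PslGraph (gam Cj)

variable {F : Type*} [Field F] [Fintype F] {q n : ℕ}

/-- the order of the conjugation -/
theorem orderOf_conj (hF : Fintype.card F = q ^ 2) : orderOf (conj hF) = 2 := by
  refine orderOf_eq_prime ?_ ?_
  · ext x
    exact conj_conj hF x
  · intro h
    obtain ⟨x, hx⟩ := exists_not_fixed hF
    exact hx (DFunLike.congr_fun h x)

/-- The involution of the field. -/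
theorem eq_conj (hF : Fintype.card F = q ^ 2) {σ : F ≃+* F} (h : orderOf σ = 2) : σ = conj hF := by
  have hc : IsCyclic (F ≃+* F) := LieRecognition.FieldSemilinear.isCyclic_ringAut F
  have hfin : Finite (F ≃+* F) :=
    Finite.of_injective (fun e : F ≃+* F => (e : F → F)) (fun a b h => RingEquiv.ext (congrFun h))
  classical
  have := Fintype.ofFinite (F ≃+* F)
  have h1 := orderOf_conj hF
  have h2 := IsCyclic.card_pow_eq_one_le (α := F ≃+* F) (n := 2) two_pos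
  by_contra hne
  have h3 : ({1, conj hF, σ} : Finset (F ≃+* F)) ⊆ Finset.univ.filter (fun a : F ≃+* F => a ^ 2 = 1) := by
    intro x hx
    simp only [Finset.mem_insert, Finset.mem_singleton] at hx
    rw [Finset.mem_filter]
    refine ⟨Finset.mem_univ _, ?_⟩
    rcases hx with rfl | rfl | rfl
    · rw [one_pow]
    · rw [← h1, pow_orderOf_eq_one]
    · rw [← h, pow_orderOf_eq_one]
  have h4 := Finset.card_le_card h3
  have h5 : (conj hF) ≠ 1 := by
    intro h0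
    rw [h0, orderOf_one] at h1
    omega
  have h6 : σ ≠ 1 := by
    rintro rfl
    rw [orderOf_one] at h
    omega
  have h7 : ({1, conj hF, σ} : Finset (F ≃+* F)).card = 3 := by
    rw [Finset.card_insert_of_notMem, Finset.card_insert_of_notMem, Finset.card_singleton]
    · rw [Finset.mem_singleton]
      exact fun h0 => hne h0.symm
    · rw [Finset.mem_insert, Finset.mem_singleton]
      rintro (h0 | h0)
      · exact h5 h0.symm
      · exact h6 h0.symm
  omega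

/-- `toAut` depends on the matrix modulo scalars. -/
theorem f₁_eq_iff (hF : Fintype.card F = q ^ 2) (hn : 3 ≤ n) {A A' : GU n F q} :
    (f₁ A : MulAut (PSU n F q)) = f₁ A' ↔ mk (A : GL (Fin n) F) = mk (A' : GL (Fin n) F) := by
  constructor
  · intro h
    obtain ⟨-, c, hc, hc'⟩ := eq_of_toAut_eq (ρ := 1) (ρ' := 1) hF hn h
    have hc0 : c ≠ 0 := by
      rintro rfl
      rw [zero_mul] at hc
      exact zero_ne_one hc
    exact (mk_eq_iff.2 ⟨Units.mk0 c hc0, hc'⟩).symm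
  · intro h
    obtain ⟨c, hc⟩ := mk_eq_iff.1 h
    have hcc : (c : F) * (c : F) ^ q = 1 := by
      have h1 : ct (A : GL (Fin n) F) = bar (conj hF) A := (mem_GU_iff hF).1 A.2
      have h2 : ct (A' : GL (Fin n) F) = bar (conj hF) A' := (mem_GU_iff hF).1 A'.2
      rw [← inv_mul_eq_one, ← Units.val_inj, Units.val_mul, Units.val_one, coe_ct_inv, coe_bar] at h1 h2
      rw [hc, transpose_smul] at h1
      have h5 : ((c : F) • ((A' : GL (Fin n) F) : Matrix (Fin n) (Fin n) F)).map (conj hF) =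
          (conj hF (c : F)) • ((A' : GL (Fin n) F) : Matrix (Fin n) (Fin n) F).map (conj hF) := by
        ext i k
        simp
      rw [h5, Matrix.smul_mul, Matrix.mul_smul, h2, smul_smul, conj_apply] at h1
      have h6 := congrFun (congrFun h1 ⟨0, by omega⟩) ⟨0, by omega⟩
      rw [Matrix.smul_apply, Matrix.one_apply_eq, smul_eq_mul, mul_one] at h6
      exact h6
    have h3 : A = sc n ⟨(c : F), hcc⟩ * A' := by
      apply gm_inj
      rw [gm_sc_mul]
      exact hc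
    rw [h3]
    exact toAut_sc_mul _ _ _

theorem f₁_eq_one_iff (hF : Fintype.card F = q ^ 2) (hn : 3 ≤ n) {A : GU n F q} :
    (f₁ A : MulAut (PSU n F q)) = 1 ↔ mk (A : GL (Fin n) F) = 1 := by
  rw [← map_one (f₁ (F := F) (q := q) (n := n)), f₁_eq_iff hF hn]
  rw [show ((1 : GU n F q) : GL (Fin n) F) = 1 from rfl, map_one]

theorem mk_mapGU (σ : F ≃+* F) (A : GU n F q) : mk ((mapGU σ A : GU n F q) : GL (Fin n) F) = barQ σ (mk (A : GL (Fin n) F)) := rfl

/-- Equality of `f₁ A * f₂ σ` and `f₁ A' * f₂ σ`. -/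
theorem toAut_eq_iff (hF : Fintype.card F = q ^ 2) (hn : 3 ≤ n) {A A' : GU n F q} {σ : F ≃+* F} :
    (toAut A σ : MulAut (PSU n F q)) = toAut A' σ ↔ mk (A : GL (Fin n) F) = mk (A' : GL (Fin n) F) := by
  rw [toAut_eq, toAut_eq, mul_left_inj, f₁_eq_iff hF hn]

/-- Conjugation by `f₁ K`. -/
theorem f₁_conj (K A : GU n F q) (σ : F ≃+* F) :
    f₁ K * toAut A σ * (f₁ K)⁻¹ = toAut (K * A * (mapGU σ K)⁻¹) σ := by
  rw [toAut_eq, toAut_eq, map_mul, map_mul, map_inv, ← conj_field]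
  group

/-- **The involutory graph automorphisms.** -/
theorem graph_iff (hF : Fintype.card F = q ^ 2) (hn : 3 ≤ n) {γ : MulAut (PSU n F q)} :
    (IsGraphAutClassPSU γ ∧ orderOf γ = 2) ↔ ∃ A : GU n F q, γ = toAut A (conj hF) ∧
      mk (A : GL (Fin n) F) * barQ (conj hF) (mk (A : GL (Fin n) F)) = 1 := by
  have hsq : ∀ A : GU n F q, toAut A (conj hF) ^ 2 = (1 : MulAut (PSU n F q)) ↔
      mk (A : GL (Fin n) F) * barQ (conj hF) (mk (A : GL (Fin n) F)) = 1 := by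
    intro A
    have h1 : conj hF * conj hF = 1 := by
      ext x
      exact conj_conj hF x
    rw [pow_two, toAut_mul, h1]
    change f₁ (A * mapGU (conj hF) A) = 1 ↔ _
    rw [f₁_eq_one_iff hF hn, Subgroup.coe_mul, map_mul, mk_mapGU]
  constructor
  · rintro ⟨⟨-, δ, φ, σ, hσ, hδ, hφ, rfl⟩, h2⟩
    obtain ⟨A, rfl⟩ := (Cfsg.Agent.H202.Psu.inndiag_iff δ).1 hδ
    obtain rfl := (Cfsg.Agent.H202.Psu.isFieldAut_iff σ φ).1 hφ
    rw [← toAut_eq] at h2 ⊢
    have h3 : toAut A σ ^ 2 = 1 := by rw [← h2]; exact pow_orderOf_eq_one _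
    obtain ⟨h4, -⟩ := exists_scalar hF hn h3
    have h5 : orderOf σ = 2 := by
      refine orderOf_eq_prime h4 ?_
      rintro rfl
      rw [orderOf_one] at hσ
      exact absurd hσ (by decide)
    obtain rfl := eq_conj hF h5
    exact ⟨A, rfl, (hsq A).1 h3⟩
  · rintro ⟨A, rfl, hA⟩
    refine ⟨⟨hn, f₁ A, f₂ (conj hF), conj hF, ?_, (Cfsg.Agent.H202.Psu.inndiag_iff _).2 ⟨A, rfl⟩,
      (Cfsg.Agent.H202.Psu.isFieldAut_iff _ _).2 rfl, toAut_eq A _⟩, ?_⟩
    · rw [orderOf_conj hF]; exact even_two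
    · refine orderOf_eq_prime ((hsq A).2 hA) ?_
      intro h
      rw [← toAut_one (F := F) (q := q) (n := n)] at h
      obtain ⟨h1, -⟩ := eq_of_toAut_eq hF hn h
      have h2 := orderOf_conj hF
      rw [← h1, orderOf_one] at h2
      omega

variable {F₀ : Type*} [Field F₀]

/-- The Gram matrix `B` over `F₀` is attached to the automorphism `γ`. -/
def Rel (hF : Fintype.card F = q ^ 2) (j : F₀ →+* F) (γ : MulAut (PSU n F q)) (B : GL (Fin n) F₀) : Prop :=
  ∃ (A : GU n F q) (M : GL (Fin n) F), γ = toAut A (conj hF) ∧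
    mk (A : GL (Fin n) F) * barQ (conj hF) (mk M) = mk M ∧
    (ctQ (mk M))⁻¹ * barQ (conj hF) (mk M) = mk (inc j B)

section Rel

variable {hF : Fintype.card F = q ^ 2} {j : F₀ →+* F} {γ γ' : MulAut (PSU n F q)} {B B' : GL (Fin n) F₀}

theorem Rel.graph' (hn : 3 ≤ n) (h : Rel hF j γ B) : IsGraphAutClassPSU γ ∧ orderOf γ = 2 := by
  obtain ⟨A, M, rfl, h1, -⟩ := h
  refine (graph_iff hF hn).2 ⟨A, rfl, ?_⟩
  have h2 : mk (A : GL (Fin n) F) = mk M * (barQ (conj hF) (mk M))⁻¹ := eq_mul_inv_iff_mul_eq.2 h1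
  rw [h2, map_mul, map_inv, barQ_barQ (conj_conj hF)]
  group

theorem Rel.graph (hn : 3 ≤ n) (h : Rel hF j γ B) : IsGraphAutClassPSU γ := (h.graph' hn).1

theorem Rel.order (hn : 3 ≤ n) (h : Rel hF j γ B) : orderOf γ = 2 := (h.graph' hn).2

/-- `b⁻¹ = ctQ b` -/
theorem Rel.ct_gram (h : Rel hF j γ B) : ctQ (mk (inc j B)) = (mk (inc j B))⁻¹ := by
  obtain ⟨A, M, rfl, h1, h2⟩ := h
  have h3 := ctQ_eq_barQ hF A
  have h4 : barQ (conj hF) (mk (inc j B)) = mk (inc j B) := by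
    rw [← h2, map_mul, map_inv, barQ_barQ (conj_conj hF), barQ_ctQ]
    have h5 : barQ (conj hF) (mk M) = (mk (A : GL (Fin n) F))⁻¹ * mk M := by
      rw [eq_inv_mul_iff_mul_eq, h1]
    have h6 : mk (A : GL (Fin n) F) * barQ (conj hF) (mk (A : GL (Fin n) F)) = 1 := by
      have h7 : mk (A : GL (Fin n) F) = mk M * (barQ (conj hF) (mk M))⁻¹ := eq_mul_inv_iff_mul_eq.2 h1
      rw [h7, map_mul, map_inv, barQ_barQ (conj_conj hF)]
      group
    rw [h5, map_mul, map_inv, h3, eq_inv_of_mul_eq_one_right h6]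
    group
  have h5 : barQ (conj hF) (ctQ (mk (inc j B))) = (mk (inc j B))⁻¹ := by
    rw [← h2]
    simp only [map_mul, map_inv, ctQ_ctQ, barQ_barQ (conj_conj hF), barQ_ctQ]
    group
  rw [barQ_ctQ, h4] at h5
  exact h5

/-- The square of `gam B`. -/
theorem gam_sq_iff (hn : 2 ≤ n) (B : GL (Fin n) F₀) : gam B * gam B = 1 ↔
    ctQ (mk (inc j B)) = (mk (inc j B))⁻¹ := by
  have : Nontrivial (Fin n) := Fin.nontrivial_iff_two_le.2 hn
  rw [Cfsg.Agent.H999.PslGraph.gam_mul_gam, Cfsg.Agent.H999.PslGraph.Cj_eq_one_iff, ctQ_mk, ct_inc,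
    ← mul_eq_one_iff_eq_inv, ← map_mul, ← map_mul]
  have h1 : B⁻¹ * (Cfsg.Agent.H999.PslGraph.ct B)⁻¹ = (ct B * B)⁻¹ := by
    rw [_root_.mul_inv_rev]; rfl
  rw [h1, ← map_one mk, ← map_one (inc j), mk_inc_eq_iff (by omega)]
  constructor
  · rintro ⟨c, hc⟩
    have hc0 : c ≠ 0 := Cfsg.Agent.H999.PslGraph.ne_zero_of_coe_eq_smul hc
    refine ⟨(Units.mk0 c hc0)⁻¹, ?_⟩
    have h2 : (ct B * B)⁻¹ = Cfsg.Agent.H202.Descent.scg (Units.mk0 c hc0) := Units.ext hc
    rw [inv_eq_iff_eq_inv] at h2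
    rw [h2]
    rfl
  · rintro ⟨c, hc⟩
    refine ⟨((c⁻¹ : F₀ˣ) : F₀), ?_⟩
    have h2 : ct B * B = Cfsg.Agent.H202.Descent.scg c := Units.ext hc
    rw [h2]
    rfl

/-- `gam B` has order two. -/
theorem Rel.order_gam (hn : 3 ≤ n) (h : Rel hF j γ B) : orderOf (gam B) = 2 := by
  have h1 := (gam_sq_iff (j := j) (by omega) B).2 h.ct_gram
  exact orderOf_eq_prime (by rw [pow_two, h1]) (Cfsg.Agent.H999.PslGraph.gam_ne_one (by simpa using hn) B)

variable (hF) in
/-- **Every involutory graph automorphism has a Gram matrix.** -/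
theorem exists_rel (hn : 3 ≤ n) (hj : ∀ a, conj hF a = a ↔ ∃ b, j b = a) (hγ : IsGraphAutClassPSU γ)
    (hγ2 : orderOf γ = 2) : ∃ B : GL (Fin n) F₀, Rel hF j γ B := by
  have : Nonempty (Fin n) := ⟨⟨0, by omega⟩⟩
  obtain ⟨A, hA, h1⟩ := (graph_iff hF hn).1 ⟨hγ, hγ2⟩
  -- descent
  obtain ⟨M, hM⟩ : ∃ M : GL (Fin n) F, mk (A : GL (Fin n) F) * barQ (conj hF) (mk M) = mk M := by
    rw [barQ_mk, ← map_mul, mk_eq_one_iff] at h1
    obtain ⟨c, hc⟩ := h1
    obtain ⟨d, M, -, hM⟩ := Cfsg.Agent.H202.Descent.exists_descent_scalar (g := (A : GL (Fin n) F))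
      (orderOf_conj hF) two_pos c.ne_zero (by
        intro v
        have h2 : conj hF * conj hF = 1 := by
          ext x
          exact conj_conj hF x
        rw [pow_two, Cfsg.Agent.H202.Descent.sl_mul, h2, Cfsg.Agent.H202.Descent.sl_apply]
        change ((A : GL (Fin n) F) * bar (conj hF) A : GL (Fin n) F).1 *ᵥ v = _
        rw [hc, smul_mulVec, one_mulVec])
    refine ⟨M, ?_⟩
    have h2 := congrArg mk hM
    rw [map_mul, mk_scg_mul] at h2
    exact h2
  have h3 := ctQ_eq_barQ hF A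
  obtain ⟨B, hB⟩ := exists_of_fixed (j := j) (by omega) hj (x := (ctQ (mk M))⁻¹ * barQ (conj hF) (mk M)) (by
    rw [map_mul, map_inv, barQ_barQ (conj_conj hF), barQ_ctQ]
    have h5 : barQ (conj hF) (mk M) = (mk (A : GL (Fin n) F))⁻¹ * mk M := by
      rw [eq_inv_mul_iff_mul_eq, hM]
    rw [h5, map_mul, map_inv, h3, eq_inv_of_mul_eq_one_right h1]
    group)
  exact ⟨B, A, M, hA, hM, hB.symm⟩

/-- **Every `B` with `Bᵀ = ±B` occurs.** -/
theorem exists_of_gram (hF : Fintype.card F = q ^ 2) (hn : 3 ≤ n) (hj : ∀ a, conj hF a = a ↔ ∃ b, j b = a)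
    (hB : orderOf (gam B) = 2) : ∃ γ : MulAut (PSU n F q), Rel hF j γ B := by
  have h1 : (B : Matrix (Fin n) (Fin n) F₀)ᵀ = B ∨ (B : Matrix (Fin n) (Fin n) F₀)ᵀ = -B :=
    (Cfsg.Agent.H999.PslGraph.orderOf_gam (by simpa using hn) B).1 hB
  -- a scalar making `B` hermitian
  obtain ⟨w, hw⟩ : ∃ w : Fˣ, ((((w : F) • (B : Matrix (Fin n) (Fin n) F₀).map j).map (conj hF))ᵀ =
      (w : F) • (B : Matrix (Fin n) (Fin n) F₀).map j) := by
    have hmap : ∀ w : F, ((w • (B : Matrix (Fin n) (Fin n) F₀).map j).map (conj hF))ᵀ =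
        (conj hF w) • ((B : Matrix (Fin n) (Fin n) F₀)ᵀ).map j := by
      intro w
      ext i k
      simp only [Matrix.transpose_apply, Matrix.map_apply, Matrix.smul_apply, smul_eq_mul, map_mul]
      rw [(hj _).2 ⟨_, rfl⟩]
    rcases h1 with h1 | h1
    · refine ⟨1, ?_⟩
      rw [hmap, h1, Units.val_one, map_one]
    · obtain ⟨w, hw0, hw⟩ := exists_trace_zero_ne hF
      refine ⟨Units.mk0 w hw0, ?_⟩
      rw [hmap, h1, Units.val_mk0, conj_apply, eq_neg_of_add_eq_zero_right hw]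
      ext i k
      simp
  obtain ⟨M, hM⟩ := exists_gram hF (Cfsg.Agent.H202.Descent.scg w * inc j B) (by
    rw [Cfsg.Agent.H202.Descent.coe_scg_mul, coe_inc]
    exact hw)
  have h2 : (ctQ (mk M))⁻¹ * barQ (conj hF) (mk M) = mk (inc j B) := by
    have h3 := congrArg mk hM
    rw [mk_scg_mul] at h3
    exact h3
  have h4 : ctQ (mk M) = barQ (conj hF) (mk M) * (mk (inc j B))⁻¹ := by rw [← h2]; group
  have h5 : barQ (conj hF) (mk (inc j B)) = mk (inc j B) := barQ_inc hj B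
  obtain ⟨A, hA⟩ := exists_GU (q := q) hF (by omega) (x := mk M * (barQ (conj hF) (mk M))⁻¹) (by
    rw [map_mul, map_inv, ← barQ_ctQ, h4]
    simp only [map_mul, map_inv, barQ_barQ (conj_conj hF), h5]
    group)
  exact ⟨toAut A (conj hF), A, M, rfl, by rw [hA]; group, h2⟩

/-- Transport from `F` to `F₀`. -/
theorem exists_P (hn : 3 ≤ n) (hj : ∀ a, conj hF a = a ↔ ∃ b, j b = a) {A A' : GU n F q} {M M' : GL (Fin n) F}
    (h1 : mk (A : GL (Fin n) F) * barQ (conj hF) (mk M) = mk M)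
    (h1' : mk (A' : GL (Fin n) F) * barQ (conj hF) (mk M') = mk M') {K : GU n F q}
    (hK : mk (K : GL (Fin n) F) * mk (A : GL (Fin n) F) =
      mk (A' : GL (Fin n) F) * barQ (conj hF) (mk (K : GL (Fin n) F))) :
    ∃ P : GL (Fin n) F₀, mk (K : GL (Fin n) F) * mk M = mk M' * mk (inc j P) := by
  obtain ⟨P, hP⟩ := exists_of_fixed (j := j) (by omega) hj (x := (mk M')⁻¹ * mk (K : GL (Fin n) F) * mk M) (by
    rw [map_mul, map_mul, map_inv]
    have e1 : barQ (conj hF) (mk M) = (mk (A : GL (Fin n) F))⁻¹ * mk M := by rw [eq_inv_mul_iff_mul_eq, h1]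
    have e2 : barQ (conj hF) (mk M') = (mk (A' : GL (Fin n) F))⁻¹ * mk M' := by rw [eq_inv_mul_iff_mul_eq, h1']
    have e3 : barQ (conj hF) (mk (K : GL (Fin n) F)) = (mk (A' : GL (Fin n) F))⁻¹ * mk (K : GL (Fin n) F) * mk (A : GL (Fin n) F) := by
      rw [mul_assoc, hK]; group
    rw [e1, e2, e3]
    group)
  exact ⟨P, by rw [hP]; group⟩

/-- The form under transport. -/
theorem gram_of_P (hj : ∀ a, conj hF a = a ↔ ∃ b, j b = a) {M M' : GL (Fin n) F}
    (h2 : (ctQ (mk M))⁻¹ * barQ (conj hF) (mk M) = mk (inc j B))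
    (h2' : (ctQ (mk M'))⁻¹ * barQ (conj hF) (mk M') = mk (inc j B')) {K : GU n F q} {P : GL (Fin n) F₀}
    (hP : mk (K : GL (Fin n) F) * mk M = mk M' * mk (inc j P)) :
    mk (inc j B) = (ctQ (mk (inc j P)))⁻¹ * mk (inc j B') * mk (inc j P) := by
  have h3 := ctQ_eq_barQ hF K
  have e1 : ctQ (mk M) = barQ (conj hF) (mk M) * (mk (inc j B))⁻¹ := by rw [← h2]; group
  have e2 : ctQ (mk M') = barQ (conj hF) (mk M') * (mk (inc j B'))⁻¹ := by rw [← h2']; group
  have e3 : mk (inc j P) = (mk M')⁻¹ * mk (K : GL (Fin n) F) * mk M := by rw [mul_assoc, hP]; group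
  have e4 : ctQ (mk (inc j P)) = mk (inc j B') * barQ (conj hF) (mk (inc j P)) * (mk (inc j B))⁻¹ := by
    rw [e3, map_mul, map_mul, map_inv, map_mul, map_mul, map_inv, h3, e1, e2]
    group
  rw [barQ_inc hj] at e4
  rw [e4]
  group

/-- Transport from `F₀` to `F`. -/
theorem exists_K (hn : 3 ≤ n) (hj : ∀ a, conj hF a = a ↔ ∃ b, j b = a) {M M' : GL (Fin n) F}
    (h2 : (ctQ (mk M))⁻¹ * barQ (conj hF) (mk M) = mk (inc j B))
    (h2' : (ctQ (mk M'))⁻¹ * barQ (conj hF) (mk M') = mk (inc j B')) {P : GL (Fin n) F₀}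
    (hP : mk (inc j B) = (ctQ (mk (inc j P)))⁻¹ * mk (inc j B') * mk (inc j P)) :
    ∃ K : GU n F q, mk (K : GL (Fin n) F) * mk M = mk M' * mk (inc j P) := by
  obtain ⟨K, hK⟩ := exists_GU (q := q) hF (by omega) (x := mk M' * mk (inc j P) * (mk M)⁻¹) (by
    have e1 : ctQ (mk M) = barQ (conj hF) (mk M) * (mk (inc j B))⁻¹ := by rw [← h2]; group
    have e2 : ctQ (mk M') = barQ (conj hF) (mk M') * (mk (inc j B'))⁻¹ := by rw [← h2']; group
    have e3 : ctQ (mk (inc j P)) = mk (inc j B') * mk (inc j P) * (mk (inc j B))⁻¹ := by rw [hP]; group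
    rw [map_mul, map_mul, map_inv, map_mul, map_mul, map_inv, barQ_inc hj, e1, e2, e3]
    group)
  exact ⟨K, by rw [hK]; group⟩

/-- `K` conjugates one automorphism to the other. -/
theorem comm_of_P (hj : ∀ a, conj hF a = a ↔ ∃ b, j b = a) {A A' : GU n F q} {M M' : GL (Fin n) F}
    (h1 : mk (A : GL (Fin n) F) * barQ (conj hF) (mk M) = mk M)
    (h1' : mk (A' : GL (Fin n) F) * barQ (conj hF) (mk M') = mk M') {K : GU n F q} {P : GL (Fin n) F₀}
    (hP : mk (K : GL (Fin n) F) * mk M = mk M' * mk (inc j P)) :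
    mk (K : GL (Fin n) F) * mk (A : GL (Fin n) F) =
      mk (A' : GL (Fin n) F) * barQ (conj hF) (mk (K : GL (Fin n) F)) := by
  have e1 : mk (A : GL (Fin n) F) = mk M * (barQ (conj hF) (mk M))⁻¹ := by
    rw [eq_mul_inv_iff_mul_eq, h1]
  have e2 : mk (A' : GL (Fin n) F) = mk M' * (barQ (conj hF) (mk M'))⁻¹ := by
    rw [eq_mul_inv_iff_mul_eq, h1']
  have e3 : mk (K : GL (Fin n) F) = mk M' * mk (inc j P) * (mk M)⁻¹ := by rw [← hP]; group
  rw [e1, e2, e3, map_mul, map_mul, map_inv, barQ_inc hj]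
  group

/-- Proportionality over `F₀`, in terms of the forms. -/
theorem gram_iff (hn : 3 ≤ n) {P : GL (Fin n) F₀} :
    mk (inc j B) = (ctQ (mk (inc j P)))⁻¹ * mk (inc j B') * mk (inc j P) ↔
      ∃ c : F₀, c ≠ 0 ∧ (B : Matrix (Fin n) (Fin n) F₀) = c • ((P : Matrix (Fin n) (Fin n) F₀)ᵀ * B' * P) := by
  rw [ctQ_mk, ct_inc, ← map_inv, ← map_inv, ← map_mul, ← map_mul, ← map_mul, ← map_mul, mk_inc_eq_iff (by omega)]
  constructor
  · rintro ⟨c, hc⟩
    refine ⟨c, c.ne_zero, ?_⟩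
    rw [hc, Units.val_mul, Units.val_mul, coe_ct_inv]
  · rintro ⟨c, hc0, hc⟩
    refine ⟨Units.mk0 c hc0, ?_⟩
    rw [hc, Units.val_mul, Units.val_mul, coe_ct_inv, Units.val_mk0]

/-- **Conjugacy.** -/
theorem Rel.isConj_iff (hn : 3 ≤ n) (hj : ∀ a, conj hF a = a ↔ ∃ b, j b = a) (h : Rel hF j γ B)
    (h' : Rel hF j γ' B') :
    IsConjUnder (inndiagPSU n F q) γ γ' ↔ IsConjUnder (inndiagPSL n F₀) (gam B) (gam B') := by
  rw [Cfsg.Agent.H999.PslGraph.isConj_iff (by omega)]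
  obtain ⟨A, M, rfl, h1, h2⟩ := h
  obtain ⟨A', M', rfl, h1', h2'⟩ := h'
  have key : ∀ K : GU n F q, toAut A' (conj hF) = f₁ K * toAut A (conj hF) * (f₁ K)⁻¹ ↔
      mk (K : GL (Fin n) F) * mk (A : GL (Fin n) F) =
      mk (A' : GL (Fin n) F) * barQ (conj hF) (mk (K : GL (Fin n) F)) := by
    intro K
    rw [f₁_conj, toAut_eq_iff hF hn, Subgroup.coe_mul, Subgroup.coe_mul, Subgroup.coe_inv, map_mul, map_mul,
      map_inv, mk_mapGU, eq_mul_inv_iff_mul_eq]
    exact eq_comm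
  constructor
  · rintro ⟨x, hx, hx'⟩
    rw [Cfsg.Agent.H202.Psu.inndiag_eq] at hx
    obtain ⟨K, rfl⟩ := hx
    have h3 := (key K).1 hx'
    obtain ⟨P, hP⟩ := exists_P hn hj h1 h1' h3
    obtain ⟨c, hc0, hc⟩ := (gram_iff hn).1 (gram_of_P hj h2 h2' hP)
    refine ⟨P⁻¹, c⁻¹, inv_ne_zero hc0, ?_⟩
    rw [hc, Matrix.mul_smul, Matrix.smul_mul, smul_smul, inv_mul_cancel₀ hc0, one_smul]
    have e1 : (((P⁻¹ : GL (Fin n) F₀) : Matrix (Fin n) (Fin n) F₀)ᵀ * (P : Matrix (Fin n) (Fin n) F₀)ᵀ) = 1 := by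
      rw [← transpose_mul, ← Units.val_mul, mul_inv_cancel, Units.val_one, transpose_one]
    have e2 : (P : Matrix (Fin n) (Fin n) F₀) * ((P⁻¹ : GL (Fin n) F₀) : Matrix (Fin n) (Fin n) F₀) = 1 := by
      rw [← Units.val_mul, mul_inv_cancel, Units.val_one]
    calc (B' : Matrix (Fin n) (Fin n) F₀) = (((P⁻¹ : GL (Fin n) F₀) : Matrix (Fin n) (Fin n) F₀)ᵀ *
          (P : Matrix (Fin n) (Fin n) F₀)ᵀ) * B' *
          ((P : Matrix (Fin n) (Fin n) F₀) * ((P⁻¹ : GL (Fin n) F₀) : Matrix (Fin n) (Fin n) F₀)) := by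
            rw [e1, e2, Matrix.one_mul, Matrix.mul_one]
      _ = _ := by simp only [Matrix.mul_assoc]
  · rintro ⟨P, c, hc0, hc⟩
    obtain ⟨K, hK⟩ := exists_K (P := P) (hF := hF) hn hj h2' h2 ((gram_iff hn).2 ⟨c, hc0, hc⟩)
    have h3 := comm_of_P hj h1' h1 hK
    refine ⟨f₁ K⁻¹, ?_, (key K⁻¹).2 ?_⟩
    · rw [Cfsg.Agent.H202.Psu.inndiag_eq]
      exact ⟨K⁻¹, rfl⟩
    · rw [Subgroup.coe_inv, map_inv, map_inv, inv_mul_eq_iff_eq_mul, ← mul_assoc, h3]
      group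

/-- The elements of `GU` whose automorphism commutes with `γ`. -/
theorem mem_centralizer_iff (hn : 3 ≤ n) (hj : ∀ a, conj hF a = a ↔ ∃ b, j b = a) {A : GU n F q} {M : GL (Fin n) F}
    (h1 : mk (A : GL (Fin n) F) * barQ (conj hF) (mk M) = mk M) (K : GU n F q) :
    f₁ K ∈ Subgroup.centralizer {toAut A (conj hF)} ↔
      ∃ P : GL (Fin n) F₀, mk (K : GL (Fin n) F) * mk M = mk M * mk (inc j P) := by
  rw [Subgroup.mem_centralizer_singleton_iff]
  have key : f₁ K * toAut A (conj hF) = toAut A (conj hF) * f₁ K ↔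
      mk (K : GL (Fin n) F) * mk (A : GL (Fin n) F) =
      mk (A : GL (Fin n) F) * barQ (conj hF) (mk (K : GL (Fin n) F)) := by
    rw [← mul_inv_eq_iff_eq_mul, f₁_conj, toAut_eq_iff hF hn, Subgroup.coe_mul, Subgroup.coe_mul,
      Subgroup.coe_inv, map_mul, map_mul, map_inv, mk_mapGU, mul_inv_eq_iff_eq_mul]
  rw [key]
  constructor
  · intro h
    exact exists_P hn hj h1 h1 h
  · rintro ⟨P, hP⟩
    exact comm_of_P hj h1 h1 hP

/-- The pairs `(K, P)` with `K M = M P` modulo scalars. -/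
def pairs (j : F₀ →+* F) (q : ℕ) (M : GL (Fin n) F) : Subgroup (GU n F q × GL (Fin n) F₀) :=
  MonoidHom.eqLocus (((MulAut.conj (mk M)⁻¹).toMonoidHom.comp mk).comp ((GU n F q).subtype.comp (MonoidHom.fst _ _)))
    ((mk.comp (inc j)).comp (MonoidHom.snd _ _))

theorem mem_pairs {M : GL (Fin n) F} {x : GU n F q × GL (Fin n) F₀} :
    x ∈ pairs j q M ↔ mk (x.1 : GL (Fin n) F) * mk M = mk M * mk (inc j x.2) := by
  change (mk M)⁻¹ * mk (x.1 : GL (Fin n) F) * (mk M)⁻¹⁻¹ = mk (inc j x.2) ↔ _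
  rw [inv_inv, mul_assoc, inv_mul_eq_iff_eq_mul]

/-- Two homomorphic images with the same kernel. -/
theorem equiv_of_ker {G H K : Type*} [Group G] [Group H] [Group K] (f : G →* H) (g : G →* K) (h : f.ker = g.ker) :
    Nonempty (f.range ≃* g.range) :=
  ⟨((QuotientGroup.quotientKerEquivRange f).symm.trans (QuotientGroup.quotientMulEquivOfEq h)).trans
    (QuotientGroup.quotientKerEquivRange g)⟩

/-- **The centralizers.** -/
theorem Rel.centEquiv (hn : 3 ≤ n) (hj : ∀ a, conj hF a = a ↔ ∃ b, j b = a) (h : Rel hF j γ B) :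
    Nonempty (↥(inndiagPSU n F q ⊓ Subgroup.centralizer {γ}) ≃*
      ↥(inndiagPSL n F₀ ⊓ Subgroup.centralizer {gam B})) := by
  obtain ⟨A, M, rfl, h1, h2⟩ := h
  let R := pairs j q M
  let f : R →* MulAut (PSU n F q) := (f₁.comp (MonoidHom.fst _ _)).comp R.subtype
  let g : R →* MulAut (Matrix.ProjectiveSpecialLinearGroup (Fin n) F₀) := (Cj.comp (MonoidHom.snd _ _)).comp R.subtype
  have : Nontrivial (Fin n) := Fin.nontrivial_iff_two_le.2 (by omega)
  have hker : f.ker = g.ker := by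
    ext ⟨⟨K, P⟩, hx⟩
    rw [mem_pairs] at hx
    rw [MonoidHom.mem_ker, MonoidHom.mem_ker]
    change f₁ K = 1 ↔ Cj P = 1
    rw [f₁_eq_one_iff hF hn, Cfsg.Agent.H999.PslGraph.Cj_eq_one_iff]
    have h3 : mk (K : GL (Fin n) F) = 1 ↔ mk (inc j P) = 1 := by
      constructor
      · intro h
        rw [h, one_mul] at hx
        exact (mul_eq_left.1 hx.symm)
      · intro h
        rw [h, mul_one] at hx
        exact mul_eq_right.1 hx
    rw [h3, ← map_one mk, ← map_one (inc j), mk_inc_eq_iff (by omega)]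
    constructor
    · rintro ⟨c, hc⟩
      exact ⟨c, hc⟩
    · rintro ⟨c, hc⟩
      exact ⟨Units.mk0 c (Cfsg.Agent.H999.PslGraph.ne_zero_of_coe_eq_smul hc), hc⟩
  have hf : f.range = inndiagPSU n F q ⊓ Subgroup.centralizer {toAut A (conj hF)} := by
    rw [Cfsg.Agent.H202.Psu.inndiag_eq]
    apply le_antisymm
    · rintro _ ⟨⟨⟨K, P⟩, hx⟩, rfl⟩
      rw [mem_pairs] at hx
      exact ⟨⟨K, rfl⟩, (mem_centralizer_iff hn hj h1 K).2 ⟨P, hx⟩⟩
    · rintro _ ⟨⟨K, rfl⟩, hK⟩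
      obtain ⟨P, hP⟩ := (mem_centralizer_iff hn hj h1 K).1 hK
      exact ⟨⟨⟨K, P⟩, mem_pairs.2 hP⟩, rfl⟩
  have hg : g.range = inndiagPSL n F₀ ⊓ Subgroup.centralizer {gam B} := by
    rw [Cfsg.Agent.H999.PslGraph.inndiag_eq]
    have hmem : ∀ P : GL (Fin n) F₀, Cj P ∈ Subgroup.centralizer {gam B} ↔
        mk (inc j B) = (ctQ (mk (inc j P)))⁻¹ * mk (inc j B) * mk (inc j P) := by
      intro P
      rw [Cfsg.Agent.H999.PslGraph.mem_centralizer_iff (by omega), gram_iff hn]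
      constructor
      · rintro ⟨c, hc0, hc⟩
        exact ⟨c⁻¹, inv_ne_zero hc0, by rw [hc, smul_smul, inv_mul_cancel₀ hc0, one_smul]⟩
      · rintro ⟨c, hc0, hc⟩
        refine ⟨c⁻¹, inv_ne_zero hc0, ?_⟩
        nth_rewrite 2 [hc]
        rw [smul_smul, inv_mul_cancel₀ hc0, one_smul]
    apply le_antisymm
    · rintro _ ⟨⟨⟨K, P⟩, hx⟩, rfl⟩
      rw [mem_pairs] at hx
      exact ⟨⟨P, rfl⟩, (hmem P).2 (gram_of_P hj h2 h2 hx)⟩
    · rintro _ ⟨⟨P, rfl⟩, hP⟩
      obtain ⟨K, hK⟩ := exists_K (P := P) (hF := hF) hn hj h2 h2 ((hmem P).1 hP)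
      exact ⟨⟨⟨K, P⟩, mem_pairs.2 hK⟩, rfl⟩
  rw [← hf, ← hg]
  exact equiv_of_ker f g hker

end Rel

end Cfsg.Agent.H201.PsuGraph
end
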