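import Mathlib
import Cfsg.Agent.H630.Cross
import Cfsg.Agent.H458.FieldKill
import Cfsg.Agent.LieClassical.GUOrder
import Cfsg.Agent.S0277
import Cfsg.Agent.H749.BlockOrth_m3
import Cfsg.Agent.H954.FieldSub
import Cfsg.Agent.H377.OddThree_m3
import Cfsg.Agent.S0286
import Cfsg.Agent.S0287
import Cfsg.Agent.S0288
import Cfsg.Agent.H169.CycDvd
import Cfsg.Agent.H159.AlgUnits
import Cfsg.Prelude.Def_Sz
import Cfsg.Prelude.Def_LieTwisted
import Cfsg.Agent.S0331
import Cfsg.Agent.S0332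
import Cfsg.Agent.S1069
import Cfsg.Agent.S1158
import Cfsg.Agent.OddCyclic.ClaimC.SzIso
import Cfsg.Agent.FastGrp
import Cfsg.Agent.Prune
set_option linter.all false

section
prune_inst 0x7fbde8fc39b841dfffff7e77a694cdfc18901fffa4dee943ffe041ff0b9f030009c1638109e010fc0e82c01410a87803797eceffe06bd87ffffd1df41ffbee0fa5e6b108119080240f340ff683f0778a7f3ffffffffcffffffffffffffffffbeffbdfffffffd

-- part: H201/RowSU
section
prune_inst 0x1401800584000000018008491001e02e6000080110b800082800a400688ac0041808620200021054000804400300828021000a000400000042004000119008010c0060060c10000000010000080000000000000300000000000000000000000000000002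
set_option linter.all false
open scoped Cfsg.Agent.FastGrp

-- part: H201/MatSpec
section
/-!
# Eigenvalues of matrices over an algebraic closure (helper201)

`sp φ A` : the spectrum of the matrix `A` over `F`, seen over an algebraically closed field `K` by `φ : F →+* K`.
-/

set_option autoImplicit false

namespace Cfsg.Agent.H201.MatSpec

open Matrix Polynomial

variable {F K : Type*} [Field F] [Field K] (φ : F →+* K)
variable {m n : Type*} [Fintype m] [DecidableEq m] [Fintype n] [DecidableEq n]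

/-- the eigenvalues of `A` in `K` -/
def sp (A : Matrix n n F) : Set K := spectrum K (A.map φ)

variable {φ}

theorem mem_sp_iff_det {A : Matrix n n F} {z : K} : z ∈ sp φ A ↔ (z • (1 : Matrix n n K) - A.map φ).det = 0 := by
  unfold sp
  rw [spectrum.mem_iff, Algebra.algebraMap_eq_smul_one, Matrix.isUnit_iff_isUnit_det, isUnit_iff_ne_zero, not_not]

theorem mem_sp_iff {A : Matrix n n F} {z : K} : z ∈ sp φ A ↔ A.charpoly.eval₂ φ z = 0 := by
  unfold sp
  rw [Matrix.mem_spectrum_iff_isRoot_charpoly, Matrix.charpoly_map, IsRoot.def, eval_map]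

theorem sp_finite (A : Matrix n n F) : (sp φ A).Finite := Matrix.finite_spectrum _

theorem sp_ncard_le (A : Matrix n n F) : (sp φ A).ncard ≤ Fintype.card n := by
  classical
  have h1 : sp φ A ⊆ ((A.map φ).charpoly.roots.toFinset : Set K) := by
    intro z hz
    have h2 := Matrix.mem_spectrum_iff_isRoot_charpoly.1 hz
    rw [Finset.mem_coe, Multiset.mem_toFinset, mem_roots ((A.map φ).charpoly_monic.ne_zero)]
    exact h2
  calc (sp φ A).ncard ≤ ((A.map φ).charpoly.roots.toFinset : Set K).ncard :=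
        Set.ncard_le_ncard h1 (Finset.finite_toSet _)
    _ = (A.map φ).charpoly.roots.toFinset.card := Set.ncard_coe_finset _
    _ ≤ Multiset.card (A.map φ).charpoly.roots := Multiset.toFinset_card_le _
    _ ≤ (A.map φ).charpoly.natDegree := card_roots' _
    _ = Fintype.card n := Matrix.charpoly_natDegree_eq_dim _

theorem sp_one : sp φ (1 : Matrix n n F) ⊆ {1} := by
  intro z hz
  have h0 : z • (1 : Matrix n n K) - 1 = (z - 1) • (1 : Matrix n n K) := by rw [sub_smul, one_smul]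
  rw [mem_sp_iff_det, Matrix.map_one _ (map_zero φ) (map_one φ), h0, Matrix.det_smul, Matrix.det_one,
    mul_one] at hz
  rw [Set.mem_singleton_iff]
  by_contra hne
  exact pow_ne_zero _ (sub_ne_zero.2 hne) hz

theorem map_pow (A : Matrix n n F) (j : ℕ) : (A ^ j).map φ = (A.map φ) ^ j := by
  have := _root_.map_pow φ.mapMatrix A j
  exact this

theorem sp_pow [IsAlgClosed K] (A : Matrix n n F) {j : ℕ} (hj : 0 < j) :
    sp φ (A ^ j) = (fun z => z ^ j) '' sp φ A := by
  unfold sp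
  rw [map_pow]
  exact spectrum.map_pow_of_pos _ hj

theorem sp_fromBlocks (A : Matrix m m F) (B : Matrix n n F) :
    sp φ (fromBlocks A 0 0 B) = sp φ A ∪ sp φ B := by
  ext z
  rw [Set.mem_union, mem_sp_iff, mem_sp_iff, mem_sp_iff, Matrix.charpoly_fromBlocks_zero₁₂, eval₂_mul, mul_eq_zero]

theorem sp_conj {P : Matrix m n F} {P' : Matrix n m F} (h1 : P * P' = 1) (h2 : P' * P = 1) (A : Matrix n n F) :
    sp φ (P * A * P') = sp φ A := by
  ext z
  rw [mem_sp_iff_det, mem_sp_iff_det]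
  have e1 : P.map φ * P'.map φ = 1 := by
    rw [← Matrix.map_mul, h1, Matrix.map_one _ (map_zero φ) (map_one φ)]
  have e2 : P'.map φ * P.map φ = 1 := by
    rw [← Matrix.map_mul, h2, Matrix.map_one _ (map_zero φ) (map_one φ)]
  have e3 : z • (1 : Matrix m m K) - (P * A * P').map φ =
      P.map φ * (z • (1 : Matrix n n K) - A.map φ) * P'.map φ := by
    rw [Matrix.mul_sub, Matrix.sub_mul, Matrix.map_mul, Matrix.map_mul, Matrix.mul_smul, Matrix.mul_one,
      Matrix.smul_mul, e1]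
  rw [e3, Matrix.det_conj_of_mul_eq_one e1 e2]

theorem sp_transpose (A : Matrix n n F) : sp φ Aᵀ = sp φ A := by
  ext z
  rw [mem_sp_iff, mem_sp_iff, Matrix.charpoly_transpose]

theorem sp_inv {A B : Matrix n n F} (h : A * B = 1) {z : K} (hz : z ∈ sp φ A) : z ≠ 0 ∧ z⁻¹ ∈ sp φ B := by
  have h' : B * A = 1 := mul_eq_one_comm.1 h
  have e1 : A.map φ * B.map φ = 1 := by
    rw [← Matrix.map_mul, h, Matrix.map_one _ (map_zero φ) (map_one φ)]
  have hz0 : z ≠ 0 := by
    rintro rfl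
    rw [mem_sp_iff_det, zero_smul, zero_sub] at hz
    have h2 : (-(A.map φ) * -(B.map φ)).det = 1 := by rw [neg_mul_neg, e1, Matrix.det_one]
    rw [Matrix.det_mul, hz, zero_mul] at h2
    exact zero_ne_one h2
  refine ⟨hz0, ?_⟩
  rw [mem_sp_iff_det] at hz ⊢
  have e2 : (z • (1 : Matrix n n K) - A.map φ) * ((-z⁻¹) • B.map φ) = z⁻¹ • (1 : Matrix n n K) - B.map φ := by
    rw [Matrix.sub_mul, Matrix.smul_mul, Matrix.one_mul, Matrix.mul_smul, e1, smul_smul, mul_neg,
      mul_inv_cancel₀ hz0, neg_one_smul, neg_smul, sub_neg_eq_add, add_comm, sub_eq_add_neg]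
  rw [← e2, Matrix.det_mul, hz, zero_mul]

/-- the Frobenius automorphism -/
theorem sp_frob [Fintype F] (A : Matrix n n F) {z : K} (hz : z ∈ sp φ A) : z ^ Fintype.card F ∈ sp φ A := by
  rw [mem_sp_iff] at hz ⊢
  have h1 := FiniteField.expand_card (K := F) A.charpoly
  have h2 := congrArg (Polynomial.eval₂ φ z) h1
  rw [Polynomial.expand_eq_comp_X_pow, eval₂_comp, eval₂_pow, eval₂_pow, eval₂_X, hz,
    zero_pow Fintype.card_ne_zero] at h2
  exact h2

/-- a power of the Frobenius endomorphism -/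
theorem sp_map {p k : ℕ} [Fact p.Prime] [CharP F p] [CharP K p] (σ : F →+* F) (hσ : ∀ x, σ x = x ^ p ^ k)
    (A : Matrix n n F) {z : K} (hz : z ∈ sp φ A) : z ^ p ^ k ∈ sp φ (A.map σ) := by
  rw [mem_sp_iff] at hz ⊢
  rw [Matrix.charpoly_map, eval₂_map]
  have h1 : φ.comp σ = (iterateFrobenius K p k).comp φ := by
    ext x
    rw [RingHom.comp_apply, RingHom.comp_apply, hσ, _root_.map_pow, iterateFrobenius_def]
  have h2 : z ^ p ^ k = iterateFrobenius K p k z := by rw [iterateFrobenius_def]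
  rw [h1, h2, ← Polynomial.hom_eval₂, hz, map_zero]

/-- **Sylvester** -/
theorem sylvester [IsAlgClosed K] {A : Matrix m m F} {B : Matrix n n F} {X : Matrix m n F} (h : A * X = X * B)
    (hd : Disjoint (sp φ A) (sp φ B)) : X = 0 := by
  rcases isEmpty_or_nonempty n with hn | hn
  · ext i j
    exact hn.elim j
  · set A' := A.map φ with hA'
    set B' := B.map φ with hB'
    set X' := X.map φ with hX'
    have h1 : A' * X' = X' * B' := by
      rw [hA', hB', hX', ← Matrix.map_mul, ← Matrix.map_mul, h]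
    have h2 : ∀ p : K[X], aeval A' p * X' = X' * aeval B' p := by
      intro p
      induction p using Polynomial.induction_on' with
      | add p q hp hq => rw [map_add, map_add, Matrix.add_mul, Matrix.mul_add, hp, hq]
      | monomial k a =>
        rw [aeval_monomial, aeval_monomial, Algebra.algebraMap_eq_smul_one, Algebra.algebraMap_eq_smul_one,
          smul_mul_assoc, smul_mul_assoc, one_mul, one_mul, Matrix.smul_mul, Matrix.mul_smul]
        congr 1
        induction k with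
        | zero => rw [pow_zero, pow_zero, Matrix.one_mul, Matrix.mul_one]
        | succ k ih => rw [pow_succ, Matrix.mul_assoc, h1, ← Matrix.mul_assoc, ih, Matrix.mul_assoc, ← pow_succ]
    have h3 := h2 B'.charpoly
    rw [Matrix.aeval_self_charpoly, Matrix.mul_zero] at h3
    have h4 : IsUnit (aeval A' B'.charpoly) := by
      by_contra hu
      rw [← spectrum.zero_mem_iff K, spectrum.map_polynomial_aeval_of_degree_pos] at hu
      · obtain ⟨z, hz, hz0⟩ := hu
        have hz0' : B'.charpoly.IsRoot z := hz0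
        rw [← Matrix.mem_spectrum_iff_isRoot_charpoly] at hz0'
        exact Set.disjoint_left.1 hd hz hz0'
      · rw [Matrix.charpoly_degree_eq_dim]
        exact_mod_cast Fintype.card_pos
    obtain ⟨U, hU⟩ := h4
    have h5 : X' = 0 := by
      have h6 : (↑U⁻¹ : Matrix m m K) * (aeval A' B'.charpoly * X') = 0 := by rw [h3, Matrix.mul_zero]
      rw [← Matrix.mul_assoc, ← hU, Units.inv_mul, Matrix.one_mul] at h6
      exact h6
    have h7 : X.map φ = (0 : Matrix m n F).map φ := by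
      rw [Matrix.map_zero _ (map_zero φ)]
      exact h5
    exact Matrix.map_injective φ.injective h7

/-- `p'`-elements different from `1` have an eigenvalue different from `1`. -/
theorem exists_ne_one [IsAlgClosed K] {p : ℕ} [Fact p.Prime] [CharP F p] {t : ℕ} (ht : t.Prime) (htp : t ≠ p)
    (A : Matrix n n F) (hA : A ^ t = 1) (hA1 : A ≠ 1) : ∃ z ∈ sp φ A, z ≠ 1 := by
  by_contra hcon
  push Not at hcon
  have hpK : CharP K p := charP_of_injective_ringHom φ.injective p
  set A' := A.map φ with hA'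
  have h1 : A'.charpoly = (X - C (1 : K)) ^ Fintype.card n := by
    have hs := (IsAlgClosed.splits A'.charpoly).eq_prod_roots_of_monic A'.charpoly_monic
    have hr : A'.charpoly.roots = Multiset.replicate (Multiset.card A'.charpoly.roots) 1 := by
      rw [Multiset.eq_replicate]
      refine ⟨rfl, fun z hz => ?_⟩
      rw [mem_roots A'.charpoly_monic.ne_zero] at hz
      exact hcon z (Matrix.mem_spectrum_iff_isRoot_charpoly.2 hz)
    have hc : Multiset.card A'.charpoly.roots = Fintype.card n := by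
      rw [← (IsAlgClosed.splits A'.charpoly).natDegree_eq_card_roots, Matrix.charpoly_natDegree_eq_dim]
    rw [hs, hr, Multiset.map_replicate, Multiset.prod_replicate, hc]
  have h2 : (A' - 1) ^ Fintype.card n = 0 := by
    have := Matrix.aeval_self_charpoly A'
    rw [h1, _root_.map_pow, map_sub, aeval_X, aeval_C, map_one] at this
    exact this
  rcases isEmpty_or_nonempty n with hn | hn
  · exact hA1 (Matrix.ext fun i => hn.elim i)
  have h3 : (A' - 1) ^ p ^ Fintype.card n = 0 := by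
    have hle : Fintype.card n ≤ p ^ Fintype.card n := (Nat.lt_pow_self (Fact.out : p.Prime).one_lt).le
    rw [← Nat.add_sub_cancel' hle, pow_add, h2, zero_mul]
  have hchar : CharP (Matrix n n K) p := by infer_instance
  rw [sub_pow_char_pow_of_commute p _ (Commute.one_right A'), one_pow, sub_eq_zero] at h3
  have h4 : A ^ p ^ Fintype.card n = 1 := by
    have h5 : (A ^ p ^ Fintype.card n).map φ = (1 : Matrix n n F).map φ := by
      rw [map_pow, Matrix.map_one _ (map_zero φ) (map_one φ)]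
      exact h3
    exact Matrix.map_injective φ.injective h5
  have h5 : orderOf A ∣ Nat.gcd t (p ^ Fintype.card n) :=
    Nat.dvd_gcd (orderOf_dvd_of_pow_eq_one hA) (orderOf_dvd_of_pow_eq_one h4)
  have h6 : Nat.gcd t (p ^ Fintype.card n) = 1 :=
    Nat.Coprime.pow_right _ ((Nat.coprime_primes ht Fact.out).2 htp)
  rw [h6, Nat.dvd_one, orderOf_eq_one_iff] at h5
  exact hA1 h5

/-- Matrices commuting with a matrix with distinct eigenvalues commute. -/
theorem comm_of_ncard {A U V : Matrix n n F} (hA : (sp φ A).ncard = Fintype.card n) (hU : A * U = U * A)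
    (hV : A * V = V * A) : U * V = V * U := by
  set A' := A.map φ with hA'
  have hmem : ∀ z ∈ sp φ A, ∃ w : n → K, w ≠ 0 ∧ A' *ᵥ w = z • w := by
    intro z hz
    rw [mem_sp_iff_det] at hz
    obtain ⟨w, hw, hw0⟩ := Matrix.exists_mulVec_eq_zero_iff.2 hz
    refine ⟨w, hw, ?_⟩
    rw [Matrix.sub_mulVec, Matrix.smul_mulVec, Matrix.one_mulVec, sub_eq_zero] at hw0
    exact hw0.symm
  choose! b hb0 hb using hmem
  have hfin : Finite (sp φ A) := sp_finite A
  have hft : Fintype (sp φ A) := Fintype.ofFinite _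
  set b' : sp φ A → (n → K) := fun z => b z with hb'
  have hli : LinearIndependent K b' := by
    refine Module.End.eigenvectors_linearIndependent' (Matrix.toLin' A') (fun z : sp φ A => (z : K))
      Subtype.val_injective b' (fun z => ?_)
    rw [Module.End.hasEigenvector_iff, Module.End.mem_eigenspace_iff, Matrix.toLin'_apply]
    exact ⟨hb z z.2, hb0 z z.2⟩
  have hcard : Fintype.card (sp φ A) = Module.finrank K (n → K) := by
    rw [Module.finrank_fintype_fun_eq_card, ← hA, ← Nat.card_eq_fintype_card, Nat.card_coe_set_eq]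
  have hspan : Submodule.span K (Set.range b') = ⊤ := hli.span_eq_top_of_card_eq_finrank' hcard
  -- eigenspaces are one-dimensional
  have key : ∀ z ∈ sp φ A, ∀ w : n → K, A' *ᵥ w = z • w → ∃ c : K, w = c • b z := by
    intro z hz w hw
    have hw1 : w ∈ Submodule.span K (Set.range b') := hspan ▸ Submodule.mem_top
    obtain ⟨f, hf⟩ := (Submodule.mem_span_range_iff_exists_fun K).1 hw1
    have h1 : ∑ i, (f i * ((i : K) - z)) • b' i = 0 := by
      have h2 : A' *ᵥ w = ∑ i, (f i * (i : K)) • b' i := by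
        rw [← hf, Matrix.mulVec_sum]
        refine Finset.sum_congr rfl fun i _ => ?_
        rw [Matrix.mulVec_smul, hb i i.2, smul_smul]
      rw [hw, ← hf, Finset.smul_sum] at h2
      simp only [mul_sub, sub_smul, Finset.sum_sub_distrib]
      rw [← h2, sub_eq_zero]
      refine Finset.sum_congr rfl fun i _ => ?_
      rw [smul_smul, mul_comm]
    have h3 := Fintype.linearIndependent_iff.1 hli _ h1
    refine ⟨f ⟨z, hz⟩, ?_⟩
    rw [← hf, Finset.sum_eq_single ⟨z, hz⟩]
    · intro i _ hi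
      have h4 := h3 i
      rw [mul_eq_zero] at h4
      rcases h4 with h4 | h4
      · rw [h4, zero_smul]
      · exact absurd (Subtype.ext (sub_eq_zero.1 h4)) hi
    · intro h
      exact absurd (Finset.mem_univ _) h
  have hX : ∀ W : Matrix n n F, A * W = W * A → ∀ z ∈ sp φ A, ∃ c : K, W.map φ *ᵥ b z = c • b z := by
    intro W hW z hz
    refine key z hz _ ?_
    have h1 : A' * W.map φ = W.map φ * A' := by rw [hA', ← Matrix.map_mul, hW, Matrix.map_mul]
    rw [Matrix.mulVec_mulVec, h1, ← Matrix.mulVec_mulVec, hb z hz, Matrix.mulVec_smul]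
  have h2 : (U * V).map φ = (V * U).map φ := by
    apply Matrix.toLin'.injective
    refine LinearMap.ext_on_range (v := b') hspan (fun i => ?_)
    obtain ⟨c, hc⟩ := hX U hU i i.2
    obtain ⟨d, hd⟩ := hX V hV i i.2
    rw [Matrix.toLin'_apply, Matrix.toLin'_apply, Matrix.map_mul, Matrix.map_mul, ← Matrix.mulVec_mulVec,
      ← Matrix.mulVec_mulVec]
    show U.map φ *ᵥ (V.map φ *ᵥ b i) = V.map φ *ᵥ (U.map φ *ᵥ b i)
    rw [hc, hd, Matrix.mulVec_smul, Matrix.mulVec_smul, hc, hd, smul_smul, smul_smul, mul_comm]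
  exact Matrix.map_injective φ.injective h2

end Cfsg.Agent.H201.MatSpec
end

-- part: H201/BlockSys
section
/-!
# Systems of groups with block decompositions (helper201)

An abstract framework for the rows of `GL`, `GU`, `Sp`, `O` in `CrossRow` (S4597, S4599, S4600).
`Sys r` : a family of finite groups `G c` (isometry groups of spaces `c`), with a "spectrum" `E x`, embeddings
`β : G a × G b →* G c` if `c` is the orthogonal sum of `a` and `b`, for every odd prime `s ≠ r` the smallest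
space `M s` with `s ∣ |G (M s)|`, and the number `N m c` of copies of the space `m` in `c`.
-/

set_option autoImplicit false
open Subgroup
open scoped Pointwise

namespace Cfsg.Agent.H201.BlockSys

universe u v

/-- `a` is the orthogonal sum of `k` copies of `m`. -/
inductive Pow {I : Type} (Dec : I → I → I → Prop) (dim : I → ℕ) (m : I) : ℕ → I → Prop
  | zero (a : I) (h : dim a = 0) : Pow Dec dim m 0 a
  | succ (k : ℕ) (a b : I) (h : Dec m b a) (hb : Pow Dec dim m k b) : Pow Dec dim m (k + 1) a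

/-- A system of groups with block decompositions. -/
structure Sys (r : ℕ) where
  I : Type
  G : I → Type u
  [grp : ∀ c, Group (G c)]
  [fin : ∀ c, Finite (G c)]
  K : Type v
  [fld : Field K]
  /-- the eigenvalues -/
  E : ∀ {c : I}, G c → Set K
  dim : I → ℕ
  E_fin : ∀ {c : I} (x : G c), (E x).Finite
  E_card : ∀ {c : I} (x : G c), (E x).ncard ≤ dim c
  E_one : ∀ c : I, E (1 : G c) ⊆ {1}
  E_pow : ∀ {c : I} (x : G c) (j : ℕ), 0 < j → E (x ^ j) = (fun z => z ^ j) '' E x
  E_ne : ∀ {c : I} (x : G c) (t : ℕ), t.Prime → t ≠ r → x ^ t = 1 → x ≠ 1 → ∃ z ∈ E x, z ≠ 1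
  /-- exponents -/
  H : ∀ t : ℕ, Subgroup (ZMod t)ˣ
  E_H : ∀ {c : I} (x : G c) (t : ℕ), t.Prime → ∀ h ∈ H t, ∀ z ∈ E x, z ^ t = 1 → z ^ (h : ZMod t).val ∈ E x
  ab : ∀ {c : I} (x u v : G c), (E x).ncard = dim c → x * u = u * x → x * v = v * x → u * v = v * u
  Dec : I → I → I → Prop
  β : ∀ {a b c : I}, Dec a b c → G a × G b →* G c
  β_inj : ∀ {a b c : I} (h : Dec a b c), Function.Injective (β h)
  E_β : ∀ {a b c : I} (h : Dec a b c) (x : G a) (y : G b), E (β h (x, y)) = E x ∪ E y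
  cp : ∀ {a b c : I} (h : Dec a b c) (x : G a) (y : G b) (g : G c), Disjoint (E x) (E y) →
    g * β h (x, y) = β h (x, y) * g → ∃ u v, g = β h (u, v)
  M : ℕ → I
  N : I → I → ℕ
  v : ℕ → ℕ
  v_pos : ∀ s : ℕ, s.Prime → s ≠ 2 → s ≠ r → 0 < v s
  fac : ∀ s : ℕ, s.Prime → s ≠ 2 → s ≠ r → ∀ c : I,
    (Nat.card (G c)).factorization s = N (M s) c * v s + (N (M s) c).factorial.factorization s
  N_M : ∀ s : ℕ, s.Prime → s ≠ 2 → s ≠ r → N (M s) (M s) = 1
  split1 : ∀ s : ℕ, s.Prime → s ≠ 2 → s ≠ r → ∀ c : I, N (M s) c ≠ 0 →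
    ∃ c' : I, Dec (M s) c' c ∧ N (M s) c' + 1 = N (M s) c
  splitN : ∀ s : ℕ, s.Prime → s ≠ 2 → s ≠ r → ∀ (c : I) (k : ℕ), k ≤ N (M s) c →
    ∃ a b : I, Dec a b c ∧ Pow Dec dim (M s) k a ∧ N (M s) a = k ∧ N (M s) b + k = N (M s) c
  H_card : ∀ s : ℕ, s.Prime → s ≠ 2 → s ≠ r → Nat.card (H s) = dim (M s)
  zero : ∀ s t : ℕ, s.Prime → s ≠ 2 → s ≠ r → t.Prime → t ≠ 2 → t ≠ r → dim (M s) < dim (M t) →
    ∀ c : I, N (M s) c = 0 → N (M t) c = 0

attribute [instance] Sys.grp Sys.fin Sys.fld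

namespace Sys

variable {r : ℕ} (S : Sys.{u, v} r)

/-- The primes considered. -/
def Good (r s : ℕ) : Prop := s.Prime ∧ s ≠ 2 ∧ s ≠ r

variable {S}

theorem pow_eq_one_of_mem {c : S.I} {x : S.G c} {t : ℕ} (ht : 0 < t) (hx : x ^ t = 1) {z : S.K} (hz : z ∈ S.E x) :
    z ^ t = 1 := by
  have h1 : z ^ t ∈ S.E (x ^ t) := by
    rw [S.E_pow x t ht]
    exact ⟨z, hz, rfl⟩
  rw [hx] at h1
  exact S.E_one c h1

/-- The orbit of an eigenvalue. -/
theorem orbit {c : S.I} {x : S.G c} {t : ℕ} (ht : Good r t) (hx : x ^ t = 1) {z : S.K} (hz : z ∈ S.E x)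
    (hz1 : z ≠ 1) : S.dim (S.M t) ≤ (S.E x).ncard ∧
      (S.dim c ≤ S.dim (S.M t) → (S.E x).ncard = S.dim c ∧
        ∀ y ∈ S.E x, ∃ h ∈ S.H t, z ^ (h : ZMod t).val = y) := by
  have hp : Fact t.Prime := ⟨ht.1⟩
  have hzt := pow_eq_one_of_mem ht.1.pos hx hz
  have hord : orderOf z = t := orderOf_eq_prime hzt hz1
  have hfo : IsOfFinOrder z := isOfFinOrder_iff_pow_eq_one.2 ⟨t, ht.1.pos, hzt⟩
  set f : S.H t → S.K := fun h => z ^ ((h : (ZMod t)ˣ) : ZMod t).val with hf
  have hinj : Function.Injective f := by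
    intro a b hab
    have h1 : ((a : (ZMod t)ˣ) : ZMod t).val ≡ ((b : (ZMod t)ˣ) : ZMod t).val [MOD orderOf z] :=
      (hfo.pow_eq_pow_iff_modEq).1 hab
    rw [hord] at h1
    have h2 := (ZMod.natCast_eq_natCast_iff _ _ _).2 h1
    rw [ZMod.natCast_zmod_val, ZMod.natCast_zmod_val] at h2
    exact Subtype.ext (Units.ext h2)
  have hsub : Set.range f ⊆ S.E x := by
    rintro _ ⟨h, rfl⟩
    exact S.E_H x t ht.1 h h.2 z hz hzt
  have hcard : (Set.range f).ncard = S.dim (S.M t) := by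
    rw [← S.H_card t ht.1 ht.2.1 ht.2.2, ← Set.image_univ, Set.ncard_image_of_injective _ hinj, Set.ncard_univ]
  have h1 : S.dim (S.M t) ≤ (S.E x).ncard := hcard ▸ Set.ncard_le_ncard hsub (S.E_fin x)
  refine ⟨h1, fun h2 => ?_⟩
  have h3 := S.E_card x
  have h4 : (S.E x).ncard = S.dim c := by omega
  refine ⟨h4, fun y hy => ?_⟩
  have h5 : Set.range f = S.E x := Set.eq_of_subset_of_ncard_le hsub (by omega) (S.E_fin x)
  rw [← h5] at hy
  obtain ⟨h, rfl⟩ := hy
  exact ⟨h, h.2, rfl⟩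

theorem dim_pos {t : ℕ} (ht : Good r t) : 0 < S.dim (S.M t) := by
  have hp : Fact t.Prime := ⟨ht.1⟩
  rw [← S.H_card t ht.1 ht.2.1 ht.2.2]
  exact Nat.card_pos

/-- `t`-elements act trivially on small spaces. -/
theorem eq_one_of_dim_lt {c : S.I} {t : ℕ} (ht : Good r t) (h : S.dim c < S.dim (S.M t)) (x : S.G c)
    (hx : x ^ t = 1) : x = 1 := by
  by_contra hne
  obtain ⟨z, hz, hz1⟩ := S.E_ne x t ht.1 ht.2.2 hx hne
  have h1 := (orbit ht hx hz hz1).1
  have h2 := S.E_card x
  omega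

theorem card_ne_zero (c : S.I) : Nat.card (S.G c) ≠ 0 := Nat.card_pos.ne'

/-- `t`-elements exist iff `N ≠ 0`. -/
theorem dvd_iff {c : S.I} {t : ℕ} (ht : Good r t) : t ∣ Nat.card (S.G c) ↔ S.N (S.M t) c ≠ 0 := by
  have hv := S.v_pos t ht.1 ht.2.1 ht.2.2
  have hf := S.fac t ht.1 ht.2.1 ht.2.2 c
  constructor
  · intro h h0
    have h1 := ht.1.factorization_pos_of_dvd (card_ne_zero c) h
    rw [h0] at hf
    simp at hf
    omega
  · intro h
    have : 0 < S.N (S.M t) c * S.v t := Nat.mul_pos (Nat.pos_of_ne_zero h) hv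
    exact Nat.dvd_of_factorization_pos (by omega)

theorem eq_one_of_N {c : S.I} {t : ℕ} (ht : Good r t) (h : S.N (S.M t) c = 0) (x : S.G c) (hx : x ^ t = 1) :
    x = 1 := by
  have hp : Fact t.Prime := ⟨ht.1⟩
  by_contra hne
  have h1 := orderOf_eq_prime hx hne
  have h2 : t ∣ Nat.card (S.G c) := h1 ▸ orderOf_dvd_natCard x
  exact (dvd_iff ht).1 h2 h

/-- Elements of order `t` in the minimal block. -/
theorem exists_elem {t : ℕ} (ht : Good r t) : ∃ x : S.G (S.M t), x ^ t = 1 ∧ x ≠ 1 := by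
  have hp : Fact t.Prime := ⟨ht.1⟩
  have h1 : t ∣ Nat.card (S.G (S.M t)) := by
    rw [dvd_iff ht, S.N_M t ht.1 ht.2.1 ht.2.2]
    exact one_ne_zero
  obtain ⟨x, hx⟩ := exists_prime_orderOf_dvd_card' t h1
  refine ⟨x, ?_, fun h => ?_⟩
  · have := pow_orderOf_eq_one x
    rwa [hx] at this
  · rw [h, orderOf_one] at hx
    exact ht.1.one_lt.ne hx

/-- The spectrum of an element of order `t` of the minimal block. -/
theorem block {t : ℕ} (ht : Good r t) {x : S.G (S.M t)} (hx : x ^ t = 1) (hx1 : x ≠ 1) :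
    (S.E x).ncard = S.dim (S.M t) ∧ (1 : S.K) ∉ S.E x ∧ ∀ z ∈ S.E x, ∀ y ∈ S.E x, ∃ h ∈ S.H t,
      z ^ (h : ZMod t).val = y := by
  have hp : Fact t.Prime := ⟨ht.1⟩
  obtain ⟨z, hz, hz1⟩ := S.E_ne x t ht.1 ht.2.2 hx hx1
  obtain ⟨-, h2⟩ := orbit ht hx hz hz1
  obtain ⟨h3, h4⟩ := h2 le_rfl
  have h1 : (1 : S.K) ∉ S.E x := by
    intro h
    obtain ⟨k, hk, hk1⟩ := h4 _ h
    have hord : orderOf z = t := orderOf_eq_prime (pow_eq_one_of_mem ht.1.pos hx hz) hz1
    have h5 := orderOf_dvd_of_pow_eq_one hk1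
    rw [hord] at h5
    have h6 : ((k : (ZMod t)ˣ) : ZMod t).val = 0 := Nat.eq_zero_of_dvd_of_lt h5 (ZMod.val_lt _)
    rw [ZMod.val_eq_zero] at h6
    exact k.ne_zero h6
  refine ⟨h3, h1, fun w hw y hy => ?_⟩
  have hw1 : w ≠ 1 := fun h => h1 (h ▸ hw)
  exact ((orbit ht hx hw hw1).2 le_rfl).2 y hy

/-- Powers of an element of the minimal block with disjoint spectrum. -/
theorem disjoint_pow {t : ℕ} (ht : Good r t) {x : S.G (S.M t)} (hx : x ^ t = 1) (hx1 : x ≠ 1) (k : (ZMod t)ˣ)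
    (hk : k ∉ S.H t) : Disjoint (S.E x) (S.E (x ^ (k : ZMod t).val)) := by
  have hp : Fact t.Prime := ⟨ht.1⟩
  obtain ⟨h1, h2, h3⟩ := block ht hx hx1
  have hkpos : 0 < (k : ZMod t).val := by
    rw [Nat.pos_iff_ne_zero, Ne, ZMod.val_eq_zero]
    exact k.ne_zero
  rw [Set.disjoint_left]
  intro z hz hz'
  rw [S.E_pow x _ hkpos] at hz'
  obtain ⟨w, hw, hwz⟩ := hz'
  obtain ⟨h, hh, hhz⟩ := h3 w hw z hz
  have hw1 : w ≠ 1 := fun h => h2 (h ▸ hw)
  have hord : orderOf w = t := orderOf_eq_prime (pow_eq_one_of_mem ht.1.pos hx hw) hw1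
  have h4 : w ^ (k : ZMod t).val = w ^ (h : ZMod t).val := by rw [hhz]; exact hwz
  have hfo : IsOfFinOrder w :=
    isOfFinOrder_iff_pow_eq_one.2 ⟨t, ht.1.pos, pow_eq_one_of_mem ht.1.pos hx hw⟩
  rw [hfo.pow_eq_pow_iff_modEq, hord] at h4
  have h5 := (ZMod.natCast_eq_natCast_iff _ _ _).2 h4
  rw [ZMod.natCast_zmod_val, ZMod.natCast_zmod_val] at h5
  exact hk (Units.ext h5 ▸ hh)

/-- The centralizer of a block diagonal element. -/
theorem centralizer_β {a b c : S.I} (h : S.Dec a b c) (x : S.G a) (y : S.G b) (hd : Disjoint (S.E x) (S.E y)) :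
    centralizer ({S.β h (x, y)} : Set (S.G c)) =
      ((centralizer ({x} : Set (S.G a))).prod (centralizer ({y} : Set (S.G b)))).map (S.β h) := by
  ext g
  rw [mem_centralizer_singleton_iff]
  constructor
  · intro hg
    obtain ⟨u, v, rfl⟩ := S.cp h x y g hd hg
    refine ⟨(u, v), ?_, rfl⟩
    rw [← map_mul, ← map_mul] at hg
    have h1 := S.β_inj h hg
    refine mem_prod.2 ⟨?_, ?_⟩
    · rw [mem_centralizer_singleton_iff]
      exact congrArg Prod.fst h1
    · rw [mem_centralizer_singleton_iff]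
      exact congrArg Prod.snd h1
  · rintro ⟨⟨u, v⟩, huv, rfl⟩
    have h2 := mem_prod.1 huv
    rw [mem_centralizer_singleton_iff, mem_centralizer_singleton_iff] at h2
    rw [← map_mul, ← map_mul]
    congr 1
    exact Prod.ext h2.1 h2.2

theorem card_centralizer_β {a b c : S.I} (h : S.Dec a b c) (x : S.G a) (y : S.G b) (hd : Disjoint (S.E x) (S.E y)) :
    Nat.card (centralizer ({S.β h (x, y)} : Set (S.G c))) =
      Nat.card (centralizer ({x} : Set (S.G a))) * Nat.card (centralizer ({y} : Set (S.G b))) := by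
  rw [centralizer_β h x y hd, card_map_of_injective (S.β_inj h)]
  rw [Nat.card_congr (Subgroup.prodEquiv _ _).toEquiv, Nat.card_prod]

/-- The spectrum of `β (x, 1)` for an element of order `t` of the minimal block. -/
theorem disjoint_one {t : ℕ} (ht : Good r t) {x : S.G (S.M t)} (hx : x ^ t = 1) (hx1 : x ≠ 1) (b : S.I) :
    Disjoint (S.E x) (S.E (1 : S.G b)) := by
  rw [Set.disjoint_left]
  intro z hz hz'
  have h1 : z = 1 := S.E_one b hz'
  exact (block ht hx hx1).2.1 (h1 ▸ hz)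

/-- **Case `α`** -/
theorem alpha {s t : ℕ} (hs : Good r s) (ht : Good r t) (hst : S.dim (S.M s) < S.dim (S.M t)) (c : S.I)
    (P : Sylow s (S.G c)) (y : S.G c) (hy : y ^ t = 1) (hP : ∀ a ∈ P, a * y = y * a) : y = 1 := by
  have hps : Fact s.Prime := ⟨hs.1⟩
  induction hk : S.N (S.M s) c generalizing c with
  | zero =>
    exact eq_one_of_N ht (S.zero s t hs.1 hs.2.1 hs.2.2 ht.1 ht.2.1 ht.2.2 hst c hk) y hy
  | succ k ih =>
    obtain ⟨c', hc', hN⟩ := S.split1 s hs.1 hs.2.1 hs.2.2 c (by omega)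
    obtain ⟨x, hx, hx1⟩ := exists_elem (S := S) hs
    obtain ⟨P'⟩ : Nonempty (Sylow s (S.G c')) := inferInstance
    set Q : Subgroup (S.G c) := ((zpowers x).prod (P' : Subgroup (S.G c'))).map (S.β hc') with hQ
    have hx0 : IsPGroup s (zpowers x) := by
      refine IsPGroup.of_card (n := 1) ?_
      rw [Nat.card_zpowers, pow_one]
      exact orderOf_eq_prime hx hx1
    have hQp : IsPGroup s Q := by
      rintro ⟨_, ⟨⟨a, b⟩, hab, rfl⟩⟩
      obtain ⟨ha, hb⟩ := mem_prod.1 hab
      obtain ⟨i, hi⟩ := hx0 ⟨a, ha⟩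
      obtain ⟨j, hj⟩ := P'.isPGroup' ⟨b, hb⟩
      refine ⟨i + j, Subtype.ext ?_⟩
      have hi' : a ^ s ^ i = 1 := congrArg Subtype.val hi
      have hj' : b ^ s ^ j = 1 := congrArg Subtype.val hj
      show (S.β hc' (a, b)) ^ s ^ (i + j) = 1
      rw [← map_pow, Prod.pow_mk]
      have e1 : a ^ s ^ (i + j) = 1 := by rw [pow_add, pow_mul, hi', one_pow]
      have e2 : b ^ s ^ (i + j) = 1 := by rw [pow_add, mul_comm, pow_mul, hj', one_pow]
      rw [e1, e2]
      exact map_one _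
    obtain ⟨P2, hP2⟩ := hQp.exists_le_sylow
    obtain ⟨g, rfl⟩ := MulAction.exists_smul_eq (S.G c) P P2
    have hy' : (g * y * g⁻¹) ^ t = 1 := by
      rw [conj_pow, hy]; group
    have hcomm : ∀ a ∈ Q, a * (g * y * g⁻¹) = (g * y * g⁻¹) * a := by
      intro a ha
      have h1 : a ∈ (MulAut.conj g • (P : Subgroup (S.G c))) := hP2 ha
      obtain ⟨b, hb, rfl⟩ := h1
      have h2 := hP b hb
      show g * b * g⁻¹ * (g * y * g⁻¹) = g * y * g⁻¹ * (g * b * g⁻¹)
      calc g * b * g⁻¹ * (g * y * g⁻¹) = g * (b * y) * g⁻¹ := by group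
        _ = g * (y * b) * g⁻¹ := by rw [h2]
        _ = _ := by group
    have h3 : g * y * g⁻¹ * S.β hc' (x, 1) = S.β hc' (x, 1) * (g * y * g⁻¹) :=
      (hcomm _ ⟨(x, 1), mem_prod.2 ⟨mem_zpowers x, one_mem _⟩, rfl⟩).symm
    obtain ⟨u, w, huw⟩ := S.cp hc' x 1 _ (disjoint_one hs hx hx1 c') h3
    have h4 : u ^ t = 1 ∧ w ^ t = 1 := by
      rw [huw, ← map_pow, ← map_one (S.β hc')] at hy'
      have := S.β_inj hc' hy'
      exact ⟨congrArg Prod.fst this, congrArg Prod.snd this⟩
    have hu : u = 1 := eq_one_of_dim_lt ht hst u h4.1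
    have hw : w = 1 := by
      refine ih c' P' w h4.2 (fun a ha => ?_) (by omega)
      have h5 := hcomm (S.β hc' (1, a)) ⟨(1, a), mem_prod.2 ⟨one_mem _, ha⟩, rfl⟩
      rw [huw, ← map_mul, ← map_mul] at h5
      exact congrArg Prod.snd (S.β_inj hc' h5)
    have h6 : g * y * g⁻¹ = 1 := by
      rw [huw, hu, hw]
      exact map_one _
    have h7 : y = g⁻¹ * (g * y * g⁻¹) * g := by group
    rw [h7, h6]; group

/-! ### multiplicative families -/

/-- A family of homomorphisms compatible with the block decompositions (determinants). -/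
structure Fam (S : Sys.{u, v} r) where
  D : Type
  [grp : CommGroup D]
  det : ∀ c : S.I, S.G c →* D
  det_β : ∀ {a b c : S.I} (h : S.Dec a b c) (x : S.G a) (y : S.G b), det c (S.β h (x, y)) = det a x * det b y
  det_dim : ∀ (c : S.I) (x : S.G c), S.dim c = 0 → det c x = 1

attribute [instance] Fam.grp

/-- The trivial family. -/
def Fam.triv (S : Sys.{u, v} r) : Fam S where
  D := Unit
  det _ := 1
  det_β _ _ _ := rfl
  det_dim _ _ _ := rfl

theorem exists_rep (F : Fam S) {m a : S.I} {k : ℕ} (h : Pow S.Dec S.dim m k a) {t : ℕ} (x : S.G m) (hx : x ^ t = 1) :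
    ∃ y : S.G a, y ^ t = 1 ∧ S.E y ⊆ S.E x ∧ F.det a y = F.det m x ^ k := by
  induction h with
  | zero a h =>
    refine ⟨1, one_pow _, ?_, by rw [map_one, pow_zero]⟩
    have h1 := S.E_card (1 : S.G a)
    rw [h, Nat.le_zero, Set.ncard_eq_zero (S.E_fin _)] at h1
    rw [h1]
    exact Set.empty_subset _
  | succ k a b h hb ih =>
    obtain ⟨y, hy, hE, hdet⟩ := ih
    refine ⟨S.β h (x, y), ?_, ?_, ?_⟩
    · rw [← map_pow, Prod.pow_mk, hx, hy]
      exact map_one _
    · rw [S.E_β]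
      exact Set.union_subset subset_rfl hE
    · rw [F.det_β, hdet, pow_succ']

theorem fact_lt {s N c : ℕ} (hs : s.Prime) (hN : s ≤ N) (h1 : N % s ≤ c) (h2 : c < s) :
    (N - c - 1).factorial.factorization s < N.factorial.factorization s := by
  have h0 : N % s ≤ N := Nat.mod_le N s
  set d := N - N % s with hd
  have hsd : s ∣ d := Nat.dvd_sub_mod N
  have hdpos : 0 < d := by
    have := Nat.mod_lt N hs.pos
    omega
  have e1 : (N - c - 1).factorial.factorization s ≤ (d - 1).factorial.factorization s :=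
    (Nat.factorization_le_iff_dvd (Nat.factorial_ne_zero _) (Nat.factorial_ne_zero _)).2
      (Nat.factorial_dvd_factorial (by omega)) s
  have e2 : d.factorial.factorization s ≤ N.factorial.factorization s :=
    (Nat.factorization_le_iff_dvd (Nat.factorial_ne_zero _) (Nat.factorial_ne_zero _)).2
      (Nat.factorial_dvd_factorial (by omega)) s
  have e3 : d.factorial.factorization s = d.factorization s + (d - 1).factorial.factorization s := by
    obtain ⟨m, hm⟩ : ∃ m, d = m + 1 := ⟨d - 1, by omega⟩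
    rw [hm, Nat.factorial_succ, Nat.factorization_mul (Nat.succ_ne_zero _) (Nat.factorial_ne_zero _), Finsupp.add_apply,
      Nat.add_sub_cancel]
  have e4 : 0 < d.factorization s := hs.factorization_pos_of_dvd hdpos.ne' hsd
  omega

theorem fact_zero {s c : ℕ} (hs : s.Prime) (h : c < s) : c.factorial.factorization s = 0 :=
  Nat.factorization_eq_zero_of_not_dvd (fun h1 => by
    have := (hs.dvd_factorial).1 h1
    omega)

theorem fac_le {G : Type*} [Group G] [Finite G] (H : Subgroup G) (s : ℕ) :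
    (Nat.card H).factorization s ≤ (Nat.card G).factorization s :=
  (Nat.factorization_le_iff_dvd Nat.card_pos.ne' Nat.card_pos.ne').2 (card_subgroup_dvd_card H) s

theorem fac_index {G : Type*} [Group G] [Finite G] (H : Subgroup G) (s : ℕ) :
    (Nat.card G).factorization s = (Nat.card H).factorization s + H.index.factorization s := by
  rw [← card_mul_index H, Nat.factorization_mul Nat.card_pos.ne' index_ne_zero_of_finite, Finsupp.add_apply]

/-- **Case `β`**. -/
theorem beta (F : Fam S) {s t : ℕ} (hs : Good r s) (ht : Good r t) (hM : S.M s = S.M t) (c : S.I)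
    (hN : s ≤ S.N (S.M t) c) (k : (ZMod t)ˣ) (hk : k ∉ S.H t) (c1 : ℕ) (h1 : S.N (S.M t) c % s ≤ c1)
    (h3 : c1 < s) (x : S.G (S.M t)) (hx : x ^ t = 1) (hx1 : x ≠ 1) :
    ∃ y : S.G c, y ^ t = 1 ∧ s ∣ (centralizer ({y} : Set (S.G c))).index ∧
      F.det c y = F.det _ x ^ c1 * F.det _ x ^ (k : ZMod t).val ∧
      ∀ z : S.G (S.M t), z * x = x * z → ∃ w ∈ centralizer ({y} : Set (S.G c)), F.det c w = F.det _ z := by
  have hps : Fact s.Prime := ⟨hs.1⟩
  have hpt : Fact t.Prime := ⟨ht.1⟩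
  set N := S.N (S.M t) c with hNdef
  obtain ⟨a, b, hab, hpow, hNa, hNb⟩ := S.splitN s hs.1 hs.2.1 hs.2.2 c c1 (by rw [hM]; omega)
  rw [hM] at hpow hNa hNb
  obtain ⟨b', hb', hNb'⟩ := S.split1 s hs.1 hs.2.1 hs.2.2 b (by rw [hM]; omega)
  rw [hM] at hb' hNb'
  obtain ⟨y1, hy1, hE1, hdet1⟩ := exists_rep F hpow x hx
  have hkpos : 0 < (k : ZMod t).val := by
    rw [Nat.pos_iff_ne_zero, Ne, ZMod.val_eq_zero]
    exact k.ne_zero
  set x2 := x ^ (k : ZMod t).val with hx2
  have hx2t : x2 ^ t = 1 := by rw [hx2, ← pow_mul, mul_comm, pow_mul, hx, one_pow]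
  have hx21 : x2 ≠ 1 := by
    intro h
    rw [hx2] at h
    have h4 := orderOf_dvd_of_pow_eq_one h
    rw [orderOf_eq_prime hx hx1] at h4
    have h5 := Nat.le_of_dvd hkpos h4
    have h6 := ZMod.val_lt (k : ZMod t)
    omega
  have hd1 : Disjoint (S.E x2) (S.E (1 : S.G b')) := disjoint_one ht hx2t hx21 b'
  have hd2 : Disjoint (S.E y1) (S.E (S.β hb' (x2, 1))) := by
    rw [S.E_β, Set.disjoint_union_right]
    exact ⟨(disjoint_pow ht hx hx1 k hk).mono_left hE1, (disjoint_one ht hx hx1 b').mono_left hE1⟩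
  set y : S.G c := S.β hab (y1, S.β hb' (x2, 1)) with hy
  refine ⟨y, ?_, ?_, ?_, ?_⟩
  · rw [hy, ← map_pow, Prod.pow_mk, hy1, ← map_pow, Prod.pow_mk, hx2t, one_pow,
      show ((1 : S.G (S.M t)), (1 : S.G b')) = 1 from rfl, map_one]
    exact map_one _
  · have hc : Nat.card (centralizer ({y} : Set (S.G c))) = Nat.card (centralizer ({y1} : Set (S.G a))) *
        (Nat.card (centralizer ({x2} : Set (S.G (S.M t)))) * Nat.card (centralizer ({(1 : S.G b')} : Set (S.G b')))) := by
      rw [hy, card_centralizer_β hab y1 _ hd2, card_centralizer_β hb' x2 1 hd1]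
    have hf : (Nat.card (centralizer ({y} : Set (S.G c)))).factorization s ≤
        (Nat.card (S.G a)).factorization s + ((Nat.card (S.G (S.M t))).factorization s +
          (Nat.card (S.G b')).factorization s) := by
      rw [hc, Nat.factorization_mul Nat.card_pos.ne' (Nat.mul_pos Nat.card_pos Nat.card_pos).ne',
        Nat.factorization_mul Nat.card_pos.ne' Nat.card_pos.ne', Finsupp.add_apply, Finsupp.add_apply]
      exact Nat.add_le_add (fac_le _ _) (Nat.add_le_add (fac_le _ _) (fac_le _ _))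
    have f1 := S.fac s hs.1 hs.2.1 hs.2.2 a
    have f2 := S.fac s hs.1 hs.2.1 hs.2.2 (S.M t)
    have f3 := S.fac s hs.1 hs.2.1 hs.2.2 b'
    have f4 := S.fac s hs.1 hs.2.1 hs.2.2 c
    rw [hM, hNa] at f1
    rw [hM, S.N_M t ht.1 ht.2.1 ht.2.2] at f2
    rw [hM] at f3
    rw [hM, ← hNdef] at f4
    have e1 : S.N (S.M t) b' = N - c1 - 1 := by omega
    rw [e1] at f3
    have g1 := fact_zero hs.1 h3
    have g2 := fact_zero hs.1 (show 1 < s from hs.1.one_lt)
    have g3 := fact_lt hs.1 hN h1 h3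
    rw [fac_index (centralizer ({y} : Set (S.G c))) s] at f4
    have g4 : N * S.v s = c1 * S.v s + (1 * S.v s + (N - c1 - 1) * S.v s) := by
      rw [← add_mul, ← add_mul]
      congr 1
      omega
    exact Nat.dvd_of_factorization_pos (by omega)
  · rw [hy, F.det_β, F.det_β, hdet1, map_one, mul_one, hx2, map_pow]
  · intro z hz
    refine ⟨S.β hab (1, S.β hb' (z, 1)), ?_, ?_⟩
    · have hz2 : z * x2 = x2 * z := by
        have : Commute z x := hz
        exact this.pow_right _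
      rw [mem_centralizer_singleton_iff, hy, ← map_mul, ← map_mul, Prod.mk_mul_mk, Prod.mk_mul_mk, ← map_mul,
        ← map_mul, Prod.mk_mul_mk, Prod.mk_mul_mk, hz2, one_mul, mul_one, mul_one]
    · rw [F.det_β, F.det_β, map_one, map_one, one_mul, mul_one]

/-- Exponents outside `H t`. -/
theorem exists_not_mem {s t : ℕ} (hs : Good r s) (ht : Good r t) (hst : s < t) (hM : S.M s = S.M t) :
    ∃ k : (ZMod t)ˣ, k ∉ S.H t := by
  have hps : Fact s.Prime := ⟨hs.1⟩
  have hpt : Fact t.Prime := ⟨ht.1⟩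
  by_contra h
  have h1 : S.H t = ⊤ := by
    rw [eq_top_iff]
    intro k _
    by_contra hk
    exact h ⟨k, hk⟩
  have h2 := S.H_card t ht.1 ht.2.1 ht.2.2
  rw [h1, card_top, ← hM, ← S.H_card s hs.1 hs.2.1 hs.2.2] at h2
  have h3 : Nat.card (S.H s) ≤ Nat.card (ZMod s)ˣ := card_le_card_group _
  rw [Nat.card_eq_fintype_card (α := (ZMod t)ˣ), ZMod.card_units] at h2
  rw [Nat.card_eq_fintype_card (α := (ZMod s)ˣ), ZMod.card_units] at h3
  have := hs.1.two_le
  omega

/-- The Sylow `t`-subgroups of the minimal block are abelian. -/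
theorem sylow_comm {t : ℕ} (ht : Good r t) (R : Sylow t (S.G (S.M t))) (u w : S.G (S.M t)) (hu : u ∈ R)
    (hw : w ∈ R) : u * w = w * u := by
  have hpt : Fact t.Prime := ⟨ht.1⟩
  have hne : (R : Subgroup (S.G (S.M t))) ≠ ⊥ := by
    refine R.ne_bot_of_dvd_card ?_
    rw [dvd_iff ht, S.N_M t ht.1 ht.2.1 ht.2.2]
    exact one_ne_zero
  have hnt : Nontrivial R := (nontrivial_iff_ne_bot _).2 hne
  have hc : Nontrivial (center R) := R.isPGroup'.center_nontrivial
  have hd : t ∣ Nat.card (center R) := by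
    obtain ⟨n, hn, hn'⟩ := (R.isPGroup'.to_subgroup (center R)).nontrivial_iff_card.1 hc
    rw [hn']
    exact dvd_pow_self t hn.ne'
  obtain ⟨z, hz⟩ := exists_prime_orderOf_dvd_card' t hd
  set x : S.G (S.M t) := ((z : R) : S.G (S.M t)) with hxdef
  have hx : orderOf x = t := by
    rw [hxdef, Subgroup.orderOf_coe, Subgroup.orderOf_coe, hz]
  have hxt : x ^ t = 1 := by
    have := pow_orderOf_eq_one x
    rwa [hx] at this
  have hx1 : x ≠ 1 := by
    intro h
    rw [h, orderOf_one] at hx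
    exact ht.1.one_lt.ne hx
  have hcz := mem_center_iff.1 z.2
  refine S.ab x u w (block ht hxt hx1).1 ?_ ?_
  · exact (congrArg Subtype.val (hcz ⟨u, hu⟩)).symm
  · exact (congrArg Subtype.val (hcz ⟨w, hw⟩)).symm

/-- The centralizer of an element of order `t` of the minimal block contains a Sylow `t`-subgroup. -/
theorem not_dvd_index {t : ℕ} (ht : Good r t) (x : S.G (S.M t)) (hx : x ^ t = 1) :
    ¬ t ∣ (centralizer ({x} : Set (S.G (S.M t)))).index := by
  have hpt : Fact t.Prime := ⟨ht.1⟩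
  have h1 : IsPGroup t (zpowers x) := by
    rintro ⟨y, hy⟩
    obtain ⟨i, rfl⟩ := mem_zpowers_iff.1 hy
    refine ⟨1, Subtype.ext ?_⟩
    show (x ^ i) ^ t ^ 1 = 1
    rw [pow_one, ← zpow_natCast, ← zpow_mul, mul_comm, zpow_mul, zpow_natCast, hx, one_zpow]
  obtain ⟨R, hR⟩ := h1.exists_le_sylow
  have h2 : (R : Subgroup (S.G (S.M t))) ≤ centralizer ({x} : Set (S.G (S.M t))) := by
    intro u hu
    rw [mem_centralizer_singleton_iff]
    exact sylow_comm ht R u x hu (hR (mem_zpowers x))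
  intro h3
  exact R.not_dvd_index (h3.trans (index_dvd_of_le h2))

/-- A torus on a power of a block. -/
theorem exists_torus {m a : S.I} {k : ℕ} (h : Pow S.Dec S.dim m k a) (T : Subgroup (S.G m))
    (hT : ∀ x ∈ T, ∀ y ∈ T, x * y = y * x) :
    ∃ T' : Subgroup (S.G a), (∀ x ∈ T', ∀ y ∈ T', x * y = y * x) ∧ Nat.card T' = Nat.card T ^ k := by
  induction h with
  | zero a h =>
    refine ⟨⊥, ?_, by rw [card_bot, pow_zero]⟩
    intro x hx y hy
    rw [mem_bot.1 hx, mem_bot.1 hy]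
  | succ k a b h hb ih =>
    obtain ⟨T', hT', hcard⟩ := ih
    refine ⟨(T.prod T').map (S.β h), ?_, ?_⟩
    · rintro _ ⟨⟨u1, w1⟩, h1, rfl⟩ _ ⟨⟨u2, w2⟩, h2, rfl⟩
      rw [← map_mul, ← map_mul]
      congr 1
      exact Prod.ext (hT _ (mem_prod.1 h1).1 _ (mem_prod.1 h2).1) (hT' _ (mem_prod.1 h1).2 _ (mem_prod.1 h2).2)
    · rw [card_map_of_injective (S.β_inj h), Nat.card_congr (Subgroup.prodEquiv _ _).toEquiv, Nat.card_prod, hcard,
        pow_succ']

/-- **Case `γ`** -/
theorem gamma {m : S.I} (T : Subgroup (S.G m)) (hT : ∀ x ∈ T, ∀ y ∈ T, x * y = y * x) (c : S.I) (π : Set ℕ)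
    (hπ : ∀ s ∈ π, Good r s ∧ S.M s = m ∧ S.N m c < s ∧ ¬ s ∣ T.index) (hne : π.Nonempty) :
    ∃ T' : Subgroup (S.G c), (∀ x ∈ T', ∀ y ∈ T', x * y = y * x) ∧ ∀ s ∈ π, ¬ s ∣ T'.index := by
  obtain ⟨s0, hs0⟩ := hne
  obtain ⟨hg0, hm0, -, -⟩ := hπ s0 hs0
  obtain ⟨a, b, hab, hpow, -, -⟩ := S.splitN s0 hg0.1 hg0.2.1 hg0.2.2 c (S.N m c) (by rw [hm0])
  rw [hm0] at hpow
  obtain ⟨T', hT', hcard⟩ := exists_torus hpow T hT
  refine ⟨(T'.prod ⊥).map (S.β hab), ?_, fun s hs hd => ?_⟩
  · rintro _ ⟨⟨u1, w1⟩, h1, rfl⟩ _ ⟨⟨u2, w2⟩, h2, rfl⟩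
    rw [← map_mul, ← map_mul]
    congr 1
    refine Prod.ext (hT' _ (mem_prod.1 h1).1 _ (mem_prod.1 h2).1) ?_
    have e1 : w1 = 1 := mem_bot.1 (mem_prod.1 h1).2
    have e2 : w2 = 1 := mem_bot.1 (mem_prod.1 h2).2
    show w1 * w2 = w2 * w1
    rw [e1, e2]
  · obtain ⟨hg, hm, hN, hi⟩ := hπ s hs
    have hcard' : Nat.card ((T'.prod (⊥ : Subgroup (S.G b))).map (S.β hab)) = Nat.card T ^ S.N m c := by
      rw [card_map_of_injective (S.β_inj hab), Nat.card_congr (Subgroup.prodEquiv _ _).toEquiv, Nat.card_prod, hcard,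
        card_bot, mul_one]
    have f1 := S.fac s hg.1 hg.2.1 hg.2.2 c
    have f2 := S.fac s hg.1 hg.2.1 hg.2.2 m
    have hNM := S.N_M s hg.1 hg.2.1 hg.2.2
    rw [hm] at f1 f2 hNM
    rw [fact_zero hg.1 hN, add_zero, fac_index ((T'.prod (⊥ : Subgroup (S.G b))).map (S.β hab)) s, hcard',
      Nat.factorization_pow, Finsupp.smul_apply, smul_eq_mul] at f1
    rw [hNM, fact_zero hg.1 hg.1.one_lt, add_zero, one_mul, fac_index T s,
      Nat.factorization_eq_zero_of_not_dvd hi, add_zero] at f2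
    rw [f2] at f1
    have h5 := hg.1.factorization_pos_of_dvd index_ne_zero_of_finite hd
    omega

end Sys

end Cfsg.Agent.H201.BlockSys
end

-- part: H201/MatSys
section
/-!
# Systems of matrix groups (helper201)

A family `X : Fm F` of matrix groups `X.G c ≤ GL (X.ι c) F` (isometry groups) gives a `Sys r`:
`X.Dec a b c` : after a change of basis `X.G a × X.G b` is the group of block diagonal matrices in `X.G c`.
-/

set_option autoImplicit false

namespace Cfsg.Agent.H201.MatSys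

open Matrix BlockSys MatSpec

/-- base change -/
structure BC (m n F : Type) [Field F] [Fintype m] [Fintype n] [DecidableEq m] [DecidableEq n] where
  P : Matrix m n F
  P' : Matrix n m F
  h1 : P * P' = 1
  h2 : P' * P = 1

section
variable {F : Type} [Field F]
variable {m n a b : Type} [Fintype m] [DecidableEq m] [Fintype n] [DecidableEq n] [Fintype a] [DecidableEq a]
  [Fintype b] [DecidableEq b]

/-- conjugation by a base change -/
def BC.hom (e : BC m n F) : Matrix n n F →* Matrix m m F where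
  toFun A := e.P * A * e.P'
  map_one' := by rw [Matrix.mul_one, e.h1]
  map_mul' A B := by
    have h : e.P * (A * B) * e.P' = e.P * A * (e.P' * e.P) * B * e.P' := by
      rw [e.h2, Matrix.mul_one, ← Matrix.mul_assoc e.P A B]
    rw [h]
    simp only [Matrix.mul_assoc]

/-- block diagonal matrices -/
def diagHom (F a b : Type) [Field F] [Fintype a] [DecidableEq a] [Fintype b] [DecidableEq b] :
    Matrix a a F × Matrix b b F →* Matrix (a ⊕ b) (a ⊕ b) F where
  toFun x := fromBlocks x.1 0 0 x.2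
  map_one' := fromBlocks_one
  map_mul' x y := by
    rw [fromBlocks_multiply]
    simp

/-- block diagonal matrices after a base change -/
noncomputable def BC.gl (e : BC m (a ⊕ b) F) : GL a F × GL b F →* GL m F :=
  (Units.map (e.hom.comp (diagHom F a b))).comp (MulEquiv.prodUnits (M := Matrix a a F) (N := Matrix b b F)).symm.toMonoidHom

theorem BC.coe_gl (e : BC m (a ⊕ b) F) (x : GL a F) (y : GL b F) :
    (e.gl (x, y) : Matrix m m F) = e.P * fromBlocks (x : Matrix a a F) 0 0 (y : Matrix b b F) * e.P' := rfl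

theorem BC.gl_injective (e : BC m (a ⊕ b) F) : Function.Injective e.gl := by
  rintro ⟨x, y⟩ ⟨x', y'⟩ h
  have h1 := congrArg (fun g : GL m F => e.P' * (g : Matrix m m F) * e.P) h
  simp only [BC.coe_gl] at h1
  have h2 : ∀ A : Matrix (a ⊕ b) (a ⊕ b) F, e.P' * (e.P * A * e.P') * e.P = A := by
    intro A
    rw [Matrix.mul_assoc, Matrix.mul_assoc (e.P * A), e.h2, Matrix.mul_one, ← Matrix.mul_assoc, e.h2, Matrix.one_mul]
  rw [h2, h2, fromBlocks_inj] at h1
  exact Prod.ext (Units.ext h1.1) (Units.ext h1.2.2.2)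

/-- the determinant of a block diagonal matrix -/
theorem BC.det_gl (e : BC m (a ⊕ b) F) (x : GL a F) (y : GL b F) :
    (e.gl (x, y) : Matrix m m F).det = (x : Matrix a a F).det * (y : Matrix b b F).det := by
  rw [BC.coe_gl, Matrix.det_conj_of_mul_eq_one e.h1 e.h2, det_fromBlocks_zero₁₂]

theorem BC.sp_gl {K : Type*} [Field K] (φ : F →+* K) (e : BC m (a ⊕ b) F) (x : GL a F) (y : GL b F) :
    sp φ (e.gl (x, y) : Matrix m m F) = sp φ (x : Matrix a a F) ∪ sp φ (y : Matrix b b F) := by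
  rw [BC.coe_gl, sp_conj e.h1 e.h2, sp_fromBlocks]

/-- matrices commuting with a block diagonal matrix with disjoint spectra -/
theorem BC.exists_of_comm {K : Type*} [Field K] [IsAlgClosed K] (φ : F →+* K) (e : BC m (a ⊕ b) F) (x : GL a F)
    (y : GL b F) (hd : Disjoint (sp φ (x : Matrix a a F)) (sp φ (y : Matrix b b F))) (g : GL m F)
    (hg : g * e.gl (x, y) = e.gl (x, y) * g) : ∃ u v, g = e.gl (u, v) := by
  have key : ∀ g : GL m F, g * e.gl (x, y) = e.gl (x, y) * g →
      ∃ (A : Matrix a a F) (B : Matrix b b F), (g : Matrix m m F) = e.P * fromBlocks A 0 0 B * e.P' := by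
    intro g hg
    set B := e.P' * (g : Matrix m m F) * e.P with hB
    have hgB : (g : Matrix m m F) = e.P * B * e.P' := by
      rw [hB, ← Matrix.mul_assoc, ← Matrix.mul_assoc, e.h1, Matrix.one_mul, Matrix.mul_assoc, e.h1, Matrix.mul_one]
    have h1 : (g : Matrix m m F) * (e.gl (x, y) : Matrix m m F) = (e.gl (x, y) : Matrix m m F) * (g : Matrix m m F) :=
      congrArg Units.val hg
    rw [BC.coe_gl, hgB] at h1
    have h2 : B * fromBlocks (x : Matrix a a F) 0 0 (y : Matrix b b F) =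
        fromBlocks (x : Matrix a a F) 0 0 (y : Matrix b b F) * B := by
      have h3 := congrArg (fun A => e.P' * A * e.P) h1
      have h4 : ∀ A A' : Matrix (a ⊕ b) (a ⊕ b) F, e.P' * (e.P * A * e.P' * (e.P * A' * e.P')) * e.P = A * A' := by
        intro A A'
        have h5 : e.P * A * e.P' * (e.P * A' * e.P') = e.P * (A * A') * e.P' := by
          have := e.hom.map_mul A A'
          exact this.symm
        rw [h5, Matrix.mul_assoc, Matrix.mul_assoc (e.P * (A * A')), e.h2, Matrix.mul_one, ← Matrix.mul_assoc, e.h2,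
          Matrix.one_mul]
      simp only [h4] at h3
      exact h3
    rw [← fromBlocks_toBlocks B, fromBlocks_multiply, fromBlocks_multiply, fromBlocks_inj] at h2
    obtain ⟨-, h12, h21, -⟩ := h2
    simp only [Matrix.mul_zero, Matrix.zero_mul, add_zero, zero_add] at h12 h21
    have e12 := sylvester (φ := φ) h12.symm hd
    have e21 := sylvester (φ := φ) h21.symm hd.symm
    refine ⟨B.toBlocks₁₁, B.toBlocks₂₂, ?_⟩
    rw [hgB]
    congr 2
    rw [← fromBlocks_toBlocks B, e12, e21]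
    simp
  obtain ⟨A, B, hAB⟩ := key g hg
  have hg' : g⁻¹ * e.gl (x, y) = e.gl (x, y) * g⁻¹ := by
    rw [inv_mul_eq_iff_eq_mul, ← mul_assoc, hg, mul_inv_cancel_right]
  obtain ⟨A', B', hAB'⟩ := key g⁻¹ hg'
  have hm : ∀ (A A' : Matrix a a F) (B B' : Matrix b b F),
      (e.P * fromBlocks A 0 0 B * e.P') * (e.P * fromBlocks A' 0 0 B' * e.P') = 1 → A * A' = 1 ∧ B * B' = 1 := by
    intro A A' B B' h
    have h5 : e.P * fromBlocks A 0 0 B * e.P' * (e.P * fromBlocks A' 0 0 B' * e.P') =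
        e.P * (fromBlocks A 0 0 B * fromBlocks A' 0 0 B') * e.P' := by
      have := e.hom.map_mul (fromBlocks A 0 0 B) (fromBlocks A' 0 0 B')
      exact this.symm
    rw [h5] at h
    have h6 : fromBlocks A 0 0 B * fromBlocks A' 0 0 B' = 1 := by
      have h7 := congrArg (fun A => e.P' * A * e.P) h
      simp only [Matrix.mul_one, e.h2] at h7
      rw [← h7, Matrix.mul_assoc, Matrix.mul_assoc (e.P * _), e.h2, Matrix.mul_one, ← Matrix.mul_assoc, e.h2,
        Matrix.one_mul]
    rw [fromBlocks_multiply, ← fromBlocks_one, fromBlocks_inj] at h6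
    simp only [Matrix.mul_zero, add_zero, zero_add] at h6
    exact ⟨h6.1, h6.2.2.2⟩
  have h1 : (g : Matrix m m F) * (g⁻¹ : GL m F) = 1 := by rw [← Units.val_mul, mul_inv_cancel, Units.val_one]
  have h2 : ((g⁻¹ : GL m F) : Matrix m m F) * (g : Matrix m m F) = 1 := by
    rw [← Units.val_mul, inv_mul_cancel, Units.val_one]
  rw [hAB, hAB'] at h1
  rw [hAB, hAB'] at h2
  obtain ⟨u1, w1⟩ := hm _ _ _ _ h1
  obtain ⟨u2, w2⟩ := hm _ _ _ _ h2
  refine ⟨⟨A, A', u1, u2⟩, ⟨B, B', w1, w2⟩, Units.ext ?_⟩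
  rw [BC.coe_gl]
  exact hAB
end

/-- A family of matrix groups. -/
structure Fm (F : Type) [Field F] where
  I : Type
  ι : I → Type
  [ft : ∀ c, Fintype (ι c)]
  [de : ∀ c, DecidableEq (ι c)]
  G : ∀ c, Subgroup (GL (ι c) F)

attribute [instance] Fm.ft Fm.de

variable {F : Type} [Field F]

/-- block decompositions -/
def Fm.Dec (X : Fm F) (a b c : X.I) : Prop :=
  ∃ e : BC (X.ι c) (X.ι a ⊕ X.ι b) F, ∀ (x : GL (X.ι a) F) (y : GL (X.ι b) F),
    (x ∈ X.G a ∧ y ∈ X.G b) ↔ e.gl (x, y) ∈ X.G c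

namespace Fm

variable (X : Fm F)

noncomputable def bc {a b c : X.I} (h : X.Dec a b c) : BC (X.ι c) (X.ι a ⊕ X.ι b) F := h.choose

theorem bc_spec {a b c : X.I} (h : X.Dec a b c) (x : GL (X.ι a) F) (y : GL (X.ι b) F) :
    (x ∈ X.G a ∧ y ∈ X.G b) ↔ (X.bc h).gl (x, y) ∈ X.G c := h.choose_spec x y

noncomputable def β {a b c : X.I} (h : X.Dec a b c) : X.G a × X.G b →* X.G c :=
  ((X.bc h).gl.comp ((X.G a).subtype.prodMap (X.G b).subtype)).codRestrict (X.G c)
    (fun x => (X.bc_spec h _ _).1 ⟨x.1.2, x.2.2⟩)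

theorem coe_β {a b c : X.I} (h : X.Dec a b c) (x : X.G a) (y : X.G b) :
    (X.β h (x, y) : GL (X.ι c) F) = (X.bc h).gl ((x : GL (X.ι a) F), (y : GL (X.ι b) F)) := rfl

/-- **The system of a family of matrix groups.** -/
noncomputable def toSys [Finite F] (r : ℕ) [Fact r.Prime] [CharP F r] (H : ∀ t : ℕ, Subgroup (ZMod t)ˣ)
    (E_H : ∀ (c : X.I) (x : X.G c) (t : ℕ), t.Prime → ∀ h ∈ H t,
      ∀ z ∈ sp (algebraMap F (AlgebraicClosure F)) ((x : GL (X.ι c) F) : Matrix (X.ι c) (X.ι c) F),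
        z ^ t = 1 → z ^ (h : ZMod t).val ∈
          sp (algebraMap F (AlgebraicClosure F)) ((x : GL (X.ι c) F) : Matrix (X.ι c) (X.ι c) F))
    (M : ℕ → X.I) (N : X.I → X.I → ℕ) (v : ℕ → ℕ)
    (v_pos : ∀ s : ℕ, s.Prime → s ≠ 2 → s ≠ r → 0 < v s)
    (fac : ∀ s : ℕ, s.Prime → s ≠ 2 → s ≠ r → ∀ c : X.I,
      (Nat.card (X.G c)).factorization s = N (M s) c * v s + (N (M s) c).factorial.factorization s)
    (N_M : ∀ s : ℕ, s.Prime → s ≠ 2 → s ≠ r → N (M s) (M s) = 1)
    (split1 : ∀ s : ℕ, s.Prime → s ≠ 2 → s ≠ r → ∀ c : X.I, N (M s) c ≠ 0 →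
      ∃ c' : X.I, X.Dec (M s) c' c ∧ N (M s) c' + 1 = N (M s) c)
    (splitN : ∀ s : ℕ, s.Prime → s ≠ 2 → s ≠ r → ∀ (c : X.I) (k : ℕ), k ≤ N (M s) c →
      ∃ a b : X.I, X.Dec a b c ∧ Pow X.Dec (fun c => Fintype.card (X.ι c)) (M s) k a ∧ N (M s) a = k ∧
        N (M s) b + k = N (M s) c)
    (H_card : ∀ s : ℕ, s.Prime → s ≠ 2 → s ≠ r → Nat.card (H s) = Fintype.card (X.ι (M s)))
    (zero : ∀ s t : ℕ, s.Prime → s ≠ 2 → s ≠ r → t.Prime → t ≠ 2 → t ≠ r →
      Fintype.card (X.ι (M s)) < Fintype.card (X.ι (M t)) → ∀ c : X.I, N (M s) c = 0 → N (M t) c = 0) :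
    Sys.{0, 0} r where
  I := X.I
  G c := X.G c
  fin c := by
    have : Finite (GL (X.ι c) F) := by
      have : Finite (Matrix (X.ι c) (X.ι c) F) := inferInstance
      exact inferInstance
    exact inferInstance
  K := AlgebraicClosure F
  E {c} x := sp (algebraMap F (AlgebraicClosure F)) ((x : GL (X.ι c) F) : Matrix (X.ι c) (X.ι c) F)
  dim c := Fintype.card (X.ι c)
  E_fin x := sp_finite _
  E_card x := sp_ncard_le _
  E_one c := sp_one
  E_pow {c} x j hj := by
    rw [SubmonoidClass.coe_pow, Units.val_pow_eq_pow_val]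
    exact sp_pow _ hj
  E_ne {c} x t ht htr hx hx1 := by
    refine exists_ne_one (p := r) ht htr _ ?_ ?_
    · rw [← Units.val_pow_eq_pow_val, ← SubmonoidClass.coe_pow, hx]
      rfl
    · intro h
      exact hx1 (Subtype.ext (Units.ext h))
  H := H
  E_H {c} x t := E_H c x t
  ab {c} x u v hx hu hv := by
    apply Subtype.ext
    apply Units.ext
    exact comm_of_ncard hx (congrArg (fun g : X.G c => ((g : GL (X.ι c) F) : Matrix (X.ι c) (X.ι c) F)) hu)
      (congrArg (fun g : X.G c => ((g : GL (X.ι c) F) : Matrix (X.ι c) (X.ι c) F)) hv)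
  Dec := X.Dec
  β h := X.β h
  β_inj {a b c} h := by
    rintro ⟨x, y⟩ ⟨x', y'⟩ hxy
    have h1 := congrArg Subtype.val hxy
    rw [coe_β, coe_β] at h1
    have h2 := (X.bc h).gl_injective h1
    exact Prod.ext (Subtype.ext (congrArg Prod.fst h2)) (Subtype.ext (congrArg Prod.snd h2))
  E_β {a b c} h x y := by
    rw [coe_β]
    exact BC.sp_gl _ _ _ _
  cp {a b c} h x y g hd hg := by
    have h1 := congrArg Subtype.val hg
    rw [Subgroup.coe_mul, Subgroup.coe_mul, coe_β] at h1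
    obtain ⟨u, v, huv⟩ := (X.bc h).exists_of_comm _ _ _ hd _ h1
    obtain ⟨hu, hv⟩ := (X.bc_spec h u v).2 (huv ▸ g.2)
    exact ⟨⟨u, hu⟩, ⟨v, hv⟩, Subtype.ext huv⟩
  M := M
  N := N
  v := v
  v_pos := v_pos
  fac := fac
  N_M := N_M
  split1 := split1
  splitN := splitN
  H_card := H_card
  zero := zero

end Fm

end Cfsg.Agent.H201.MatSys
end

-- part: H201/BlockMain
section
/-!
# Systems of groups with block decompositions: the rows (helper201)
-/

set_option autoImplicit false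
open Subgroup
open Cfsg.Agent.H630.NH

namespace Cfsg.Agent.H201.BlockSys

universe u v

namespace Sys

variable {r : ℕ} {S : Sys.{u, v} r}

theorem exists_order {G : Type*} [Group G] {t : ℕ} (ht : t.Prime) {y : G} (hy : y ^ t = 1) :
    ∃ k : ℕ, orderOf y = t ^ k := by
  obtain ⟨k, -, hk⟩ := (Nat.dvd_prime_pow ht).1 (show orderOf y ∣ t ^ 1 by
    rw [pow_one]; exact orderOf_dvd_of_pow_eq_one hy)
  exact ⟨k, hk⟩

theorem dim_eq {π : Set ℕ} (c : S.I) (hπ : ∀ s ∈ π, Good r s) (hN : ∀ s ∈ π, S.N (S.M s) c ≠ 0)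
    (hc : Cond π (S.G c)) {s t : ℕ} (hs : s ∈ π) (ht : t ∈ π) : S.dim (S.M s) = S.dim (S.M t) := by
  have key : ∀ s ∈ π, ∀ t ∈ π, ¬ S.dim (S.M s) < S.dim (S.M t) := by
    intro s hs t ht hlt
    have hps : Fact s.Prime := ⟨(hπ s hs).1⟩
    have hpt : Fact t.Prime := ⟨(hπ t ht).1⟩
    obtain ⟨P⟩ : Nonempty (Sylow s (S.G c)) := inferInstance
    refine not_cond_of_centralizer hs ht (fun h => ?_) ((dvd_iff (hπ t ht)).2 (hN t ht)) P P.isPGroup' ?_ hc
    · rw [h] at hlt
      exact lt_irrefl _ hlt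
    · intro y hy hP
      have h1 : y ^ t = 1 := by
        have := pow_orderOf_eq_one y
        rwa [hy] at this
      have h2 := alpha (hπ s hs) (hπ t ht) hlt c P y h1 hP
      rw [h2, orderOf_one] at hy
      exact (hπ t ht).1.one_lt.ne hy
  have h1 := key s hs t ht
  have h2 := key t ht s hs
  omega

theorem lt_of_cond {π : Set ℕ} (c : S.I) (hπ : ∀ s ∈ π, Good r s) (hc : Cond π (S.G c)) {s t : ℕ} (hs : s ∈ π)
    (ht : t ∈ π) (hne : s ≠ t) (hM : S.M s = S.M t) : S.N (S.M s) c < s := by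
  have key : ∀ s ∈ π, ∀ t ∈ π, s < t → S.M s = S.M t → S.N (S.M t) c < s := by
    intro s hs t ht hst hM
    have hps : Fact s.Prime := ⟨(hπ s hs).1⟩
    have hpt : Fact t.Prime := ⟨(hπ t ht).1⟩
    by_contra hle
    obtain ⟨k, hk⟩ := exists_not_mem (hπ s hs) (hπ t ht) hst hM
    obtain ⟨x, hx, hx1⟩ := exists_elem (S := S) (hπ t ht)
    obtain ⟨y, hy, hd, -, -⟩ := beta (Fam.triv S) (hπ s hs) (hπ t ht) hM c (not_lt.1 hle) k hk
      (S.N (S.M t) c % s) le_rfl (Nat.mod_lt _ (hπ s hs).1.pos) x hx hx1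
    exact hc t ht s hs hst.ne' y (exists_order (hπ t ht).1 hy) hd
  rcases lt_or_gt_of_ne hne with h | h
  · rw [hM]
    exact key s hs t ht h hM
  · have h1 := key t ht s hs h hM.symm
    omega

/-- The index of the centralizer of an atom. -/
theorem index_atom {s t : ℕ} (hs : Good r s) (ht : Good r t) (c c' : S.I) (hd : S.Dec (S.M t) c' c)
    (x : S.G (S.M t)) (hx : x ^ t = 1) (hx1 : x ≠ 1)
    (hc : ¬ s ∣ (centralizer ({S.β hd (x, 1)} : Set (S.G c))).index) :
    (Nat.card (S.G c)).factorization s = (Nat.card (centralizer ({x} : Set (S.G (S.M t))))).factorization s +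
      (Nat.card (S.G c')).factorization s := by
  have hps : Fact s.Prime := ⟨hs.1⟩
  rw [fac_index (centralizer ({S.β hd (x, 1)} : Set (S.G c))) s, Nat.factorization_eq_zero_of_not_dvd hc, add_zero,
    card_centralizer_β hd x 1 (disjoint_one ht hx hx1 c'), Nat.factorization_mul Nat.card_pos.ne' Nat.card_pos.ne',
    Finsupp.add_apply]
  have h1 : centralizer ({(1 : S.G c')} : Set (S.G c')) = ⊤ := by
    rw [eq_top_iff]
    intro g _
    rw [mem_centralizer_singleton_iff, mul_one, one_mul]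
  rw [h1, card_top]

/-- The centralizer of an element of order `t` in the minimal block. -/
theorem centralizer_comm {t : ℕ} (ht : Good r t) {x : S.G (S.M t)} (hx : x ^ t = 1) (hx1 : x ≠ 1) :
    ∀ u ∈ centralizer ({x} : Set (S.G (S.M t))), ∀ w ∈ centralizer ({x} : Set (S.G (S.M t))), u * w = w * u := by
  intro u hu w hw
  rw [mem_centralizer_singleton_iff] at hu hw
  exact S.ab x u w (block ht hx hx1).1 hu.symm hw.symm

theorem torus_index {π : Set ℕ} (c c' : S.I) (hπ : ∀ s ∈ π, Good r s) (hc : Cond π (S.G c)) {t : ℕ} (ht : t ∈ π)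
    (hd : S.Dec (S.M t) c' c) (hN : S.N (S.M t) c' + 1 = S.N (S.M t) c) {x : S.G (S.M t)} (hx : x ^ t = 1)
    (hx1 : x ≠ 1) {s : ℕ} (hs : s ∈ π) (hM : S.M s = S.M t) (hlt : S.N (S.M t) c < s) :
    ¬ s ∣ (centralizer ({x} : Set (S.G (S.M t)))).index := by
  have hps : Fact s.Prime := ⟨(hπ s hs).1⟩
  have hpt : Fact t.Prime := ⟨(hπ t ht).1⟩
  by_cases hst : s = t
  · subst hst
    exact not_dvd_index (hπ s hs) x hx
  · have h1 : (S.β hd (x, 1)) ^ t = 1 := by
      rw [← map_pow, Prod.pow_mk, hx, one_pow]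
      exact map_one _
    have h2 := hc t ht s hs (Ne.symm hst) (S.β hd (x, 1)) (exists_order (hπ t ht).1 h1)
    have h3 := index_atom (hπ s hs) (hπ t ht) c c' hd x hx hx1 h2
    obtain ⟨g1, g2, g3⟩ := hπ s hs
    have f1 := S.fac s g1 g2 g3 c
    have f2 := S.fac s g1 g2 g3 c'
    have f3 := S.fac s g1 g2 g3 (S.M t)
    rw [hM] at f1 f2 f3
    rw [S.N_M t (hπ t ht).1 (hπ t ht).2.1 (hπ t ht).2.2, fac_index (centralizer ({x} : Set (S.G (S.M t)))) s] at f3
    rw [fact_zero g1 hlt] at f1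
    rw [fact_zero g1 (show S.N (S.M t) c' < s by omega)] at f2
    rw [fact_zero g1 g1.one_lt] at f3
    rw [← hN, add_mul] at f1
    intro h4
    have h5 := g1.factorization_pos_of_dvd index_ne_zero_of_finite h4
    omega

/-- **The rows, if the minimal block is determined by its dimension.** -/
theorem exists_abelian (hdim : ∀ s t, Good r s → Good r t → S.dim (S.M s) = S.dim (S.M t) → S.M s = S.M t)
    (c : S.I) (π : Set ℕ) (hπ : ∀ s ∈ π, Good r s) (hd : ∀ s ∈ π, s ∣ Nat.card (S.G c)) (hnt : π.Nontrivial)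
    (hc : Cond π (S.G c)) :
    ∃ T : Subgroup (S.G c), (∀ x ∈ T, ∀ y ∈ T, x * y = y * x) ∧ ∀ s ∈ π, ¬ s ∣ T.index := by
  have hN : ∀ s ∈ π, S.N (S.M s) c ≠ 0 := fun s hs => (dvd_iff (hπ s hs)).1 (hd s hs)
  obtain ⟨t, ht, t', ht', htt⟩ := hnt
  have hM : ∀ s ∈ π, S.M s = S.M t := fun s hs => hdim s t (hπ s hs) (hπ t ht) (dim_eq c hπ hN hc hs ht)
  have hlt : ∀ s ∈ π, S.N (S.M t) c < s := by
    intro s hs
    rw [← hM s hs]
    by_cases h : s = t
    · subst h
      exact lt_of_cond c hπ hc hs ht' htt (hM t' ht').symm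
    · exact lt_of_cond c hπ hc hs ht h (hM s hs)
  have hg := hπ t ht
  obtain ⟨c', hc', hN'⟩ := S.split1 t hg.1 hg.2.1 hg.2.2 c (hN t ht)
  obtain ⟨x, hx, hx1⟩ := exists_elem (S := S) hg
  exact gamma (centralizer ({x} : Set (S.G (S.M t)))) (centralizer_comm hg hx hx1) c π
    (fun s hs => ⟨hπ s hs, hM s hs, hlt s hs, torus_index c c' hπ hc ht hc' hN' hx hx1 hs (hM s hs) (hlt s hs)⟩)
    ⟨t, ht⟩

theorem isMulCommutative_of {G : Type*} [Group G] {T : Subgroup G} (h : ∀ x ∈ T, ∀ y ∈ T, x * y = y * x) :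
    IsMulCommutative T :=
  ⟨⟨fun a b => Subtype.ext (h a a.2 b b.2)⟩⟩

end Sys

end Cfsg.Agent.H201.BlockSys
end

-- part: H201/BlockDet
section
/-!
# Systems of groups with block decompositions: the kernel of the determinant (helper201)
-/

set_option autoImplicit false
open Subgroup
open Cfsg.Agent.H630.NH

namespace Cfsg.Agent.H201.BlockSys

universe u v

theorem relIndex_sup {G : Type*} [Group G] [Finite G] (S K : Subgroup G) [K.Normal] :
    S.relIndex (S ⊔ K) = S.relIndex K := by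
  have h1 : Nat.card S * S.relIndex (S ⊔ K) = Nat.card (S ⊔ K : Subgroup G) := by
    rw [← Subgroup.relIndex_bot_left, ← Subgroup.relIndex_bot_left,
      Subgroup.relIndex_mul_relIndex _ _ _ bot_le le_sup_left]
  have h2 : Nat.card K * K.relIndex S = Nat.card (S ⊔ K : Subgroup G) := by
    rw [← Subgroup.relIndex_sup_right S K, ← Subgroup.relIndex_bot_left, ← Subgroup.relIndex_bot_left,
      Subgroup.relIndex_mul_relIndex _ _ _ bot_le le_sup_right]
  have h3 : Nat.card (K ⊓ S : Subgroup G) * K.relIndex S = Nat.card S := by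
    rw [← Subgroup.inf_relIndex_right, ← Subgroup.relIndex_bot_left,
      Subgroup.relIndex_mul_relIndex _ _ _ bot_le inf_le_right, Subgroup.relIndex_bot_left]
  have h4 : Nat.card (K ⊓ S : Subgroup G) * S.relIndex K = Nat.card K := by
    rw [inf_comm, ← Subgroup.inf_relIndex_right, ← Subgroup.relIndex_bot_left,
      Subgroup.relIndex_mul_relIndex _ _ _ bot_le inf_le_right, Subgroup.relIndex_bot_left]
  have h5 : 0 < Nat.card (K ⊓ S : Subgroup G) := Nat.card_pos
  have h6 : 0 < K.relIndex S := Nat.pos_of_ne_zero (index_ne_zero_of_finite)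
  apply Nat.eq_of_mul_eq_mul_left (Nat.mul_pos h5 h6)
  calc Nat.card (K ⊓ S : Subgroup G) * K.relIndex S * S.relIndex (S ⊔ K)
      = Nat.card S * S.relIndex (S ⊔ K) := by rw [h3]
    _ = Nat.card K * K.relIndex S := by rw [h1, h2]
    _ = Nat.card (K ⊓ S : Subgroup G) * S.relIndex K * K.relIndex S := by rw [h4]
    _ = _ := by ring

/-- `Cond` for a normal subgroup of index prime to `π`. -/
theorem cond_of_normal {π : Set ℕ} {G : Type*} [Group G] [Finite G] (N : Subgroup G) [N.Normal]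
    (hπ : ∀ p ∈ π, p.Prime ∧ ¬ p ∣ N.index) (h : Cond π N) : Cond π G := by
  intro p hp q hq hpq x hx hd
  obtain ⟨k, hk⟩ := hx
  have hpp := (hπ p hp).1
  have hxN : x ∈ N := by
    have h1 : x ^ N.index ∈ N := Subgroup.pow_index_mem N x
    have h2 : (p ^ k).Coprime N.index := Nat.Coprime.pow_left k ((hpp.coprime_iff_not_dvd).2 (hπ p hp).2)
    have h3 : x ∈ Subgroup.zpowers (x ^ N.index) := by
      have h4 : Nat.Coprime (orderOf x) N.index := by rw [hk]; exact h2
      rw [mem_zpowers_pow_iff]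
      exact h4.symm
    exact (Subgroup.zpowers_le.mpr h1) h3
  have h4 := h p hp q hq hpq ⟨x, hxN⟩ ⟨k, by rw [← hk, ← Subgroup.orderOf_coe]⟩
  apply h4
  have h5 : (Subgroup.centralizer ({⟨x, hxN⟩} : Set N)) = (Subgroup.centralizer ({x} : Set G)).subgroupOf N := by
    ext z
    rw [Subgroup.mem_subgroupOf, Subgroup.mem_centralizer_singleton_iff, Subgroup.mem_centralizer_singleton_iff]
    constructor
    · intro hz
      exact congrArg Subtype.val hz
    · intro hz
      exact Subtype.ext hz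
  have h6 : (Subgroup.centralizer ({⟨x, hxN⟩} : Set N)).index = (Subgroup.centralizer ({x} : Set G)).relIndex N := by
    rw [h5]; rfl
  rw [h6]
  have h7 : (Subgroup.centralizer ({x} : Set G)).index ∣ (Subgroup.centralizer ({x} : Set G) ⊓ N).index :=
    Subgroup.index_dvd_of_le inf_le_left
  have h8 : (Subgroup.centralizer ({x} : Set G) ⊓ N).index
      = (Subgroup.centralizer ({x} : Set G)).relIndex N * N.index := by
    rw [← Subgroup.relIndex_mul_index (inf_le_right : Subgroup.centralizer ({x} : Set G) ⊓ N ≤ N),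
      Subgroup.inf_relIndex_right]
  rw [h8] at h7
  rcases ((hπ q hq).1).dvd_mul.mp (hd.trans h7) with h9 | h9
  · exact h9
  · exact absurd h9 (hπ q hq).2

/-- An abelian subgroup of the group intersects a normal subgroup. -/
theorem inter_normal {π : Set ℕ} {G : Type*} [Group G] [Finite G] (N : Subgroup G) [N.Normal] (T : Subgroup G)
    (hT : ∀ x ∈ T, ∀ y ∈ T, x * y = y * x) (hi : ∀ s ∈ π, ¬ s ∣ T.index) :
    ∃ T' : Subgroup N, IsMulCommutative T' ∧ ∀ s ∈ π, ¬ s ∣ T'.index := by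
  refine ⟨T.subgroupOf N, Sys.isMulCommutative_of ?_, ?_⟩
  · intro x hx y hy
    exact Subtype.ext (hT x hx y hy)
  · intro p hp h1
    have h2 : (T.subgroupOf N).index = T.relIndex N := rfl
    rw [h2, ← relIndex_sup] at h1
    exact hi p hp (h1.trans (Subgroup.relIndex_dvd_index_of_le le_sup_left))

/-- The class size in a normal subgroup `N` with `N C(y) = G`. -/
theorem index_centralizer_normal {G : Type*} [Group G] [Finite G] (N : Subgroup G) [N.Normal] (y : N)
    (h : centralizer ({(y : G)} : Set G) ⊔ N = ⊤) :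
    (centralizer ({y} : Set N)).index = (centralizer ({(y : G)} : Set G)).index := by
  have h5 : (centralizer ({y} : Set N)) = (centralizer ({(y : G)} : Set G)).subgroupOf N := by
    ext z
    rw [mem_subgroupOf, mem_centralizer_singleton_iff, mem_centralizer_singleton_iff]
    constructor
    · intro hz
      exact congrArg Subtype.val hz
    · intro hz
      exact Subtype.ext hz
  have h6 : (centralizer ({y} : Set N)).index = (centralizer ({(y : G)} : Set G)).relIndex N := by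
    rw [h5]; rfl
  rw [h6, ← relIndex_sup, h, relIndex_top_right]

namespace Sys

variable {r : ℕ} {S : Sys.{u, v} r}

theorem crossRow_ker (F : Fam S) (one : S.I) (hinj : Function.Injective (F.det one)) (U : Subgroup F.D) [Finite U]
    (hU : ∀ (c : S.I) (x : S.G c), F.det c x ∈ U) (hsurj : ∀ u ∈ U, ∃ x : S.G one, F.det one x = u)
    (hM1 : ∀ s, Good r s → s ∣ Nat.card U → S.M s = one)
    (hN1 : ∀ c, S.N one c = S.dim c) (hone : S.dim one = 1)
    (hdim : ∀ s t, Good r s → Good r t → S.dim (S.M s) = S.dim (S.M t) → S.M s = S.M t)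
    (c : S.I) : CrossRow r (F.det c).ker := by
  intro π hπ hnt hc
  have hg : ∀ s ∈ π, Good r s := fun s hs => ⟨(hπ s hs).1, (hπ s hs).2.1, (hπ s hs).2.2.1⟩
  have hd : ∀ s ∈ π, s ∣ Nat.card (S.G c) := fun s hs => (hπ s hs).2.2.2.trans (card_subgroup_dvd_card _)
  have hcomm1 : ∀ x y : S.G one, x * y = y * x := fun x y => hinj (by rw [map_mul, map_mul, mul_comm])
  by_cases hall : ∀ s ∈ π, ¬ s ∣ Nat.card U
  · have h1 : (F.det c).ker.index ∣ Nat.card U := by
      rw [index_ker]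
      refine card_dvd_of_le ?_
      rintro _ ⟨x, rfl⟩
      exact hU c x
    have h2 : Cond π (S.G c) := cond_of_normal (F.det c).ker
      (fun p hp => ⟨(hg p hp).1, fun h => hall p hp (h.trans h1)⟩) hc
    obtain ⟨T, hT, hi⟩ := exists_abelian hdim c π hg hd hnt h2
    exact inter_normal _ T hT hi
  · push Not at hall
    obtain ⟨s0, hs0, hs0d⟩ := hall
    have hp0 : Fact s0.Prime := ⟨(hg s0 hs0).1⟩
    have hMs0 : S.M s0 = one := hM1 s0 (hg s0 hs0) hs0d
    -- all minimal blocks are one-dimensional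
    have hM : ∀ t ∈ π, S.M t = one := by
      intro t ht
      have hpt : Fact t.Prime := ⟨(hg t ht).1⟩
      by_contra hne
      have hdne : S.dim (S.M t) ≠ S.dim one := by
        intro h
        exact hne ((hdim t s0 (hg t ht) (hg s0 hs0) (by rw [h, hMs0])).trans hMs0)
      have hpos := dim_pos (S := S) (hg t ht)
      have hlt : S.dim one < S.dim (S.M t) := by omega
      have hne0 : s0 ≠ t := fun h => hne (h ▸ hMs0)
      have hdimc : S.dim (S.M t) ≤ S.dim c := by
        by_contra hlt2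
        obtain ⟨y, hy⟩ := exists_prime_orderOf_dvd_card' t (hd t ht)
        have h1 : y ^ t = 1 := by
          have := pow_orderOf_eq_one y
          rwa [hy] at this
        have h2 := eq_one_of_dim_lt (hg t ht) (not_le.1 hlt2) y h1
        rw [h2, orderOf_one] at hy
        exact (hg t ht).1.one_lt.ne hy
      obtain ⟨g1, g2, g3⟩ := hg s0 hs0
      obtain ⟨c', hc', hN'⟩ := S.split1 s0 g1 g2 g3 c (by rw [hMs0, hN1]; omega)
      obtain ⟨c'', hc'', hN''⟩ := S.split1 s0 g1 g2 g3 c' (by rw [hMs0] at hN' ⊢; rw [hN1 c] at hN'; omega)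
      obtain ⟨x, hx, hx1⟩ := exists_elem (S := S) (hg s0 hs0)
      -- the inverse
      have hs02 : 2 < s0 := lt_of_le_of_ne g1.two_le (Ne.symm g2)
      set k : (ZMod s0)ˣ := -1 with hk
      have hkH : k ∉ S.H s0 := by
        intro h
        have h1 : Nat.card (S.H s0) = 1 := by rw [S.H_card s0 g1 g2 g3, hMs0, hone]
        rw [(Subgroup.card_eq_one).1 h1, mem_bot] at h
        have h2 : ((-1 : (ZMod s0)ˣ) : ZMod s0) = ((1 : (ZMod s0)ˣ) : ZMod s0) := by rw [← hk, h]
        rw [Units.val_neg, Units.val_one] at h2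
        have h3 : Fact (2 < s0) := ⟨hs02⟩
        exact ZMod.neg_one_ne_one h2
      have hdisj := disjoint_pow (hg s0 hs0) hx hx1 k hkH
      set x2 := x ^ (k : ZMod s0).val with hx2
      have hx2x : x * x2 = 1 := by
        rw [hx2, ← pow_succ']
        have h1 : ((((k : ZMod s0).val + 1 : ℕ)) : ZMod s0) = 0 := by
          rw [Nat.cast_add, ZMod.natCast_zmod_val, hk, Units.val_neg, Units.val_one, Nat.cast_one, neg_add_cancel]
        obtain ⟨m, hm⟩ := (ZMod.natCast_eq_zero_iff _ _).1 h1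
        rw [hm, pow_mul, hx, one_pow]
      have hx2s : x2 ^ s0 = 1 := by rw [hx2, ← pow_mul, mul_comm, pow_mul, hx, one_pow]
      -- a Sylow subgroup containing `β (x2, 1)`
      have hzp : IsPGroup s0 (zpowers (S.β hc'' (x2, 1))) := by
        rintro ⟨y, hy⟩
        obtain ⟨i, rfl⟩ := mem_zpowers_iff.1 hy
        refine ⟨1, Subtype.ext ?_⟩
        show ((S.β hc'' (x2, 1)) ^ i) ^ s0 ^ 1 = 1
        rw [pow_one, ← zpow_natCast, ← zpow_mul, mul_comm, zpow_mul, zpow_natCast, ← map_pow, Prod.pow_mk, hx2s,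
          one_pow, show ((1 : S.G (S.M s0)), (1 : S.G c'')) = 1 from rfl, map_one, one_zpow]
      obtain ⟨P', hP'⟩ := hzp.exists_le_sylow
      set A : Subgroup (F.det c).ker :=
        (((⊤ : Subgroup (S.G (S.M s0))).prod (P' : Subgroup (S.G c'))).map (S.β hc')).subgroupOf (F.det c).ker with hA
      have hinj' : Function.Injective (F.det (S.M s0)) := by rw [hMs0]; exact hinj
      have hsurj' : ∀ u ∈ U, ∃ x : S.G (S.M s0), F.det (S.M s0) x = u := by rw [hMs0]; exact hsurj
      have hAp : IsPGroup s0 A := by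
        rintro ⟨⟨g, hgk⟩, ⟨⟨a, b⟩, hab, rfl : S.β hc' (a, b) = g⟩⟩
        obtain ⟨j, hj⟩ := P'.isPGroup' ⟨b, (mem_prod.1 hab).2⟩
        have hj' : b ^ s0 ^ j = 1 := congrArg Subtype.val hj
        have hdet : F.det _ a * F.det _ b = 1 := by
          rw [← F.det_β hc']
          exact hgk
        have ha : a ^ s0 ^ j = 1 := by
          apply hinj'
          rw [map_pow, map_one]
          have h1 : (F.det _ a * F.det _ b) ^ s0 ^ j = 1 := by rw [hdet, one_pow]
          rwa [mul_pow, ← map_pow (F.det c') b, hj', map_one, mul_one] at h1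
        refine ⟨j, Subtype.ext (Subtype.ext ?_)⟩
        show (S.β hc' (a, b)) ^ s0 ^ j = 1
        rw [← map_pow, Prod.pow_mk, ha, hj']
        exact map_one _
      refine not_cond_of_centralizer hs0 ht hne0 (hπ t ht).2.2.2 A hAp ?_ hc
      intro y hy hyA
      have hy1 : (y : S.G c) ^ t = 1 := by
        have := pow_orderOf_eq_one y
        rw [hy] at this
        exact congrArg Subtype.val this
      have hcom : ∀ a : S.G (S.M s0), ∀ b ∈ P', F.det _ a * F.det _ b = 1 →
          S.β hc' (a, b) * (y : S.G c) = (y : S.G c) * S.β hc' (a, b) := by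
        intro a b hb hab
        have h1 : S.β hc' (a, b) ∈ (F.det c).ker := by
          rw [MonoidHom.mem_ker, F.det_β]
          exact hab
        exact congrArg Subtype.val (hyA ⟨S.β hc' (a, b), h1⟩ ⟨(a, b), mem_prod.2 ⟨mem_top _, hb⟩, rfl⟩)
      have h2 : F.det _ x * F.det _ (S.β hc'' (x2, 1)) = 1 := by
        rw [F.det_β, map_one, mul_one, ← map_mul, hx2x, map_one]
      have h3 := hcom x _ (hP' (mem_zpowers _)) h2
      have hdj : Disjoint (S.E x) (S.E (S.β hc'' (x2, 1))) := by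
        rw [S.E_β, Set.disjoint_union_right]
        exact ⟨hdisj, disjoint_one (hg s0 hs0) hx hx1 c''⟩
      obtain ⟨u, w, huw⟩ := S.cp hc' x _ (y : S.G c) hdj h3.symm
      have h4 : u ^ t = 1 ∧ w ^ t = 1 := by
        rw [huw, ← map_pow, ← map_one (S.β hc')] at hy1
        have := S.β_inj hc' hy1
        exact ⟨congrArg Prod.fst this, congrArg Prod.snd this⟩
      have hu : u = 1 := eq_one_of_dim_lt (hg t ht) (by rw [hMs0]; exact hlt) u h4.1
      have hw : w = 1 := by
        refine alpha (hg s0 hs0) (hg t ht) (by rw [hMs0]; exact hlt) c' P' w h4.2 (fun b hb => ?_)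
        obtain ⟨a, ha⟩ := hsurj' (F.det _ b)⁻¹ (inv_mem (hU _ b))
        have h5 := hcom a b hb (by rw [ha, inv_mul_cancel])
        rw [huw, ← map_mul, ← map_mul] at h5
        exact congrArg Prod.snd (S.β_inj hc' h5)
      have h6 : y = 1 := by
        apply Subtype.ext
        rw [huw, hu, hw]
        exact map_one _
      rw [h6, orderOf_one] at hy
      exact (hg t ht).1.one_lt.ne hy
    -- multiplicities
    have hlt : ∀ s ∈ π, S.N one c < s := by
      have key : ∀ s ∈ π, ∀ t ∈ π, s < t → S.N one c < s := by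
        intro s hs t ht hst
        have hps : Fact s.Prime := ⟨(hg s hs).1⟩
        have hpt : Fact t.Prime := ⟨(hg t ht).1⟩
        by_contra hle
        set c1 : ℕ := max (S.N one c % s) 1 with hc1
        have h1c : 1 ≤ c1 := le_max_right _ _
        have hcs : c1 < s := max_lt (Nat.mod_lt _ (hg s hs).1.pos) (hg s hs).1.one_lt
        have hne : -(c1 : ZMod t) ≠ 0 := by
          rw [neg_ne_zero, Ne, ZMod.natCast_eq_zero_iff]
          intro h
          have := Nat.le_of_dvd (by omega) h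
          omega
        set k : (ZMod t)ˣ := Units.mk0 _ hne with hk
        have hkH : k ∉ S.H t := by
          intro h
          obtain ⟨g1, g2, g3⟩ := hg t ht
          have h1 : Nat.card (S.H t) = 1 := by rw [S.H_card t g1 g2 g3, hM t ht, hone]
          rw [(Subgroup.card_eq_one).1 h1, mem_bot] at h
          have h2 : -(c1 : ZMod t) = 1 := by
            have := congrArg (fun z : (ZMod t)ˣ => (z : ZMod t)) h
            exact this
          have h3 : (((c1 + 1 : ℕ)) : ZMod t) = 0 := by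
            rw [Nat.cast_add, Nat.cast_one, ← h2, add_neg_cancel]
          rw [ZMod.natCast_eq_zero_iff] at h3
          have := Nat.le_of_dvd (by omega) h3
          omega
        obtain ⟨x, hx, hx1⟩ := exists_elem (S := S) (hg t ht)
        obtain ⟨y, hy, hdv, hdet, hsur⟩ := beta F (hg s hs) (hg t ht) ((hM s hs).trans (hM t ht).symm) c
          (by rw [hM t ht]; exact not_lt.1 hle) k hkH c1 (by rw [hM t ht]; exact le_max_left _ _) hcs x hx hx1
        have hker : y ∈ (F.det c).ker := by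
          rw [MonoidHom.mem_ker, hdet, ← pow_add]
          have h3 : (((c1 + (k : ZMod t).val : ℕ)) : ZMod t) = 0 := by
            rw [Nat.cast_add, ZMod.natCast_zmod_val, hk, Units.val_mk0, add_neg_cancel]
          obtain ⟨m, hm⟩ := (ZMod.natCast_eq_zero_iff _ _).1 h3
          rw [hm, pow_mul, ← map_pow, hx, map_one, one_pow]
        have hsup : centralizer ({y} : Set (S.G c)) ⊔ (F.det c).ker = ⊤ := by
          rw [eq_top_iff]
          intro g _
          have hsurj' : ∀ u ∈ U, ∃ x : S.G (S.M t), F.det (S.M t) x = u := by rw [hM t ht]; exact hsurj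
          have hcomm' : ∀ x y : S.G (S.M t), x * y = y * x := by rw [hM t ht]; exact hcomm1
          obtain ⟨z, hz⟩ := hsurj' (F.det c g) (hU c g)
          obtain ⟨w, hw, hwz⟩ := hsur z (hcomm' z x)
          have h5 : g = w * (w⁻¹ * g) := by group
          rw [h5]
          refine mul_mem ((le_sup_left : _ ≤ centralizer ({y} : Set (S.G c)) ⊔ (F.det c).ker) hw)
            ((le_sup_right : _ ≤ centralizer ({y} : Set (S.G c)) ⊔ (F.det c).ker) ?_)
          rw [MonoidHom.mem_ker, map_mul, map_inv, hwz, hz, inv_mul_cancel]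
        have hy' : (⟨y, hker⟩ : (F.det c).ker) ^ t = 1 := Subtype.ext hy
        refine hc t ht s hs hst.ne' ⟨y, hker⟩ (exists_order (hg t ht).1 hy') ?_
        rw [index_centralizer_normal (F.det c).ker ⟨y, hker⟩ hsup]
        exact hdv
      obtain ⟨t1, ht1, t2, ht2, htt⟩ := hnt
      intro s hs
      obtain ⟨t, ht, hst⟩ : ∃ t ∈ π, s ≠ t := by
        by_cases h : s = t1
        · exact ⟨t2, ht2, h ▸ htt⟩
        · exact ⟨t1, ht1, h⟩
      rcases lt_or_gt_of_ne hst with h | h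
      · exact key s hs t ht h
      · have := key t ht s hs h
        omega
    obtain ⟨T, hT, hi⟩ := gamma (S := S) (⊤ : Subgroup (S.G one)) (fun x _ y _ => hcomm1 x y) c π
      (fun s hs => ⟨hg s hs, hM s hs, hlt s hs, by rw [index_top]; exact (hg s hs).1.not_dvd_one⟩)
      ⟨s0, hs0⟩
    exact inter_normal _ T hT hi

end Sys

end Cfsg.Agent.H201.BlockSys
end

-- part: H201/NatSys
section
/-!
# Systems of matrix groups indexed by natural numbers (helper201)

`GL_n`, `GU_n`, `Sp_{2n}`.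
-/

set_option autoImplicit false

namespace Cfsg.Agent.H201.MatSys

open Matrix BlockSys MatSpec Cfsg.Agent.H630.NH

/-- the subgroup of exponents generated by the integers in `Λ` -/
def Hs (Λ : Set ℤ) (t : ℕ) : Subgroup (ZMod t)ˣ := Subgroup.closure {u | ∃ c ∈ Λ, (u : ZMod t) = (c : ZMod t)}

theorem mem_of_mem_Hs {K : Type*} [Field K] {Λ : Set ℤ} {S : Set K} (hS : ∀ z ∈ S, z ≠ 0 ∧ ∀ c ∈ Λ, z ^ c ∈ S)
    {t : ℕ} (ht : t.Prime) {h : (ZMod t)ˣ} (hh : h ∈ Hs Λ t) : ∀ z ∈ S, z ^ t = 1 → z ^ (h : ZMod t).val ∈ S := by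
  have hp : Fact t.Prime := ⟨ht⟩
  have hone : ∀ z ∈ S, z ^ t = 1 → z ^ ((1 : (ZMod t)ˣ) : ZMod t).val ∈ S := by
    intro z hz _
    rw [Units.val_one, ZMod.val_one, pow_one]
    exact hz
  have hpow : ∀ (z : K), z ^ t = 1 → ∀ n : ℕ, z ^ n = z ^ (n % t) := by
    intro z hz n
    conv_lhs => rw [← Nat.div_add_mod n t, pow_add, pow_mul, hz, one_pow, one_mul]
  have hmul : ∀ a b : (ZMod t)ˣ, (∀ z ∈ S, z ^ t = 1 → z ^ (a : ZMod t).val ∈ S) →
      (∀ z ∈ S, z ^ t = 1 → z ^ (b : ZMod t).val ∈ S) → ∀ z ∈ S, z ^ t = 1 → z ^ ((a * b : (ZMod t)ˣ) : ZMod t).val ∈ S := by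
    intro a b ha hb z hz hzt
    have h1 := ha z hz hzt
    have h2 := hb _ h1 (by rw [← pow_mul, mul_comm, pow_mul, hzt, one_pow])
    rw [← pow_mul, hpow z hzt, ← ZMod.val_mul] at h2
    exact h2
  have hpw : ∀ a : (ZMod t)ˣ, (∀ z ∈ S, z ^ t = 1 → z ^ (a : ZMod t).val ∈ S) → ∀ k : ℕ,
      ∀ z ∈ S, z ^ t = 1 → z ^ ((a ^ k : (ZMod t)ˣ) : ZMod t).val ∈ S := by
    intro a ha k
    induction k with
    | zero =>
      rw [pow_zero]
      exact hone
    | succ k ih =>
      rw [pow_succ]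
      exact hmul _ _ ih ha
  refine Subgroup.closure_induction (G := (ZMod t)ˣ)
    (p := fun h _ => ∀ z ∈ S, z ^ t = 1 → z ^ (h : ZMod t).val ∈ S) ?_ ?_ ?_ ?_ hh
  · rintro u ⟨c, hc, huc⟩ z hz hzt
    have h1 := (hS z hz).2 c hc
    have h2 : z ^ c = z ^ (u : ZMod t).val := by
      have h3 : ((c - ((u : ZMod t).val : ℤ) : ℤ) : ZMod t) = 0 := by
        rw [Int.cast_sub, Int.cast_natCast, ZMod.natCast_zmod_val, huc, sub_self]
      obtain ⟨m, hm⟩ := (ZMod.intCast_zmod_eq_zero_iff_dvd _ _).1 h3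
      have h4 : c = (u : ZMod t).val + t * m := by omega
      rw [h4, zpow_add₀ (hS z hz).1, _root_.zpow_mul, zpow_natCast, zpow_natCast, hzt, _root_.one_zpow, mul_one]
    rw [← h2]
    exact h1
  · exact hone
  · intro a b _ _ ha hb
    exact hmul a b ha hb
  · intro a _ ha
    have h1 := hpw a ha (orderOf a - 1)
    have h2 : a⁻¹ = a ^ (orderOf a - 1) := by
      rw [inv_eq_iff_mul_eq_one, ← pow_succ', Nat.sub_add_cancel (orderOf_pos a), pow_orderOf_eq_one]
    rw [h2]
    exact h1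

theorem card_Hs_singleton {C : ℤ} {t : ℕ} [Fact t.Prime] (h : ¬ (t : ℤ) ∣ C) :
    Nat.card (Hs {C} t) = orderOf (C : ZMod t) := by
  have h0 : (C : ZMod t) ≠ 0 := fun h' => h ((ZMod.intCast_zmod_eq_zero_iff_dvd _ _).1 h')
  have h1 : Hs {C} t = Subgroup.zpowers (Units.mk0 _ h0) := by
    unfold Hs
    rw [Subgroup.zpowers_eq_closure]
    congr 1
    ext u
    constructor
    · rintro ⟨c, hc, hu⟩
      rw [Set.mem_singleton_iff] at hc
      rw [hc] at hu
      exact Units.ext hu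
    · rintro hu
      rw [Set.mem_singleton_iff] at hu
      exact ⟨C, rfl, by rw [hu]; rfl⟩
  rw [h1, Nat.card_zpowers, ← orderOf_units]
  rfl

variable {F : Type} [Field F]

section
variable (ι : ℕ → Type) [∀ n, Fintype (ι n)] [∀ n, DecidableEq (ι n)] (G : ∀ n, Subgroup (GL (ι n) F))

/-- a family indexed by the natural numbers -/
abbrev natFm : Fm F where
  I := ℕ
  ι := ι
  G := G

/-- the system of a family indexed by natural numbers -/
noncomputable def natSys [Finite F] (r : ℕ) [Fact r.Prime] [CharP F r] (w : ℕ)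
    (hι : ∀ n, Fintype.card (ι n) = w * n) (C : ℤ) (hC : ∀ i : ℕ, i ≠ 0 → C ^ i ≠ 1)
    (hCs : ∀ s : ℕ, s.Prime → s ≠ r → ¬ (s : ℤ) ∣ C) (hDec : ∀ a b : ℕ, (natFm ι G).Dec a b (a + b)) (Λ : Set ℤ)
    (hΛ : ∀ (n : ℕ) (x : G n), ∀ z ∈ sp (algebraMap F (AlgebraicClosure F)) ((x : GL (ι n) F) : Matrix (ι n) (ι n) F),
      ∀ c ∈ Λ, z ^ c ∈ sp (algebraMap F (AlgebraicClosure F)) ((x : GL (ι n) F) : Matrix (ι n) (ι n) F))
    (hcard : ∀ s : ℕ, s.Prime → s ≠ 2 → s ≠ r → Nat.card (Hs Λ s) = w * orderOf (C : ZMod s))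
    (ord : ∀ n : ℕ, ∃ k : ℕ, Nat.card (G n) = r ^ k * (∏ i ∈ Finset.range n, (C ^ (i + 1) - 1)).natAbs) :
    Sys.{0, 0} r :=
  have hpos : ∀ s : ℕ, s.Prime → s ≠ 2 → s ≠ r → 0 < orderOf (C : ZMod s) := fun s hs _ hr => by
    have : Fact s.Prime := ⟨hs⟩
    exact H749.orderOf_pos_of (hCs s hs hr)
  Fm.toSys (natFm ι G) r (Hs Λ)
    (fun (n : ℕ) (x : G n) t ht h hh z hz hzt => mem_of_mem_Hs (S := sp (algebraMap F (AlgebraicClosure F))
        ((x : GL (ι n) F) : Matrix (ι n) (ι n) F)) (fun z hz => ⟨(sp_inv (Units.mul_inv (x : GL (ι n) F)) hz).1,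
          hΛ n x z hz⟩) ht hh z hz hzt)
    (fun s => orderOf (C : ZMod s)) (fun (e n : ℕ) => n / e) (fun s => H749.vp s (C ^ orderOf (C : ZMod s) - 1))
    (fun s hs h2 hr => by
      have : Fact s.Prime := ⟨hs⟩
      refine H749.vp_pos (sub_ne_zero.2 (hC _ (hpos s hs h2 hr).ne')) ?_
      rw [H749.dvd_pow_sub_one_iff])
    (fun s hs h2 hr (n : ℕ) => by
      have : Fact s.Prime := ⟨hs⟩
      obtain ⟨k, hk⟩ := ord n
      have hne : (∏ i ∈ Finset.range n, (C ^ (i + 1) - 1)) ≠ 0 :=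
        Finset.prod_ne_zero_iff.2 fun i _ => sub_ne_zero.2 (hC _ (Nat.succ_ne_zero i))
      have h1 := H749.vp_prod (p := s) h2 (x := C) rfl hC n
      have h3 : (r ^ k).factorization s = 0 := by
        apply Nat.factorization_eq_zero_of_not_dvd
        intro hd
        exact hr ((Nat.prime_dvd_prime_iff_eq hs Fact.out).1 (hs.dvd_of_dvd_pow hd))
      rw [show Nat.card ((natFm ι G).G n) = Nat.card (G n) from rfl, hk,
        Nat.factorization_mul (pow_ne_zero _ (Fact.out : r.Prime).ne_zero) (Int.natAbs_ne_zero.2 hne),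
        Finsupp.add_apply, h3, zero_add]
      exact h1)
    (fun s hs h2 hr => Nat.div_self (hpos s hs h2 hr))
    (fun s hs h2 hr (n : ℕ) hn => by
      have h0 := hpos s hs h2 hr
      have h1 : orderOf (C : ZMod s) ≤ n := by
        by_contra hlt
        exact hn (Nat.div_eq_of_lt (not_le.1 hlt))
      refine ⟨n - orderOf (C : ZMod s), ?_, ?_⟩
      · have := hDec (orderOf (C : ZMod s)) (n - orderOf (C : ZMod s))
        rwa [Nat.add_sub_cancel' h1] at this
      · rw [← Nat.div_eq_sub_div h0 h1])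
    (fun s hs h2 hr (n : ℕ) k hk => by
      have h0 := hpos s hs h2 hr
      have h1 : orderOf (C : ZMod s) * k ≤ n := (Nat.mul_le_mul_left _ hk).trans (Nat.mul_div_le _ _)
      refine ⟨orderOf (C : ZMod s) * k, n - orderOf (C : ZMod s) * k, ?_, ?_, Nat.mul_div_cancel_left k h0, ?_⟩
      · have := hDec (orderOf (C : ZMod s) * k) (n - orderOf (C : ZMod s) * k)
        rwa [Nat.add_sub_cancel' h1] at this
      · clear h1 hk
        induction k with
        | zero => exact Pow.zero _ (by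
            show Fintype.card (ι _) = 0
            rw [hι, Nat.mul_zero, Nat.mul_zero])
        | succ k ih =>
          refine Pow.succ k _ (orderOf (C : ZMod s) * k) ?_ ih
          have := hDec (orderOf (C : ZMod s)) (orderOf (C : ZMod s) * k)
          rwa [add_comm, ← Nat.mul_succ] at this
      · rw [Nat.sub_mul_div]
        omega)
    (fun s hs h2 hr => by
      rw [hcard s hs h2 hr]
      exact (hι _).symm)
    (fun s t hs h2 hr ht ht2 htr hlt (n : ℕ) hn => by
      have h0 := hpos s hs h2 hr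
      have h1 : n < orderOf (C : ZMod s) := by
        by_contra hle
        exact (Nat.div_pos (not_lt.1 hle) h0).ne' hn
      have h3 : w * orderOf (C : ZMod s) < w * orderOf (C : ZMod t) := by
        rw [← hι, ← hι]
        exact hlt
      have h4 := Nat.lt_of_mul_lt_mul_left h3
      exact Nat.div_eq_of_lt (by omega))

/-- the determinant -/
def detHom (n : ℕ) : G n →* Fˣ := Matrix.GeneralLinearGroup.det.comp (G n).subtype

theorem detHom_β {a b c : ℕ} (h : (natFm ι G).Dec a b c) (x : G a) (y : G b) :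
    detHom ι G c ((natFm ι G).β h (x, y)) = detHom ι G a x * detHom ι G b y := by
  apply Units.ext
  exact BC.det_gl (a := ι a) (b := ι b) (m := ι c) (F := F) (Fm.bc (natFm ι G) h) _ _

theorem detHom_dim (n : ℕ) (x : G n) (h : Fintype.card (ι n) = 0) : detHom ι G n x = 1 := by
  apply Units.ext
  have : IsEmpty (ι n) := Fintype.card_eq_zero_iff.1 h
  exact Matrix.det_isEmpty

/-- The determinant. -/
noncomputable def detFam [Finite F] (r : ℕ) [Fact r.Prime] [CharP F r] (w : ℕ)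
    (hι : ∀ n, Fintype.card (ι n) = w * n) (C : ℤ) (hC : ∀ i : ℕ, i ≠ 0 → C ^ i ≠ 1)
    (hCs : ∀ s : ℕ, s.Prime → s ≠ r → ¬ (s : ℤ) ∣ C) (hDec : ∀ a b : ℕ, (natFm ι G).Dec a b (a + b)) (Λ : Set ℤ)
    (hΛ : ∀ (n : ℕ) (x : G n), ∀ z ∈ sp (algebraMap F (AlgebraicClosure F)) ((x : GL (ι n) F) : Matrix (ι n) (ι n) F),
      ∀ c ∈ Λ, z ^ c ∈ sp (algebraMap F (AlgebraicClosure F)) ((x : GL (ι n) F) : Matrix (ι n) (ι n) F))
    (hcard : ∀ s : ℕ, s.Prime → s ≠ 2 → s ≠ r → Nat.card (Hs Λ s) = w * orderOf (C : ZMod s))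
    (ord : ∀ n : ℕ, ∃ k : ℕ, Nat.card (G n) = r ^ k * (∏ i ∈ Finset.range n, (C ^ (i + 1) - 1)).natAbs) :
    Sys.Fam (natSys ι G r w hι C hC hCs hDec Λ hΛ hcard ord) where
  D := Fˣ
  det := detHom ι G
  det_β := detHom_β ι G
  det_dim := detHom_dim ι G

/-- **The rows of the kernel of the determinant.** -/
theorem natSys_crossRow_ker [Finite F] (r : ℕ) [Fact r.Prime] [CharP F r]
    (hι : ∀ n, Fintype.card (ι n) = 1 * n) (C : ℤ) (hC : ∀ i : ℕ, i ≠ 0 → C ^ i ≠ 1)
    (hCs : ∀ s : ℕ, s.Prime → s ≠ r → ¬ (s : ℤ) ∣ C) (hDec : ∀ a b : ℕ, (natFm ι G).Dec a b (a + b)) (Λ : Set ℤ)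
    (hΛ : ∀ (n : ℕ) (x : G n), ∀ z ∈ sp (algebraMap F (AlgebraicClosure F)) ((x : GL (ι n) F) : Matrix (ι n) (ι n) F),
      ∀ c ∈ Λ, z ^ c ∈ sp (algebraMap F (AlgebraicClosure F)) ((x : GL (ι n) F) : Matrix (ι n) (ι n) F))
    (hcard : ∀ s : ℕ, s.Prime → s ≠ 2 → s ≠ r → Nat.card (Hs Λ s) = 1 * orderOf (C : ZMod s))
    (ord : ∀ n : ℕ, ∃ k : ℕ, Nat.card (G n) = r ^ k * (∏ i ∈ Finset.range n, (C ^ (i + 1) - 1)).natAbs)
    (U : Subgroup Fˣ) (hU : ∀ n (x : G n), Matrix.GeneralLinearGroup.det (x : GL (ι n) F) ∈ U)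
    (hsurj : ∀ u ∈ U, ∃ x : G 1, Matrix.GeneralLinearGroup.det (x : GL (ι 1) F) = u)
    (hcU : ∀ s : ℕ, s ∣ Nat.card U → (s : ℤ) ∣ C - 1) (n : ℕ) :
    CrossRow r (detHom ι G n).ker := by
  have hfin : Finite U := inferInstance
  refine @Sys.crossRow_ker _ (natSys ι G r 1 hι C hC hCs hDec Λ hΛ hcard ord)
    (detFam ι G r 1 hι C hC hCs hDec Λ hΛ hcard ord) (1 : ℕ) ?_ U hfin hU hsurj ?_ ?_ ?_ ?_ n
  · intro x y hxy
    have hinj : ∀ x y : G 1, Matrix.GeneralLinearGroup.det (x : GL (ι 1) F) =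
        Matrix.GeneralLinearGroup.det (y : GL (ι 1) F) → x = y := by
      intro x y hxy
      have h2 : ((x : GL (ι 1) F) : Matrix (ι 1) (ι 1) F).det = ((y : GL (ι 1) F) : Matrix (ι 1) (ι 1) F).det :=
        congrArg (fun u : Fˣ => (u : F)) hxy
      have hc1 : Fintype.card (ι 1) = 1 := by rw [hι]
      obtain ⟨i, hi⟩ := Fintype.card_eq_one_iff.1 hc1
      have hun : Unique (ι 1) := ⟨⟨i⟩, hi⟩
      rw [Matrix.det_unique, Matrix.det_unique] at h2
      apply Subtype.ext
      apply Units.ext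
      ext a b
      have hdef : (default : ι 1) = i := hi _
      rw [hi a, hi b, ← hdef]
      exact h2
    exact hinj x y hxy
  · intro s hs hd
    have hp : Fact s.Prime := ⟨hs.1⟩
    have h3 := hcU s hd
    have h4 : (C : ZMod s) = 1 := by
      have := (ZMod.intCast_zmod_eq_zero_iff_dvd _ _).2 h3
      rw [Int.cast_sub, Int.cast_one, sub_eq_zero] at this
      exact this
    show orderOf (C : ZMod s) = 1
    rw [h4, orderOf_one]
  · have h5 : ∀ c : ℕ, c / 1 = Fintype.card (ι c) := fun c => by rw [hι, Nat.div_one, one_mul]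
    exact h5
  · show Fintype.card (ι 1) = 1
    rw [hι]
  · intro s t _ _ h
    have h1 : Fintype.card (ι (orderOf (C : ZMod s))) = Fintype.card (ι (orderOf (C : ZMod t))) := h
    rw [hι, hι] at h1
    exact Nat.eq_of_mul_eq_mul_left one_pos h1

end

end Cfsg.Agent.H201.MatSys
end

-- part: H201/RowSU
section
/-!
# The rows of the unitary groups (helper201)
-/

set_option autoImplicit false

namespace Cfsg.Agent.H201.RowSU

open Matrix Cfsg.Agent.H201.MatSys Cfsg.Agent.H201.MatSpec Cfsg.Agent.H630.NH Cfsg.Agent.LieClassical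

section
variable {F : Type} [Field F] {m n : Type} [Fintype m] [DecidableEq m] [Fintype n] [DecidableEq n]

/-- base change by a permutation -/
def bcEquiv (e : n ≃ m) : BC m n F where
  P := (1 : Matrix m m F).submatrix id e
  P' := (1 : Matrix m m F).submatrix e id
  h1 := by
    rw [Matrix.submatrix_mul_equiv, Matrix.mul_one, Matrix.submatrix_id_id]
  h2 := by
    have h := Matrix.submatrix_mul_equiv (1 : Matrix m m F) (1 : Matrix m m F) e (Equiv.refl m) e
    simp only [Equiv.coe_refl] at h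
    rw [h, Matrix.mul_one, Matrix.submatrix_one_equiv]

theorem bcEquiv_hom (e : n ≃ m) (A : Matrix n n F) :
    (bcEquiv (F := F) e).P * A * (bcEquiv (F := F) e).P' = A.submatrix e.symm e.symm := by
  ext i j
  simp only [bcEquiv, Matrix.mul_apply, Matrix.submatrix_apply, id, Matrix.one_apply]
  simp only [ite_mul, one_mul, zero_mul, mul_ite, mul_one, mul_zero]
  rw [Finset.sum_eq_single (e.symm j), Finset.sum_eq_single (e.symm i)]
  · simp
  · intro b _ hb
    rw [if_neg]
    intro h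
    exact hb (by rw [h, e.symm_apply_apply])
  · intro h
    exact absurd (Finset.mem_univ _) h
  · intro b _ hb
    rw [if_neg]
    intro h
    exact hb (by rw [← h, e.symm_apply_apply])
  · intro h
    exact absurd (Finset.mem_univ _) h
end

variable {F : Type} [Field F] [Fintype F] {q : ℕ}

theorem mem_iff (hF : Fintype.card F = q ^ 2) {n : ℕ} (g : GL (Fin n) F) :
    g ∈ Cfsg.GU n F q ↔ (g : Matrix (Fin n) (Fin n) F)ᵀ * (g : Matrix (Fin n) (Fin n) F).map (GUOrder.frob hF) = 1 := by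
  rw [GUOrder.mem_GU_iff, GUOrder.mul_map_eq_one_iff hF]

theorem dec (hF : Fintype.card F = q ^ 2) (a b : ℕ) :
    (natFm (fun n => Fin n) (fun n => Cfsg.GU n F q)).Dec a b (a + b) := by
  refine ⟨bcEquiv finSumFinEquiv, fun x y => ?_⟩
  rw [mem_iff hF, mem_iff hF, mem_iff hF, BC.coe_gl, bcEquiv_hom, Matrix.transpose_submatrix]
  have h1 : (((fromBlocks (x : Matrix (Fin a) (Fin a) F) 0 0 (y : Matrix (Fin b) (Fin b) F)).submatrix
      finSumFinEquiv.symm finSumFinEquiv.symm).map (GUOrder.frob hF)) =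
      (fromBlocks ((x : Matrix (Fin a) (Fin a) F).map (GUOrder.frob hF)) 0 0
        ((y : Matrix (Fin b) (Fin b) F).map (GUOrder.frob hF))).submatrix finSumFinEquiv.symm finSumFinEquiv.symm := by
    rw [← Matrix.submatrix_map, fromBlocks_map, Matrix.map_zero _ (map_zero _), Matrix.map_zero _ (map_zero _)]
  rw [h1, Matrix.submatrix_mul_equiv, fromBlocks_transpose, Matrix.transpose_zero, Matrix.transpose_zero,
    fromBlocks_multiply]
  simp only [Matrix.mul_zero, Matrix.zero_mul, add_zero, zero_add]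
  constructor
  · rintro ⟨h2, h3⟩
    rw [h2, h3, fromBlocks_one, Matrix.submatrix_one_equiv]
  · intro h2
    have h3 := congrArg (fun A => Matrix.submatrix A (finSumFinEquiv (m := a) (n := b)) finSumFinEquiv) h2
    simp only [Matrix.submatrix_submatrix, Equiv.symm_comp_self, Matrix.submatrix_id_id,
      Matrix.submatrix_one_equiv] at h3
    rw [← fromBlocks_one, fromBlocks_inj] at h3
    exact ⟨h3.1, h3.2.2.2⟩

theorem exists_pow (hF : Fintype.card F = q ^ 2) (r : ℕ) [Fact r.Prime] [CharP F r] : ∃ k : ℕ, q = r ^ k := by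
  obtain ⟨n, hpp, hn⟩ := FiniteField.card F r
  have hdvd : q ∣ r ^ (n : ℕ) := by
    rw [← hn, hF]; exact dvd_pow_self q two_ne_zero
  obtain ⟨k, -, hk⟩ := (Nat.dvd_prime_pow hpp).1 hdvd
  exact ⟨k, hk⟩

theorem closure_exp (hF : Fintype.card F = q ^ 2) (r : ℕ) [Fact r.Prime] [CharP F r] (n : ℕ) (x : Cfsg.GU n F q) :
    ∀ z ∈ sp (algebraMap F (AlgebraicClosure F)) ((x : GL (Fin n) F) : Matrix (Fin n) (Fin n) F),
      ∀ c ∈ ({-(q : ℤ)} : Set ℤ), z ^ c ∈
        sp (algebraMap F (AlgebraicClosure F)) ((x : GL (Fin n) F) : Matrix (Fin n) (Fin n) F) := by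
  intro z hz c hc
  rw [Set.mem_singleton_iff] at hc
  subst hc
  obtain ⟨k, hk⟩ := exists_pow hF r
  have hchar : CharP (AlgebraicClosure F) r := charP_of_injective_ringHom (algebraMap F (AlgebraicClosure F)).injective r
  have h1 := sp_map (p := r) (k := k) (GUOrder.frob hF) (fun x => by rw [GUOrder.frob_apply, hk]) _ hz
  rw [← sp_transpose, ← hk] at h1
  have h2 := (mem_iff hF (x : GL (Fin n) F)).1 x.2
  have h3 := congrArg Matrix.transpose h2
  rw [Matrix.transpose_mul, Matrix.transpose_transpose, Matrix.transpose_one] at h3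
  have h4 := (sp_inv h3 h1).2
  rwa [_root_.zpow_neg, zpow_natCast]

theorem natAbs_prod (q : ℕ) (hq : 2 ≤ q) (n : ℕ) :
    ∏ i ∈ Finset.range n, (if Even i then q ^ (i + 1) + 1 else q ^ (i + 1) - 1) =
      (∏ i ∈ Finset.range n, ((-(q : ℤ)) ^ (i + 1) - 1)).natAbs := by
  rw [← Int.natAbsHom_apply, map_prod]
  refine Finset.prod_congr rfl fun i _ => ?_
  rw [Int.natAbsHom_apply]
  have h1 : 1 ≤ q ^ (i + 1) := Nat.one_le_pow _ _ (by omega)
  split_ifs with h
  · have ho : Odd (i + 1) := h.add_one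
    rw [ho.neg_pow, ← neg_add', Int.natAbs_neg]
    have : ((q : ℤ) ^ (i + 1) + 1) = ((q ^ (i + 1) + 1 : ℕ) : ℤ) := by push_cast; ring
    rw [this, Int.natAbs_natCast]
  · have he : Even (i + 1) := by
      rw [Nat.even_add_one]
      exact h
    rw [he.neg_pow]
    have : ((q : ℤ) ^ (i + 1) - 1) = ((q ^ (i + 1) - 1 : ℕ) : ℤ) := by
      rw [Nat.cast_sub h1]
      push_cast
      ring
    rw [this, Int.natAbs_natCast]

theorem crossRow_ker (hF : Fintype.card F = q ^ 2) (r : ℕ) [Fact r.Prime] [CharP F r] (n : ℕ) :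
    CrossRow r (GUOrder.detGU n F q).ker := by
  have hq := GUOrder.two_le hF
  obtain ⟨k, hk⟩ := exists_pow hF r
  have hr : r.Prime := Fact.out
  have hs : ∀ s : ℕ, s.Prime → s ≠ r → ¬ (s : ℤ) ∣ -(q : ℤ) := by
    intro s hs hsr hd
    rw [Int.dvd_neg, Int.natCast_dvd_natCast, hk] at hd
    exact hsr ((Nat.prime_dvd_prime_iff_eq hs hr).1 (hs.dvd_of_dvd_pow hd))
  refine natSys_crossRow_ker (F := F) (fun n => Fin n) (fun n => Cfsg.GU n F q) r (fun n => by simp)
    (-(q : ℤ)) ?_ hs (dec hF) {-(q : ℤ)} (closure_exp hF r) ?_ ?_ (powMonoidHom (q + 1) : Fˣ →* Fˣ).ker ?_ ?_ ?_ n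
  · intro i hi h
    have h1 := congrArg Int.natAbs h
    rw [Int.natAbs_pow, Int.natAbs_neg, Int.natAbs_natCast, Int.natAbs_one] at h1
    have h2 := Nat.one_lt_pow hi (show 1 < q by omega)
    omega
  · intro s hs1 _ hsr
    have : Fact s.Prime := ⟨hs1⟩
    rw [card_Hs_singleton (hs s hs1 hsr), one_mul]
  · intro n
    refine ⟨k * (n * (n - 1) / 2), ?_⟩
    rw [S0277.result hF n, natAbs_prod q hq n, hk, ← pow_mul]
  · intro n x
    rcases Nat.eq_zero_or_pos n with rfl | hn
    · have h0 : Matrix.GeneralLinearGroup.det (x : GL (Fin 0) F) = 1 := by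
        apply Units.ext
        exact Matrix.det_isEmpty
      rw [h0]
      exact one_mem _
    · rw [← GUOrder.range_detGU hF hn]
      exact ⟨x, rfl⟩
  · intro u hu
    rw [← GUOrder.range_detGU hF le_rfl] at hu
    exact hu
  · intro s hd
    rw [GUOrder.card_ker_pow hF] at hd
    have h1 : (s : ℤ) ∣ ((q + 1 : ℕ) : ℤ) := Int.natCast_dvd_natCast.2 hd
    have h2 : -(q : ℤ) - 1 = -((q + 1 : ℕ) : ℤ) := by push_cast; ring
    rw [h2, Int.dvd_neg]
    exact h1

/-- **The row of `SU_n(q)` in cross characteristic** -/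
theorem crossRow_SU (r : ℕ) [Fact r.Prime] (F : Type) [Field F] [Fintype F] [CharP F r] (n q : ℕ)
    (hF : Fintype.card F = q ^ 2) (_hn : 3 ≤ n) : CrossRow r ↥(SU n F q) := by
  refine (crossRow_ker hF r n).congr { GUOrder.kerEquiv (F := F) (q := q) n with
    map_mul' := fun x y => Subtype.ext (Subtype.ext rfl) }

end Cfsg.Agent.H201.RowSU
end

private theorem dce_e081e7209a9e : _root_.True := by
  try have : _root_.True := by simp only [_root_.Cfsg.Agent.H201.RowSU.bcEquiv.eq_1]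
  try have : _root_.True := by simp only [_root_.Cfsg.Agent.H201.MatSpec.sp.congr_simp]
  try have : _root_.True := by simp only [_root_.Cfsg.Agent.H201.MatSys.BC.mk.congr_simp]
  exact _root_.True.intro
end

-- part: H17/CR/Orth
section
prune_inst 0x702c44002200000000800080001822ea0000001100000002000804010020004000c04120800105400200400034082813000020420000000a200000000504019040100400400000060001000000000000000000300000000000000000000000200000002
set_option linter.all false
open scoped Cfsg.Agent.FastGrp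

-- part: H17/CR/Blocks
section
/-!
# Block decompositions of isometry groups and the condition `Cond` (helper17)

* `Spc F` : finite spaces with a function `f : V → V → F`; `X.G = Iso X.f`; `X.prod Y` the orthogonal sum;
* `exists_of_comm` : an isometry of the sum commuting with `(a, b)`, `a`, `b` without intertwiners, is block diagonal;
* `PA`, `PT` : the two conclusions used, and their behaviour for sums.
-/

set_option autoImplicit false
set_option linter.unusedSectionVars false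

open Cfsg
open Cfsg.Agent.H749 (Iso)
open Cfsg.Agent.H630.NH

namespace Cfsg.Agent.H17.CR

universe u v

/-- a finite space with a function of two variables -/
structure Spc (F : Type) [Field F] where
  V : Type
  [ag : AddCommGroup V]
  [md : Module F V]
  [fin : Finite V]
  f : V → V → F

attribute [instance] Spc.ag Spc.md Spc.fin

variable {F : Type} [Field F]

/-- its group -/
abbrev Spc.G (X : Spc F) : Subgroup (X.V ≃ₗ[F] X.V) := Iso X.f

instance finite_aut {V : Type*} [AddCommGroup V] [Module F V] [Finite V] : Finite (V ≃ₗ[F] V) :=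
  Finite.of_injective (fun g : V ≃ₗ[F] V => (g : V → V)) DFunLike.coe_injective

/-- orthogonal sum -/
abbrev Spc.prod (X Y : Spc F) : Spc F where
  V := X.V × Y.V
  f := fun x y => X.f x.1 y.1 + Y.f x.2 y.2

variable {X Y : Spc F}

/-- the block diagonal embedding -/
def emb (X Y : Spc F) : X.G × Y.G →* (X.prod Y).G where
  toFun x := ⟨LinearEquiv.prodCongr x.1.1 x.2.1, fun u v => by
    show X.f (x.1.1 u.1) (x.1.1 v.1) + Y.f (x.2.1 u.2) (x.2.1 v.2) = X.f u.1 v.1 + Y.f u.2 v.2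
    rw [x.1.2, x.2.2]⟩
  map_one' := rfl
  map_mul' _ _ := rfl

theorem emb_apply (x : X.G × Y.G) (v : X.V × Y.V) : (emb X Y x).1 v = (x.1.1 v.1, x.2.1 v.2) := rfl

theorem emb_injective : Function.Injective (emb X Y) := by
  rintro ⟨a, b⟩ ⟨a', b'⟩ h
  have h1 : ∀ v : X.V × Y.V, (a.1 v.1, b.1 v.2) = (a'.1 v.1, b'.1 v.2) := fun v => by
    rw [← emb_apply (a, b), ← emb_apply (a', b'), h]
  refine Prod.ext (Subtype.ext (LinearEquiv.ext fun u => ?_)) (Subtype.ext (LinearEquiv.ext fun w => ?_))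
  · exact congrArg Prod.fst (h1 (u, 0))
  · exact congrArg Prod.snd (h1 (0, w))

section NI

variable {U W : Type*} [AddCommGroup U] [Module F U] [AddCommGroup W] [Module F W]

/-- no intertwiners -/
def NI (a : U ≃ₗ[F] U) (b : W ≃ₗ[F] W) : Prop := ∀ γ : U →ₗ[F] W, (∀ u, γ (a u) = b (γ u)) → γ = 0

theorem NI.one_right [Finite U] {a : U ≃ₗ[F] U} (h : ∀ u, a u = u → u = 0) : NI a (1 : W ≃ₗ[F] W) := by
  intro γ hγ
  have hinj : Function.Injective fun u : U => a u - u := by
    intro x y hxy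
    have h1 : a (x - y) = x - y := by
      rw [map_sub]
      have hxy' : a x - x = a y - y := hxy
      have : a x = a y - y + x := by rw [← hxy']; abel
      rw [this]; abel
    exact sub_eq_zero.1 (h _ h1)
  have hsurj := Finite.surjective_of_injective hinj
  refine LinearMap.ext fun u => ?_
  obtain ⟨w, hw⟩ := hsurj u
  rw [← hw]
  show γ (a w - w) = 0
  rw [map_sub, hγ]
  exact sub_self _

theorem NI.one_left {b : W ≃ₗ[F] W} (h : ∀ w, b w = w → w = 0) : NI (1 : U ≃ₗ[F] U) b := by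
  intro γ hγ
  refine LinearMap.ext fun u => ?_
  exact h _ (hγ u).symm

variable {W' : Type*} [AddCommGroup W'] [Module F W']

theorem NI.prod_right {a : U ≃ₗ[F] U} {b : W ≃ₗ[F] W} {b' : W' ≃ₗ[F] W'} (h : NI a b) (h' : NI a b') :
    NI a (LinearEquiv.prodCongr b b') := by
  intro γ hγ
  have h1 := h (LinearMap.fst F W W' ∘ₗ γ) fun u => congrArg Prod.fst (hγ u)
  have h2 := h' (LinearMap.snd F W W' ∘ₗ γ) fun u => congrArg Prod.snd (hγ u)
  refine LinearMap.ext fun u => Prod.ext ?_ ?_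
  · exact LinearMap.congr_fun h1 u
  · exact LinearMap.congr_fun h2 u

theorem NI.prod_left {a : U ≃ₗ[F] U} {b : W ≃ₗ[F] W} {b' : W' ≃ₗ[F] W'} (h : NI b a) (h' : NI b' a) :
    NI (LinearEquiv.prodCongr b b') a := by
  intro γ hγ
  have h1 := h (γ ∘ₗ LinearMap.inl F W W') fun u => by
    have := hγ (u, 0)
    have e : (LinearEquiv.prodCongr b b') (u, (0 : W')) = (b u, 0) := by
      show (b u, b' 0) = (b u, 0)
      rw [map_zero]
    rw [e] at this
    exact this
  have h2 := h' (γ ∘ₗ LinearMap.inr F W W') fun u => by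
    have := hγ (0, u)
    have e : (LinearEquiv.prodCongr b b') ((0 : W), u) = (0, b' u) := by
      show (b 0, b' u) = (0, b' u)
      rw [map_zero]
    rw [e] at this
    exact this
  refine LinearMap.ext fun u => ?_
  have e : u = (u.1, 0) + (0, u.2) := by simp
  rw [e, map_add]
  have e1 := LinearMap.congr_fun h1 u.1
  have e2 := LinearMap.congr_fun h2 u.2
  simp only [LinearMap.comp_apply, LinearMap.inl_apply, LinearMap.inr_apply, LinearMap.zero_apply] at e1 e2
  rw [e1, e2]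
  simp

end NI

/-- an isometry commuting with `(a, b)` is block diagonal if there are no intertwiners -/
theorem exists_of_comm {a : X.G} {b : Y.G} (h1 : NI a.1 b.1) (h2 : NI b.1 a.1) {z : (X.prod Y).G}
    (hz : z * emb X Y (a, b) = emb X Y (a, b) * z) :
    ∃ x : X.G, ∃ y : Y.G, z = emb X Y (x, y) ∧ x * a = a * x ∧ y * b = b * y := by
  -- blocks of an isometry commuting with `(a, b)`
  have key : ∀ z : (X.prod Y).G, z * emb X Y (a, b) = emb X Y (a, b) * z →
      (∀ u : X.V, (z.1 (u, 0)).2 = 0) ∧ (∀ w : Y.V, (z.1 (0, w)).1 = 0) := by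
    intro z hz
    have hzv : ∀ v : X.V × Y.V, z.1 (a.1 v.1, b.1 v.2) = (a.1 (z.1 v).1, b.1 (z.1 v).2) := by
      intro v
      have h3 := congrArg (fun g : (X.prod Y).G => g.1 v) hz
      exact h3
    constructor
    · have h3 := h1 (LinearMap.snd F X.V Y.V ∘ₗ z.1.toLinearMap ∘ₗ LinearMap.inl F X.V Y.V) fun u => by
        have h4 := hzv (u, 0)
        have e : (a.1 u, b.1 (0 : Y.V)) = (a.1 u, (0 : Y.V)) := by rw [map_zero]
        rw [e] at h4
        exact congrArg Prod.snd h4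
      intro u
      exact LinearMap.congr_fun h3 u
    · have h3 := h2 (LinearMap.fst F X.V Y.V ∘ₗ z.1.toLinearMap ∘ₗ LinearMap.inr F X.V Y.V) fun u => by
        have h4 := hzv (0, u)
        have e : (a.1 (0 : X.V), b.1 u) = ((0 : X.V), b.1 u) := by rw [map_zero]
        rw [e] at h4
        exact congrArg Prod.fst h4
      intro u
      exact LinearMap.congr_fun h3 u
  have hz' : z⁻¹ * emb X Y (a, b) = emb X Y (a, b) * z⁻¹ := by
    have h3 : emb X Y (a, b) = z * emb X Y (a, b) * z⁻¹ := by rw [hz]; group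
    calc z⁻¹ * emb X Y (a, b) = z⁻¹ * (z * emb X Y (a, b) * z⁻¹) := by rw [← h3]
      _ = emb X Y (a, b) * z⁻¹ := by group
  obtain ⟨k1, k2⟩ := key z hz
  obtain ⟨k3, k4⟩ := key z⁻¹ hz'
  have hzz : ∀ v, (z⁻¹).1 (z.1 v) = v := fun v => by
    have := congrArg (fun g : (X.prod Y).G => g.1 v) (inv_mul_cancel z)
    exact this
  have hzz' : ∀ v, z.1 ((z⁻¹).1 v) = v := fun v => by
    have := congrArg (fun g : (X.prod Y).G => g.1 v) (mul_inv_cancel z)
    exact this
  have e1 : ∀ u : X.V, z.1 (u, 0) = ((z.1 (u, 0)).1, 0) := fun u => Prod.ext rfl (k1 u)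
  have e2 : ∀ w : Y.V, z.1 (0, w) = (0, (z.1 (0, w)).2) := fun w => Prod.ext (k2 w) rfl
  have e3 : ∀ u : X.V, (z⁻¹).1 (u, 0) = (((z⁻¹).1 (u, 0)).1, 0) := fun u => Prod.ext rfl (k3 u)
  have e4 : ∀ w : Y.V, (z⁻¹).1 (0, w) = (0, ((z⁻¹).1 (0, w)).2) := fun w => Prod.ext (k4 w) rfl
  let x0 : X.V ≃ₗ[F] X.V := LinearEquiv.ofLinearMap
    (LinearMap.fst F X.V Y.V ∘ₗ z.1.toLinearMap ∘ₗ LinearMap.inl F X.V Y.V)
    (LinearMap.fst F X.V Y.V ∘ₗ (z⁻¹).1.toLinearMap ∘ₗ LinearMap.inl F X.V Y.V)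
    (LinearMap.ext fun u => by
      show (z.1 (((z⁻¹).1 (u, 0)).1, 0)).1 = u
      rw [← e3, hzz'])
    (LinearMap.ext fun u => by
      show ((z⁻¹).1 ((z.1 (u, 0)).1, 0)).1 = u
      rw [← e1, hzz])
  let y0 : Y.V ≃ₗ[F] Y.V := LinearEquiv.ofLinearMap
    (LinearMap.snd F X.V Y.V ∘ₗ z.1.toLinearMap ∘ₗ LinearMap.inr F X.V Y.V)
    (LinearMap.snd F X.V Y.V ∘ₗ (z⁻¹).1.toLinearMap ∘ₗ LinearMap.inr F X.V Y.V)
    (LinearMap.ext fun u => by
      show (z.1 (0, ((z⁻¹).1 (0, u)).2)).2 = u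
      rw [← e4, hzz'])
    (LinearMap.ext fun u => by
      show ((z⁻¹).1 (0, (z.1 (0, u)).2)).2 = u
      rw [← e2, hzz])
  have hx0 : ∀ u, x0 u = (z.1 (u, 0)).1 := fun u => rfl
  have hy0 : ∀ u, y0 u = (z.1 (0, u)).2 := fun u => rfl
  have hx : x0 ∈ X.G := by
    intro u v
    have h3 := z.2 (u, 0) (v, 0)
    rw [e1 u, e1 v] at h3
    have h4 : X.f (x0 u) (x0 v) + Y.f 0 0 = X.f u v + Y.f 0 0 := h3
    exact add_right_cancel h4
  have hy : y0 ∈ Y.G := by
    intro u v
    have h3 := z.2 (0, u) (0, v)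
    rw [e2 u, e2 v] at h3
    have h4 : X.f 0 0 + Y.f (y0 u) (y0 v) = X.f 0 0 + Y.f u v := h3
    exact add_left_cancel h4
  have hzem : z = emb X Y (⟨x0, hx⟩, ⟨y0, hy⟩) := by
    refine Subtype.ext (LinearEquiv.ext fun v => ?_)
    rw [emb_apply]
    have e : v = (v.1, 0) + (0, v.2) := by simp
    have h3 : z.1 v = z.1 (v.1, 0) + z.1 (0, v.2) := by
      conv_lhs => rw [e]
      exact map_add _ _ _
    rw [h3, e1, e2]
    show ((z.1 (v.1, 0)).1 + 0, 0 + (z.1 (0, v.2)).2) = (x0 v.1, y0 v.2)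
    rw [add_zero, zero_add, hx0, hy0]
  refine ⟨⟨x0, hx⟩, ⟨y0, hy⟩, hzem, ?_, ?_⟩
  · have h3 := hz
    rw [hzem, ← map_mul, ← map_mul] at h3
    exact congrArg Prod.fst (emb_injective h3)
  · have h3 := hz
    rw [hzem, ← map_mul, ← map_mul] at h3
    exact congrArg Prod.snd (emb_injective h3)

theorem mem_centralizer {G : Type*} [Group G] {a z : G} :
    z ∈ Subgroup.centralizer ({a} : Set G) ↔ z * a = a * z := Subgroup.mem_centralizer_singleton_iff

theorem card_centralizer_dvd {a : X.G} {b : Y.G} (h1 : NI a.1 b.1) (h2 : NI b.1 a.1) :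
    Nat.card (Subgroup.centralizer ({emb X Y (a, b)} : Set (X.prod Y).G)) ∣
      Nat.card (Subgroup.centralizer ({a} : Set X.G)) * Nat.card (Subgroup.centralizer ({b} : Set Y.G)) := by
  have h3 : Subgroup.centralizer ({emb X Y (a, b)} : Set (X.prod Y).G) ≤
      ((Subgroup.centralizer ({a} : Set X.G)).prod (Subgroup.centralizer ({b} : Set Y.G))).map (emb X Y) := by
    intro z hz
    obtain ⟨x, y, hzxy, hx, hy⟩ := exists_of_comm h1 h2 (mem_centralizer.1 hz)
    refine ⟨(x, y), ⟨?_, ?_⟩, hzxy.symm⟩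
    · exact mem_centralizer.2 hx
    · exact mem_centralizer.2 hy
  have h4 := Subgroup.card_dvd_of_le h3
  rw [Nat.card_congr (((Subgroup.centralizer ({a} : Set X.G)).prod (Subgroup.centralizer ({b} : Set Y.G))).equivMapOfInjective
    (emb X Y) emb_injective).toEquiv.symm, Nat.card_congr (Subgroup.prodEquiv _ _).toEquiv, Nat.card_prod] at h4
  exact h4

/-- the exponent of `p` in the order of a group -/
noncomputable def ev (p : ℕ) (G : Type*) [Group G] : ℕ := (Nat.card G).factorization p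

theorem ev_congr (p : ℕ) {G H : Type*} [Group G] [Group H] (e : G ≃* H) : ev p G = ev p H := by
  rw [ev, ev, Nat.card_congr e.toEquiv]

theorem ev_eq_zero {p : ℕ} {G : Type*} [Group G] (h : ¬ p ∣ Nat.card G) : ev p G = 0 :=
  Nat.factorization_eq_zero_of_not_dvd h

theorem ev_pos {p : ℕ} (hp : p.Prime) {G : Type*} [Group G] [Finite G] (h : p ∣ Nat.card G) : 0 < ev p G :=
  hp.factorization_pos_of_dvd Nat.card_pos.ne' h

theorem not_dvd_of_ev {p : ℕ} (hp : p.Prime) {G : Type*} [Group G] [Finite G] (h : ev p G = 0) : ¬ p ∣ Nat.card G :=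
  fun h1 => (ev_pos hp h1).ne' h

theorem ev_centralizer_le (p : ℕ) {a : X.G} {b : Y.G} (h1 : NI a.1 b.1) (h2 : NI b.1 a.1) :
    ev p (Subgroup.centralizer ({emb X Y (a, b)} : Set (X.prod Y).G)) ≤
      ev p (Subgroup.centralizer ({a} : Set X.G)) + ev p (Subgroup.centralizer ({b} : Set Y.G)) := by
  have h3 := card_centralizer_dvd h1 h2
  have h4 := (Nat.factorization_le_iff_dvd Nat.card_pos.ne' (mul_ne_zero Nat.card_pos.ne' Nat.card_pos.ne')).2 h3 p
  rw [Nat.factorization_mul Nat.card_pos.ne' Nat.card_pos.ne', Finsupp.add_apply] at h4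
  exact h4

theorem ev_subgroup_le (p : ℕ) {G : Type*} [Group G] [Finite G] (H : Subgroup G) : ev p H ≤ ev p G :=
  (Nat.factorization_le_iff_dvd Nat.card_pos.ne' Nat.card_pos.ne').2 (Subgroup.card_subgroup_dvd_card H) p

theorem ev_index {p : ℕ} {G : Type*} [Group G] [Finite G] (H : Subgroup G) :
    ev p G = ev p H + H.index.factorization p := by
  rw [ev, ← Subgroup.card_mul_index H, Nat.factorization_mul Nat.card_pos.ne' Subgroup.index_ne_zero_of_finite]
  rfl

theorem not_dvd_index_iff {p : ℕ} (hp : p.Prime) {G : Type*} [Group G] [Finite G] (H : Subgroup G) :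
    ¬ p ∣ H.index ↔ ev p H = ev p G := by
  rw [ev_index (p := p) H]
  constructor
  · intro h
    rw [Nat.factorization_eq_zero_of_not_dvd h, add_zero]
  · intro h h1
    have := hp.factorization_pos_of_dvd Subgroup.index_ne_zero_of_finite h1
    omega

/-- a `q`-element with a small centralizer -/
theorem not_cond_of_ev {G : Type u} [Group G] [Finite G] {π : Set ℕ} {p q : ℕ} (hpp : p.Prime) (hp : p ∈ π)
    (hq : q ∈ π) (hpq : p ≠ q) (y : G) (hy : ∃ k : ℕ, orderOf y = q ^ k)
    (h : ev p (Subgroup.centralizer ({y} : Set G)) < ev p G) : ¬ Cond π G := by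
  refine not_cond_of_elem hp hq hpq y hy ?_
  by_contra h1
  exact h.ne ((not_dvd_index_iff hpp _).1 h1)

/-- a `p`-subgroup centralised by no element of order `q` -/
def PA (p q : ℕ) (G : Type u) [Group G] : Prop :=
  ∃ A : Subgroup G, IsPGroup p A ∧ ∀ z : G, z ^ q = 1 → (∀ a ∈ A, a * z = z * a) → z = 1

theorem PA.congr {p q : ℕ} {G : Type u} {H : Type v} [Group G] [Group H] (h : PA p q G) (e : G ≃* H) : PA p q H := by
  obtain ⟨A, hA, h1⟩ := h
  refine ⟨A.map (e : G →* H), hA.map _, fun z hz hc => ?_⟩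
  have h2 := h1 (e.symm z) (by rw [← map_pow, hz, map_one]) fun a ha => by
    have h3 := hc (e a) ⟨a, ha, rfl⟩
    apply e.injective
    rw [map_mul, map_mul, MulEquiv.apply_symm_apply]
    exact h3
  rw [← e.apply_symm_apply z, h2, map_one]

theorem PA.base {p q : ℕ} (hq : q.Prime) {G : Type u} [Group G] [Finite G] (h : ¬ q ∣ Nat.card G) : PA p q G := by
  refine ⟨⊥, IsPGroup.of_bot, fun z hz _ => ?_⟩
  have h1 : orderOf z ∣ q := orderOf_dvd_of_pow_eq_one hz
  rcases (Nat.dvd_prime hq).1 h1 with h2 | h2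
  · exact orderOf_eq_one_iff.1 h2
  · exact absurd (h2 ▸ orderOf_dvd_natCard z) h

theorem PA.step {p q : ℕ} (hq : q.Prime) (a : X.G) (ha : ∃ k : ℕ, orderOf a = p ^ k)
    (hfix : ∀ u, a.1 u = u → u = 0) (hd : ¬ q ∣ Nat.card X.G) (h : PA p q Y.G) : PA p q (X.prod Y).G := by
  obtain ⟨A, hA, h1⟩ := h
  obtain ⟨k, hk⟩ := ha
  refine ⟨((Subgroup.zpowers a).prod A).map (emb X Y), ?_, fun z hz hc => ?_⟩
  · apply IsPGroup.map
    rintro ⟨⟨x, y⟩, hx, hy⟩
    obtain ⟨l, hl⟩ := hA ⟨y, hy⟩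
    obtain ⟨i, hi⟩ := hx
    refine ⟨k + l, Subtype.ext ?_⟩
    show (x, y) ^ (p ^ (k + l)) = 1
    rw [Prod.pow_mk]
    refine Prod.ext ?_ ?_
    · show x ^ p ^ (k + l) = 1
      have hi' : x = a ^ i := hi.symm
      rw [hi', pow_add, pow_mul, ← zpow_natCast (a ^ i), ← zpow_mul, mul_comm, zpow_mul, zpow_natCast, ← hk, pow_orderOf_eq_one, one_zpow,
        one_pow]
    · show y ^ p ^ (k + l) = 1
      have hl' : y ^ p ^ l = 1 := congrArg Subtype.val hl
      rw [pow_add, mul_comm, pow_mul, hl', one_pow]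
  · have h2 := hc (emb X Y (a, 1)) ⟨(a, 1), ⟨Subgroup.mem_zpowers a, one_mem A⟩, rfl⟩
    have n1 : NI a.1 (1 : Y.G).1 := NI.one_right hfix
    have n2 : NI (1 : Y.G).1 a.1 := NI.one_left hfix
    obtain ⟨x, y, hzxy, -, -⟩ := exists_of_comm n1 n2 h2.symm
    have h3 : (x, y) ^ q = 1 := by
      apply emb_injective
      rw [map_pow, map_one, ← hzxy, hz]
    have hx : x = 1 := by
      have h4 : x ^ q = 1 := congrArg Prod.fst h3
      rcases (Nat.dvd_prime hq).1 (orderOf_dvd_of_pow_eq_one h4) with h5 | h5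
      · exact orderOf_eq_one_iff.1 h5
      · exact absurd (h5 ▸ orderOf_dvd_natCard x) hd
    have hy : y = 1 := by
      refine h1 y (congrArg Prod.snd h3) fun b hb => ?_
      have h4 := hc (emb X Y (1, b)) ⟨(1, b), ⟨one_mem _, hb⟩, rfl⟩
      rw [hzxy, ← map_mul, ← map_mul] at h4
      exact congrArg Prod.snd (emb_injective h4)
    rw [hzxy, hx, hy]
    rfl

theorem PA.not_cond {G : Type u} [Group G] [Finite G] {π : Set ℕ} {p q : ℕ} (hpp : p.Prime) (hqp : q.Prime)
    (hp : p ∈ π) (hq : q ∈ π) (hpq : p ≠ q) (hd : q ∣ Nat.card G) (h : PA p q G) : ¬ Cond π G := by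
  obtain ⟨A, hA, h1⟩ := h
  have := Fact.mk hpp
  have := Fact.mk hqp
  refine not_cond_of_centralizer hp hq hpq hd A hA fun y hy hc => ?_
  have h2 := h1 y (by rw [← hy, pow_orderOf_eq_one]) hc
  rw [h2, orderOf_one] at hy
  exact hqp.one_lt.ne hy

/-- an abelian subgroup of index prime to `π` -/
def PT (π : Set ℕ) (G : Type u) [Group G] : Prop := ∃ T : Subgroup G, IsMulCommutative T ∧ ∀ p ∈ π, ¬ p ∣ T.index

theorem PT.congr {π : Set ℕ} {G : Type u} {H : Type v} [Group G] [Group H] (h : PT π G) (e : G ≃* H) : PT π H := by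
  obtain ⟨T, hT, h1⟩ := h
  refine ⟨T.map (e : G →* H), ?_, fun p hp => ?_⟩
  · constructor
    constructor
    rintro ⟨_, a, ha, rfl⟩ ⟨_, b, hb, rfl⟩
    have h0 := congrArg Subtype.val (hT.is_comm.comm ⟨a, ha⟩ ⟨b, hb⟩)
    have h2 : a * b = b * a := h0
    apply Subtype.ext
    show (e : G →* H) a * (e : G →* H) b = (e : G →* H) b * (e : G →* H) a
    rw [← map_mul, ← map_mul, h2]
  · rw [Subgroup.index_map_equiv]
    exact h1 p hp

theorem PT.base {π : Set ℕ} {G : Type u} [Group G] (h : ∀ p ∈ π, ¬ p ∣ Nat.card G) : PT π G := by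
  refine ⟨⊥, ?_, fun p hp => ?_⟩
  · constructor
    constructor
    rintro ⟨a, ha⟩ ⟨b, hb⟩
    rw [Subgroup.mem_bot] at ha hb
    subst ha
    subst hb
    rfl
  · rw [Subgroup.index_bot]
    exact h p hp

theorem PT.prod {π : Set ℕ} (hπ : ∀ p ∈ π, p.Prime) (h : PT π X.G) (h' : PT π Y.G)
    (hv : ∀ p ∈ π, ev p (X.prod Y).G = ev p X.G + ev p Y.G) : PT π (X.prod Y).G := by
  obtain ⟨T, hT, h1⟩ := h
  obtain ⟨T', hT', h1'⟩ := h'
  refine ⟨(T.prod T').map (emb X Y), ?_, fun p hp => ?_⟩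
  · constructor
    constructor
    rintro ⟨_, ⟨a, a'⟩, ha, rfl⟩ ⟨_, ⟨b, b'⟩, hb, rfl⟩
    have h2 : a * b = b * a := congrArg Subtype.val (hT.is_comm.comm ⟨a, ha.1⟩ ⟨b, hb.1⟩)
    have h2' : a' * b' = b' * a' := congrArg Subtype.val (hT'.is_comm.comm ⟨a', ha.2⟩ ⟨b', hb.2⟩)
    apply Subtype.ext
    show emb X Y (a, a') * emb X Y (b, b') = emb X Y (b, b') * emb X Y (a, a')
    rw [← map_mul, ← map_mul, Prod.mk_mul_mk, Prod.mk_mul_mk, h2, h2']
  · rw [not_dvd_index_iff (hπ p hp), hv p hp, ← (not_dvd_index_iff (hπ p hp) T).1 (h1 p hp),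
      ← (not_dvd_index_iff (hπ p hp) T').1 (h1' p hp), ev,
      Nat.card_congr ((T.prod T').equivMapOfInjective (emb X Y) emb_injective).toEquiv.symm,
      Nat.card_congr (Subgroup.prodEquiv _ _).toEquiv, Nat.card_prod,
      Nat.factorization_mul Nat.card_pos.ne' Nat.card_pos.ne']
    rfl

/-- the abelian subgroup of one block -/
theorem PT.of_cond {π : Set ℕ} (hπ : ∀ p ∈ π, p.Prime) {q : ℕ} (hq : q ∈ π) (hc : Cond π (X.prod Y).G)
    (hv : ∀ p ∈ π, ev p (X.prod Y).G = ev p X.G + ev p Y.G) (hd : q ∣ Nat.card X.G)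
    (hfix : ∀ a : X.G, orderOf a = q → ∀ u, a.1 u = u → u = 0)
    (hcomm : ∀ a : X.G, orderOf a = q → ∀ z z' : X.G, z * a = a * z → z' * a = a * z' → z * z' = z' * z) :
    PT π X.G := by
  have hqf := Fact.mk (hπ q hq)
  obtain ⟨S⟩ := (inferInstance : Nonempty (Sylow q X.G))
  have hS : Nontrivial (S : Subgroup X.G) := by
    rw [Subgroup.nontrivial_iff_ne_bot]
    intro hb
    have h1 := S.not_dvd_index
    rw [hb, Subgroup.index_bot] at h1
    exact h1 hd
  have hZ : Nontrivial (Subgroup.center (S : Subgroup X.G)) := S.isPGroup'.center_nontrivial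
  have hdZ : q ∣ Nat.card (Subgroup.center (S : Subgroup X.G)) := by
    obtain ⟨n, hn⟩ := IsPGroup.iff_card.1 (S.isPGroup'.to_subgroup (Subgroup.center (S : Subgroup X.G)))
    rw [hn]
    refine dvd_pow_self q ?_
    rintro rfl
    have h2 : 1 < Nat.card (Subgroup.center (S : Subgroup X.G)) := Finite.one_lt_card
    rw [hn, pow_zero] at h2
    exact lt_irrefl _ h2
  obtain ⟨⟨⟨y, hyS⟩, hyZ⟩, hy⟩ := exists_prime_orderOf_dvd_card' q hdZ
  have hyo : orderOf y = q := by
    have e1 := Subgroup.orderOf_mk (⟨y, hyS⟩ : (S : Subgroup X.G)) hyZ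
    have e2 := Subgroup.orderOf_mk y hyS
    rw [← hy, e1, e2]
  have hfx := hfix y hyo
  set T : Subgroup X.G := Subgroup.centralizer ({y} : Set X.G) with hTdef
  have hST : (S : Subgroup X.G) ≤ T := by
    intro s hs
    rw [hTdef, mem_centralizer]
    have := Subgroup.mem_center_iff.1 hyZ ⟨s, hs⟩
    exact congrArg Subtype.val this
  refine ⟨T, ?_, fun p hp => ?_⟩
  · constructor
    constructor
    rintro ⟨z, hz⟩ ⟨z', hz'⟩
    exact Subtype.ext (hcomm y hyo z z' (mem_centralizer.1 hz) (mem_centralizer.1 hz'))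
  · by_cases hpq : p = q
    · subst hpq
      intro h
      exact S.not_dvd_index (h.trans (Subgroup.index_dvd_of_le hST))
    · have hpp := hπ p hp
      have n1 : NI y.1 (1 : Y.G).1 := NI.one_right hfx
      have n2 : NI (1 : Y.G).1 y.1 := NI.one_left hfx
      have h1 := ev_centralizer_le p n1 n2
      have hyo' : ∃ k : ℕ, orderOf (emb X Y (y, 1)) = q ^ k := by
        refine ⟨1, ?_⟩
        rw [orderOf_injective (emb X Y) emb_injective, Prod.orderOf, pow_one]
        simp [hyo]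
      have h2 := hc q hq p hp (Ne.symm hpq) _ hyo'
      rw [not_dvd_index_iff hpp] at h2
      rw [not_dvd_index_iff hpp]
      have h3 := hv p hp
      have h4 := ev_subgroup_le p (Subgroup.centralizer ({(1 : Y.G)} : Set Y.G))
      have h5 := ev_subgroup_le p T
      rw [← hTdef] at h1
      omega

end Cfsg.Agent.H17.CR
end

-- part: H17/CR/Gen
section
/-!
# The generic argument: all primes with the same atoms (helper17)

`Sys` : sums of `k` atoms, spaces with `N t` atoms. `Sys.main` : `Cond π` implies an abelian subgroup of index prime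
to `π`.
-/

set_option autoImplicit false
set_option linter.unusedSectionVars false

open Cfsg
open Cfsg.Agent.H749 (Iso)
open Cfsg.Agent.H630.NH

namespace Cfsg.Agent.H17.CR

/-- `N v + v_p (N!)` -/
noncomputable def nu (p v N : ℕ) : ℕ := N * v + (N.factorial).factorization p

theorem nu_zero (p v : ℕ) : nu p v 0 = 0 := by simp [nu]

theorem nu_one (p v : ℕ) : nu p v 1 = v := by simp [nu]

theorem nu_small {p v N : ℕ} (hp : p.Prime) (h : N < p) : nu p v N = N * v := by
  rw [nu, Nat.factorization_eq_zero_of_not_dvd (fun h1 => by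
    rw [hp.dvd_factorial] at h1; omega), add_zero]

theorem nu_mono {p v N N' : ℕ} (h : N ≤ N') : nu p v N ≤ nu p v N' := by
  unfold nu
  have h1 : N * v ≤ N' * v := Nat.mul_le_mul_right _ h
  have h2 := (Nat.factorization_le_iff_dvd (Nat.factorial_ne_zero N) (Nat.factorial_ne_zero N')).2
    (Nat.factorial_dvd_factorial h) p
  omega

theorem nu_lt {p v N N' : ℕ} (hv : 0 < v) (h : N < N') : nu p v N < nu p v N' := by
  unfold nu
  have h1 : N * v < N' * v := Nat.mul_lt_mul_of_pos_right h hv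
  have h2 := (Nat.factorization_le_iff_dvd (Nat.factorial_ne_zero N) (Nat.factorial_ne_zero N')).2
    (Nat.factorial_dvd_factorial h.le) p
  omega

theorem nu_beta {p v N : ℕ} (hp : p.Prime) (h : p ≤ N) :
    nu p v (N % p) + nu p v 1 + nu p v (N - (N % p + 1)) < nu p v N := by
  have hc0 : N % p < p := Nat.mod_lt _ hp.pos
  obtain ⟨m, hm⟩ : ∃ m, N = N % p + (m + 1) := ⟨N - N % p - 1, by omega⟩
  have hdm : p ∣ m + 1 := by
    have h1 : m + 1 = N - N % p := by omega
    rw [h1]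
    exact Nat.dvd_sub_mod N
  have e1 : N - (N % p + 1) = m := by omega
  rw [e1, nu_small hp hc0, nu_one]
  unfold nu
  have h2 : (m + 1).factorial ∣ N.factorial := Nat.factorial_dvd_factorial (by omega)
  have h3 := (Nat.factorization_le_iff_dvd (Nat.factorial_ne_zero (m + 1)) (Nat.factorial_ne_zero N)).2 h2 p
  have h3' : (m + 1).factorial.factorization p = (m + 1).factorization p + m.factorial.factorization p := by
    rw [Nat.factorial_succ, Nat.factorization_mul (Nat.succ_ne_zero _) (Nat.factorial_ne_zero _), Finsupp.add_apply]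
  have h4 : 0 < (m + 1).factorization p := hp.factorization_pos_of_dvd (Nat.succ_ne_zero _) hdm
  have h5 : N * v = (N % p) * v + v + m * v := by
    conv_lhs => rw [hm]
    ring
  omega

variable {F : Type} [Field F]

/-- the axioms -/
structure Sys (F : Type) [Field F] (π : Set ℕ) (d : ℕ) (v : ℕ → ℕ) (τ : Type) where
  /-- sums of `k` atoms -/
  HU : ℕ → Spc F → Prop
  zero : ∃ U, HU 0 U ∧ Subsingleton U.V
  one : ∃ M, HU 1 M
  add : ∀ {k l : ℕ} {U M : Spc F}, HU k U → HU l M → HU (k + l) (U.prod M)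
  iso : ∀ {U U' : Spc F}, HU 1 U → HU 1 U' → Nonempty (U.G ≃* U'.G)
  evU : ∀ {k : ℕ} {U : Spc F}, HU k U → ∀ p ∈ π, ev p U.G = nu p (v p) k
  fix : ∀ {M : Spc F}, HU 1 M → ∀ p ∈ π, ∀ a : M.G, orderOf a = p → ∀ u, a.1 u = u → u = 0
  comm : ∀ {M : Spc F}, HU 1 M → ∀ p ∈ π, ∀ a : M.G, orderOf a = p → ∀ z z' : M.G, z * a = a * z →
    z' * a = a * z' → z * z' = z' * z
  two : ∀ {M : Spc F}, HU 1 M → ∀ p ∈ π, 2 * d + 1 < p → ∀ a : M.G, orderOf a = p →
    ∃ j : ℕ, orderOf (a ^ j) = p ∧ NI a.1 (a ^ j).1 ∧ NI (a ^ j).1 a.1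
  /-- the spaces of type `t` -/
  HX : τ → Spc F → Prop
  N : τ → ℕ
  evX : ∀ {t : τ} {X : Spc F}, HX t X → ∀ p ∈ π, ev p X.G = nu p (v p) (N t)
  split : ∀ {t : τ} {X : Spc F}, HX t X → ∀ k : ℕ, k ≤ N t → ∃ t' X', HX t' X' ∧ N t' = N t - k ∧
    ∀ U, HU k U → Nonempty (X.G ≃* (U.prod X').G)

namespace Sys

variable {π : Set ℕ} {d : ℕ} {v : ℕ → ℕ} {τ : Type} (S : Sys F π d v τ)

include S

theorem exists_sum (hπ : ∀ p ∈ π, p.Prime) {q : ℕ} (hq : q ∈ π) {M : Spc F} (hM : S.HU 1 M) (a b : M.G)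
    (ha : orderOf a = q) (hb : orderOf b = q) (hab : NI a.1 b.1) (hba : NI b.1 a.1) (k : ℕ) :
    ∃ U : Spc F, S.HU k U ∧ ∃ aU : U.G, aU ^ q = 1 ∧ (∀ u, aU.1 u = u → u = 0) ∧ NI aU.1 b.1 ∧ NI b.1 aU.1 := by
  induction k with
  | zero =>
    obtain ⟨U, hU, hs⟩ := S.zero
    refine ⟨U, hU, 1, one_pow _, fun u _ => Subsingleton.elim _ _, fun γ _ => ?_, fun γ _ => ?_⟩
    · refine LinearMap.ext fun u => ?_
      rw [Subsingleton.elim u 0, map_zero, LinearMap.zero_apply]
    · exact LinearMap.ext fun u => Subsingleton.elim _ _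
  | succ k ih =>
    obtain ⟨U, hU, aU, h1, h2, h3, h4⟩ := ih
    refine ⟨U.prod M, S.add hU hM, emb U M (aU, a), ?_, ?_, ?_, ?_⟩
    · rw [← map_pow, Prod.pow_mk, h1, ← ha, pow_orderOf_eq_one]
      exact map_one _
    · rintro ⟨u, w⟩ huw
      have h5 : aU.1 u = u := congrArg Prod.fst huw
      have h6 : a.1 w = w := congrArg Prod.snd huw
      exact Prod.ext (h2 u h5) (S.fix hM q hq a ha w h6)
    · exact NI.prod_left h3 hab
    · exact NI.prod_right h4 hba

/-- few atoms -/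
theorem lt_of_cond (hπ : ∀ p ∈ π, p.Prime) (h2d : ∀ p ∈ π, 2 * d + 1 ≤ p) (hv : ∀ p ∈ π, 0 < v p)
    {t : τ} {X : Spc F} (hX : S.HX t X) (hc : Cond π X.G) {p q : ℕ} (hp : p ∈ π) (hq : q ∈ π) (hpq : p < q) :
    S.N t < p := by
  by_contra hN
  rw [not_lt] at hN
  have hpp := hπ p hp
  have hqp := hπ q hq
  have hc0 : S.N t % p < p := Nat.mod_lt _ hpp.pos
  obtain ⟨t', X', hX', hN', hsp⟩ := S.split hX (S.N t % p + 1) (by omega)
  obtain ⟨M, hM⟩ := S.one
  have hd : q ∣ Nat.card M.G := by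
    by_contra h
    have h1 := ev_eq_zero h
    rw [S.evU hM q hq, nu_one] at h1
    exact (hv q hq).ne' h1
  have hqf : Fact q.Prime := ⟨hqp⟩
  obtain ⟨a, ha⟩ := exists_prime_orderOf_dvd_card' q hd
  obtain ⟨j, hj, h1, h2⟩ := S.two hM q hq (lt_of_le_of_lt (h2d p hp) hpq) a ha
  obtain ⟨U, hU, aU, g1, g2, g3, g4⟩ := S.exists_sum hπ hq hM a (a ^ j) ha hj h1 h2 (S.N t % p)
  obtain ⟨e⟩ := hsp _ (S.add hU hM)
  have hc' := hc.congr e
  set y : (U.prod M).G := emb U M (aU, a ^ j) with hy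
  have hyfix : ∀ u, y.1 u = u → u = 0 := by
    rintro ⟨u, w⟩ huw
    have h5 : aU.1 u = u := congrArg Prod.fst huw
    have h6 : (a ^ j).1 w = w := congrArg Prod.snd huw
    exact Prod.ext (g2 u h5) (S.fix hM q hq (a ^ j) hj w h6)
  have n1 : NI y.1 (1 : X'.G).1 := NI.one_right hyfix
  have n2 : NI (1 : X'.G).1 y.1 := NI.one_left hyfix
  have e1 := ev_centralizer_le p n1 n2
  have e2 := ev_centralizer_le (X := U) (Y := M) (a := aU) (b := a ^ j) p g3 g4
  have e3 := ev_subgroup_le p (Subgroup.centralizer ({aU} : Set U.G))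
  have e4 := ev_subgroup_le p (Subgroup.centralizer ({a ^ j} : Set M.G))
  have e5 := ev_subgroup_le p (Subgroup.centralizer ({(1 : X'.G)} : Set X'.G))
  rw [S.evU hU p hp] at e3
  rw [S.evU hM p hp] at e4
  rw [S.evX hX' p hp, hN'] at e5
  have e6 : ev p ((U.prod M).prod X').G = nu p (v p) (S.N t) := by
    rw [← ev_congr p e, S.evX hX p hp]
  have e7 := nu_beta (v := v p) hpp hN
  refine not_cond_of_ev hpp hp hq hpq.ne (emb (U.prod M) X' (y, 1)) ?_ ?_ hc'
  · have h5 : (emb (U.prod M) X' (y, 1)) ^ q = 1 := by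
      rw [← map_pow, Prod.pow_mk, one_pow, hy, ← map_pow, Prod.pow_mk, g1, ← hj, pow_orderOf_eq_one]
      have : emb U M (1, 1) = 1 := map_one _
      rw [this]
      exact map_one _
    rcases (Nat.dvd_prime hqp).1 (orderOf_dvd_of_pow_eq_one h5) with h6 | h6
    · exact ⟨0, by rw [h6, pow_zero]⟩
    · exact ⟨1, by rw [h6, pow_one]⟩
  · rw [e6]
    rw [← hy] at e2
    omega

theorem pt_of_small (hπ : ∀ p ∈ π, p.Prime) {M : Spc F} (hM : S.HU 1 M) (hPT : PT π M.G) (n : ℕ) :
    ∀ {t : τ} {X : Spc F}, S.HX t X → S.N t = n → (∀ p ∈ π, n < p) → PT π X.G := by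
  induction n with
  | zero =>
    intro t X hX hn _
    refine PT.base fun p hp => ?_
    have h1 := S.evX hX p hp
    rw [hn, nu_zero] at h1
    exact not_dvd_of_ev (hπ p hp) h1
  | succ n ih =>
    intro t X hX hn hlt
    obtain ⟨t', X', hX', hN', hsp⟩ := S.split hX 1 (by omega)
    obtain ⟨e⟩ := hsp M hM
    have h1 := ih hX' (by omega) fun p hp => (Nat.lt_succ_self n).trans (hlt p hp)
    refine PT.congr (PT.prod hπ hPT h1 fun p hp => ?_) e.symm
    rw [← ev_congr p e, S.evX hX p hp, S.evX hX' p hp, S.evU hM p hp, hn, hN', hn, nu_small (hπ p hp) (hlt p hp), nu_one,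
      Nat.add_sub_cancel, nu_small (hπ p hp) ((Nat.lt_succ_self n).trans (hlt p hp))]
    ring

/-- **The generic theorem.** -/
theorem main (hπ : ∀ p ∈ π, p.Prime) (hnt : π.Nontrivial) (h2d : ∀ p ∈ π, 2 * d + 1 ≤ p) (hv : ∀ p ∈ π, 0 < v p)
    {t : τ} {X : Spc F} (hX : S.HX t X) (hN : 1 ≤ S.N t) (hc : Cond π X.G) : PT π X.G := by
  have hlt : ∀ p ∈ π, S.N t < p := by
    intro p hp
    obtain ⟨q, hq, hqp⟩ := hnt.exists_ne p
    rcases lt_or_gt_of_ne hqp with h | h
    · exact (S.lt_of_cond hπ h2d hv hX hc hq hp h).trans h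
    · exact S.lt_of_cond hπ h2d hv hX hc hp hq h
  obtain ⟨M, hM⟩ := S.one
  obtain ⟨t', X', hX', hN', hsp⟩ := S.split hX 1 hN
  obtain ⟨e⟩ := hsp M hM
  obtain ⟨q, hq⟩ := hnt.nonempty
  have hPT : PT π M.G := by
    refine PT.of_cond (X := M) (Y := X') hπ hq (hc.congr e) (fun p hp => ?_) ?_ (S.fix hM q hq) (S.comm hM q hq)
    · rw [← ev_congr p e, S.evX hX p hp, S.evX hX' p hp, S.evU hM p hp, hN', nu_small (hπ p hp) (hlt p hp), nu_one,
        nu_small (hπ p hp) (lt_of_le_of_lt (Nat.sub_le _ _) (hlt p hp))]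
      obtain ⟨n, hn⟩ : ∃ n, S.N t = n + 1 := ⟨S.N t - 1, by omega⟩
      rw [hn, Nat.add_sub_cancel]
      ring
    · by_contra h
      have h1 := ev_eq_zero h
      rw [S.evU hM q hq, nu_one] at h1
      exact (hv q hq).ne' h1
  exact S.pt_of_small hπ hM hPT _ hX rfl hlt

end Sys

end Cfsg.Agent.H17.CR
end

-- part: H17/CR/Eig
section
/-!
# Isometries of prime order of a space of minimal dimension (helper17)

`a` an isometry of order `q` of a space of dimension `2 d`, `d` the order of `|F| ^ 2` modulo `q`: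
* `fix` : no fixed vectors;
* `comm` : the centralizer is commutative;
* `exists_pow` : if `2 d + 1 < q` then some power `a ^ j` of order `q` has no common eigenvalue with `a`.
-/

set_option autoImplicit false
set_option linter.unusedSectionVars false

open Cfsg Polynomial

namespace Cfsg.Agent.H17.CR

namespace Eig

section Units

variable {q : ℕ} [Fact q.Prime]

/-- the subgroup generated by `w` and `-1` -/
def HH (w : (ZMod q)ˣ) : Subgroup (ZMod q)ˣ := Subgroup.closure {w, -1}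

theorem card_HH (hq2 : q ≠ 2) (w : (ZMod q)ˣ) {d : ℕ} (hd : orderOf (w ^ 2) = d) : Nat.card (HH w) = 2 * d := by
  have h2 : (-1 : (ZMod q)ˣ) ≠ 1 := by
    intro h
    have h1 : (-1 : ZMod q) = 1 := congrArg Units.val h
    have hq : Fact (2 < q) := ⟨lt_of_le_of_ne (Fact.out : q.Prime).two_le (Ne.symm hq2)⟩
    exact ZMod.neg_one_ne_one h1
  let φ : HH w →* (ZMod q)ˣ := (powMonoidHom 2).comp (HH w).subtype
  have h3 : φ.range = Subgroup.zpowers (w ^ 2) := by
    have : φ.range = (HH w).map (powMonoidHom 2) := by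
      rw [MonoidHom.range_comp, Subgroup.range_subtype]
    rw [this, HH, MonoidHom.map_closure, Set.image_pair]
    rw [powMonoidHom_apply, powMonoidHom_apply, neg_one_sq, Set.pair_comm, Subgroup.closure_insert_one,
      Subgroup.zpowers_eq_closure]
  have h4 : Nat.card φ.ker = 2 := by
    rw [Nat.card_eq_two_iff]
    refine ⟨1, ⟨⟨-1, Subgroup.subset_closure (by simp)⟩, ?_⟩, ?_, ?_⟩
    · show (-1 : (ZMod q)ˣ) ^ 2 = 1
      exact neg_one_sq
    · intro h
      exact h2 (congrArg (fun x : φ.ker => (x.1.1 : (ZMod q)ˣ)) h).symm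
    · refine Set.eq_univ_of_forall fun x => ?_
      have hx : (x.1.1 : (ZMod q)ˣ) ^ 2 = 1 := x.2
      have hx' : ((x.1.1 : (ZMod q)ˣ) : ZMod q) ^ 2 = 1 := by
        rw [← Units.val_pow_eq_pow_val, hx, Units.val_one]
      rw [sq] at hx'
      rcases mul_self_eq_one_iff.1 hx' with h | h
      · left
        apply Subtype.ext
        apply Subtype.ext
        exact Units.ext h
      · right
        apply Subtype.ext
        apply Subtype.ext
        exact Units.ext h
  have h5 := Subgroup.card_eq_card_quotient_mul_card_subgroup φ.ker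
  have h6 : Nat.card (HH w ⧸ φ.ker) = d := by
    rw [Nat.card_congr (QuotientGroup.quotientKerEquivRange φ).toEquiv, h3, Nat.card_zpowers, hd]
  rw [h5, h6, h4, mul_comm]

end Units

section Roots

variable {F : Type*} [Field F] {M : Type*} [AddCommGroup M] [Module F M] [FiniteDimensional F M]
  (K : Type*) [Field K] [Algebra F K]

/-- the eigenvalues -/
def R (A : Module.End F M) : Set K := (minpoly F A).rootSet K

theorem mem_R {A : Module.End F M} {x : K} : x ∈ R K A ↔ aeval x (minpoly F A) = 0 := by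
  rw [R, mem_rootSet]
  exact and_iff_right (minpoly.ne_zero (Algebra.IsIntegral.isIntegral A))

theorem pow_mem_R {A : Module.End F M} {x : K} (h : x ∈ R K A) (j : ℕ) : x ^ j ∈ R K (A ^ j) := by
  rw [mem_R] at h ⊢
  have h1 : aeval A (expand F j (minpoly F (A ^ j))) = 0 := by
    rw [expand_aeval, minpoly.aeval]
  obtain ⟨Q, hQ⟩ := minpoly.dvd F A h1
  rw [← expand_aeval, hQ, map_mul, h, zero_mul]

theorem frob_mem_R [Fintype F] {A : Module.End F M} {x : K} (h : x ∈ R K A) : x ^ Fintype.card F ∈ R K A := by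
  rw [mem_R] at h ⊢
  rw [← expand_aeval, FiniteField.expand_card, map_pow, h, zero_pow Fintype.card_ne_zero]

theorem pow_eq_one_of_mem_R {A : Module.End F M} {q : ℕ} (hA : A ^ q = 1) {x : K} (h : x ∈ R K A) : x ^ q = 1 := by
  rw [mem_R] at h
  have h1 : aeval A (X ^ q - 1 : F[X]) = 0 := by
    rw [map_sub, map_pow, aeval_X, map_one, hA, sub_self]
  obtain ⟨Q, hQ⟩ := minpoly.dvd F A h1
  have h2 : aeval x (X ^ q - 1 : F[X]) = 0 := by rw [hQ, map_mul, h, zero_mul]
  rw [map_sub, map_pow, aeval_X, map_one] at h2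
  exact sub_eq_zero.1 h2

theorem finite_R (A : Module.End F M) : (R K A).Finite := rootSet_finite _ _

theorem natDegree_le (A : Module.End F M) : (minpoly F A).natDegree ≤ Module.finrank F M := by
  rw [← LinearMap.charpoly_natDegree A]
  exact natDegree_le_of_dvd (LinearMap.minpoly_dvd_charpoly A) (LinearMap.charpoly_monic A).ne_zero

theorem ncard_R_le (A : Module.End F M) : (R K A).ncard ≤ (minpoly F A).natDegree := ncard_rootSet_le _ _

/-- adjoint -/
theorem adj {B : M → M → F} (hadd : ∀ u u' v, B (u + u') v = B u v + B u' v) (hsm : ∀ (c : F) u v, B (c • u) v = c * B u v)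
    (hadd' : ∀ u v v', B u (v + v') = B u v + B u v') (hsm' : ∀ (c : F) u v, B u (c • v) = c * B u v)
    {A A' : Module.End F M} (h : ∀ u v, B (A u) v = B u (A' v)) (P : F[X]) (u v : M) :
    B (aeval A P u) v = B u (aeval A' P v) := by
  induction P using Polynomial.induction_on' with
  | add p q hp hq => 
    rw [map_add, map_add, LinearMap.add_apply, LinearMap.add_apply, hadd, hadd', hp, hq]
  | monomial n c =>
    have h1 : ∀ (n : ℕ) (u v : M), B ((A ^ n) u) v = B u ((A' ^ n) v) := by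
      intro n
      induction n with
      | zero => intro u v; rfl
      | succ n ih =>
        intro u v
        rw [pow_succ, Module.End.mul_apply, ih, h, pow_succ', Module.End.mul_apply]
    rw [aeval_monomial, aeval_monomial, Module.End.mul_apply, Module.End.mul_apply, Module.algebraMap_end_apply,
      Module.algebraMap_end_apply, hsm, hsm', h1]

/-- a bilinear form without right radical -/
structure Bil (B : M → M → F) : Prop where
  add_left : ∀ u u' v, B (u + u') v = B u v + B u' v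
  smul_left : ∀ (c : F) u v, B (c • u) v = c * B u v
  add_right : ∀ u v v', B u (v + v') = B u v + B u v'
  smul_right : ∀ (c : F) u v, B u (c • v) = c * B u v
  rad : ∀ v, (∀ u, B u v = 0) → v = 0

theorem inv_mem_R {B : M → M → F} (hB : Bil B) {A : Module.End F M} (hA : ∀ u v, B (A u) (A v) = B u v) {q : ℕ}
    (hq : 1 ≤ q) (hAq : A ^ q = 1) {x : K} (h : x ∈ R K A) : x ^ (q - 1) ∈ R K A := by
  have h1 := pow_mem_R K h (q - 1)
  rw [mem_R] at h1 ⊢
  have h2 : aeval (A ^ (q - 1)) (minpoly F A) = 0 := by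
    refine LinearMap.ext fun v => hB.rad _ fun u => ?_
    have hz : ∀ v, B 0 v = 0 := fun v => by
      have := hB.smul_left 0 0 v
      rwa [zero_smul, zero_mul] at this
    rw [← adj hB.add_left hB.smul_left hB.add_right hB.smul_right (A := A) (A' := A ^ (q - 1)) ?_ (minpoly F A) u v,
      minpoly.aeval, LinearMap.zero_apply, hz]
    intro u v
    have h3 : A ((A ^ (q - 1)) v) = v := by
      rw [← Module.End.mul_apply, ← pow_succ', Nat.sub_add_cancel hq, hAq, Module.End.one_apply]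
    conv_lhs => rw [← h3]
    rw [hA]
  obtain ⟨Q, hQ⟩ := minpoly.dvd F _ h2
  rw [hQ, map_mul, h1, zero_mul]

theorem exists_mem_R [IsAlgClosed K] {A : Module.End F M} {q : ℕ} (hq : (q : F) ≠ 0) (hA : A ^ q = 1) (hA1 : A ≠ 1) :
    ∃ x ∈ R K A, x ≠ 1 := by
  by_contra! h
  let Φ : F[X] := ∑ i ∈ Finset.range q, X ^ i
  have hΦ : (X - 1) * Φ = X ^ q - 1 := mul_geom_sum X q
  have h1 : IsCoprime (minpoly F A) Φ := by
    rw [isCoprime_iff_aeval_ne_zero_of_isAlgClosed F K]
    intro x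
    by_contra! hx
    have hx1 : x = 1 := h x ((mem_R K).2 hx.1)
    have h2 := hx.2
    rw [hx1, map_sum] at h2
    simp only [map_pow, aeval_X, one_pow, Finset.sum_const, Finset.card_range, nsmul_eq_mul, mul_one] at h2
    apply hq
    apply (algebraMap F K).injective
    rw [map_natCast, map_zero, h2]
  have h3 : aeval A (X ^ q - 1 : F[X]) = 0 := by
    rw [map_sub, map_pow, aeval_X, map_one, hA, sub_self]
  have h4 := minpoly.dvd F A h3
  rw [← hΦ] at h4
  obtain ⟨Q, hQ⟩ := h1.dvd_of_dvd_mul_right h4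
  have h5 : aeval A (X - 1 : F[X]) = 0 := by
    rw [hQ, map_mul, minpoly.aeval, zero_mul]
  rw [map_sub, aeval_X, map_one] at h5
  exact hA1 (sub_eq_zero.1 h5)

end Roots

section Main

variable {F : Type*} [Field F] [Fintype F] {M : Type*} [AddCommGroup M] [Module F M] [FiniteDimensional F M]
  (K : Type*) [Field K] [Algebra F K] {q : ℕ} [Fact q.Prime]

theorem pow_val_mul {x : K} (hx : x ^ q = 1) (c c' : ZMod q) : x ^ (c * c').val = (x ^ c.val) ^ c'.val := by
  rw [ZMod.val_mul, ← pow_eq_pow_mod _ hx, pow_mul]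

theorem pow_natCast_val {x : K} (hx : x ^ q = 1) (n : ℕ) : x ^ (n : ZMod q).val = x ^ n := by
  rw [ZMod.val_natCast, ← pow_eq_pow_mod _ hx]

theorem pow_HH_mem_R {B : M → M → F} (hB : Bil B) {A : Module.End F M} (hA : ∀ u v, B (A u) (A v) = B u v)
    (hAq : A ^ q = 1) {w : (ZMod q)ˣ} (hw : (w : ZMod q) = Fintype.card F) {c : (ZMod q)ˣ} (hc : c ∈ HH w) :
    ∀ x ∈ R K A, x ^ (c : ZMod q).val ∈ R K A := by
  have hq1 : 1 ≤ q := (Fact.out : q.Prime).one_lt.le
  refine Subgroup.closure_induction (p := fun (c : (ZMod q)ˣ) _ => ∀ x ∈ R K A, x ^ (c : ZMod q).val ∈ R K A)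
    ?_ ?_ ?_ ?_ hc
  · rintro c (rfl | rfl) x hx
    · rw [hw, pow_natCast_val K (pow_eq_one_of_mem_R K hAq hx)]
      exact frob_mem_R K hx
    · have h1 : ((-1 : (ZMod q)ˣ) : ZMod q) = ((q - 1 : ℕ) : ZMod q) := by
        rw [Nat.cast_sub hq1, ZMod.natCast_self, Nat.cast_one, zero_sub, Units.val_neg, Units.val_one]
      rw [h1, pow_natCast_val K (pow_eq_one_of_mem_R K hAq hx)]
      exact inv_mem_R K hB hA hq1 hAq hx
  · intro x hx
    have : Fact (1 < q) := ⟨(Fact.out : q.Prime).one_lt⟩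
    rw [Units.val_one, ZMod.val_one, pow_one]
    exact hx
  · intro c c' _ _ h1 h2 x hx
    rw [Units.val_mul, pow_val_mul K (pow_eq_one_of_mem_R K hAq hx)]
    exact h2 _ (h1 _ hx)
  · intro c _ h1 x hx
    have h2 : ∀ n : ℕ, ∀ x ∈ R K A, x ^ ((c ^ n : (ZMod q)ˣ) : ZMod q).val ∈ R K A := by
      intro n
      induction n with
      | zero =>
        intro x hx
        have : Fact (1 < q) := ⟨(Fact.out : q.Prime).one_lt⟩
        rw [pow_zero, Units.val_one, ZMod.val_one, pow_one]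
        exact hx
      | succ n ih =>
        intro x hx
        rw [pow_succ, Units.val_mul, pow_val_mul K (pow_eq_one_of_mem_R K hAq hx)]
        exact h1 _ (ih _ hx)
    have h3 : c⁻¹ = c ^ (orderOf c - 1) := by
      have h4 : c * c ^ (orderOf c - 1) = 1 := by
        rw [← pow_succ', Nat.sub_add_cancel (orderOf_pos c), pow_orderOf_eq_one]
      exact inv_eq_of_mul_eq_one_right h4
    rw [h3]
    exact h2 _ _ hx

theorem injOn {x : K} (hx : x ^ q = 1) (hx1 : x ≠ 1) : Function.Injective fun c : (ZMod q)ˣ => x ^ (c : ZMod q).val := by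
  intro c c' h
  have h1 : orderOf x = q := orderOf_eq_prime hx hx1
  have h2 := pow_injOn_Iio_orderOf (x := x) (by rw [h1]; exact ZMod.val_lt _) (by rw [h1]; exact ZMod.val_lt _) h
  exact Units.ext (ZMod.val_injective q h2)

/-- the eigenvalues form one orbit -/
theorem R_eq {B : M → M → F} (hB : Bil B) {A : Module.End F M} (hA : ∀ u v, B (A u) (A v) = B u v)
    (hAq : A ^ q = 1) {w : (ZMod q)ˣ} (hw : (w : ZMod q) = Fintype.card F) (hM : Module.finrank F M ≤ Nat.card (HH w))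
    {x : K} (hx : x ∈ R K A) (hx1 : x ≠ 1) :
    R K A = (fun c : (ZMod q)ˣ => x ^ (c : ZMod q).val) '' (HH w : Set (ZMod q)ˣ) ∧
      (minpoly F A).natDegree = Module.finrank F M := by
  have h1 : (fun c : (ZMod q)ˣ => x ^ (c : ZMod q).val) '' (HH w : Set (ZMod q)ˣ) ⊆ R K A := by
    rintro _ ⟨c, hc, rfl⟩
    exact pow_HH_mem_R K hB hA hAq hw hc x hx
  have h2 : ((fun c : (ZMod q)ˣ => x ^ (c : ZMod q).val) '' (HH w : Set (ZMod q)ˣ)).ncard = Nat.card (HH w) := by
    rw [Set.ncard_image_of_injective _ (injOn K (pow_eq_one_of_mem_R K hAq hx) hx1)]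
    rfl
  have h3 := Set.ncard_le_ncard h1 (finite_R K A)
  have h4 := ncard_R_le K A
  have h5 := natDegree_le A
  refine ⟨(Set.eq_of_subset_of_ncard_le h1 (by omega) (finite_R K A)).symm, by omega⟩

end Main

section Final

variable {F : Type} [Field F] [Fintype F] {M : Type*} [AddCommGroup M] [Module F M] [FiniteDimensional F M]
  {q : ℕ} [Fact q.Prime] {B : M → M → F}

theorem toEnd_pow (a : M ≃ₗ[F] M) (n : ℕ) : ((a ^ n : M ≃ₗ[F] M) : Module.End F M) = (a : Module.End F M) ^ n := by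
  induction n with
  | zero => rfl
  | succ n ih => rw [pow_succ, pow_succ, ← ih]; rfl

/-- the hypotheses -/
structure Hyp (B : M → M → F) (q d : ℕ) : Prop where
  prime : q.Prime
  ne_two : q ≠ 2
  ne_zero : (q : F) ≠ 0
  bil : Bil B
  ord : orderOf ((Fintype.card F : ZMod q) ^ 2) = d
  dim : Module.finrank F M = 2 * d

variable {d : ℕ}

theorem Hyp.exists_w (h : Hyp B q d) : ∃ w : (ZMod q)ˣ, (w : ZMod q) = Fintype.card F ∧ Nat.card (HH w) = 2 * d := by
  have hq : (Fintype.card F : ZMod q) ≠ 0 := by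
    intro h1
    rw [ZMod.natCast_eq_zero_iff] at h1
    obtain ⟨p, hp⟩ := CharP.exists F
    obtain ⟨n, hpp, hn⟩ := FiniteField.card F p
    rw [hn] at h1
    have h2 := (Nat.prime_dvd_prime_iff_eq h.prime hpp).1 (h.prime.dvd_of_dvd_pow h1)
    apply h.ne_zero
    rw [h2]
    exact CharP.cast_eq_zero F p
  refine ⟨Units.mk0 _ hq, rfl, card_HH h.ne_two _ ?_⟩
  rw [← h.ord, ← orderOf_units, Units.val_pow_eq_pow_val, Units.val_mk0]

theorem Hyp.orbit (h : Hyp B q d) {K : Type*} [Field K] [Algebra F K] [IsAlgClosed K] {a : M ≃ₗ[F] M}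
    (ha : ∀ u v, B (a u) (a v) = B u v)
    (hq : orderOf a = q) {w : (ZMod q)ˣ} (hw : (w : ZMod q) = Fintype.card F) (hc : Nat.card (HH w) = 2 * d) :
    ∃ x ∈ R K (a : Module.End F M), x ≠ 1 ∧ x ^ q = 1 ∧
    R K (a : Module.End F M) = (fun c : (ZMod q)ˣ => x ^ (c : ZMod q).val) '' (HH w : Set (ZMod q)ˣ) ∧
      (minpoly F (a : Module.End F M)).natDegree = Module.finrank F M := by
  have h1 : (a : Module.End F M) ^ q = 1 := by
    rw [← toEnd_pow, ← hq, pow_orderOf_eq_one]
    rfl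
  have h2 : (a : Module.End F M) ≠ 1 := by
    intro h2
    have h3 : a = 1 := LinearEquiv.ext fun u => LinearMap.congr_fun h2 u
    rw [h3, orderOf_one] at hq
    exact h.prime.one_lt.ne hq
  obtain ⟨x, hx, hx1⟩ := exists_mem_R K h.ne_zero h1 h2
  have h3 := R_eq K h.bil (A := (a : Module.End F M)) ha h1 hw (by rw [hc, h.dim]) hx hx1
  exact ⟨x, hx, hx1, pow_eq_one_of_mem_R K h1 hx, h3⟩

theorem Hyp.fix (h : Hyp B q d) {a : M ≃ₗ[F] M} (ha : ∀ u v, B (a u) (a v) = B u v) (hq : orderOf a = q) (u : M)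
    (hu : a u = u) : u = 0 := by
  by_contra hu0
  obtain ⟨w, hw, hc⟩ := h.exists_w
  obtain ⟨x, hx, hx1, hxq, hR, -⟩ := h.orbit (K := AlgebraicClosure F) ha hq hw hc
  have h1 : (1 : AlgebraicClosure F) ∈ R (AlgebraicClosure F) (a : Module.End F M) := by
    rw [mem_R]
    have h2 : ∀ P : F[X], (aeval (a : Module.End F M) P) u = (aeval (1 : F) P) • u := by
      intro P
      induction P using Polynomial.induction_on' with
      | add p q hp hq => rw [map_add, map_add, LinearMap.add_apply, hp, hq, add_smul]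
      | monomial n c =>
        rw [aeval_monomial, aeval_monomial, Module.End.mul_apply, Module.algebraMap_end_apply, one_pow, mul_one,
          Algebra.algebraMap_self_apply]
        congr 1
        induction n with
        | zero => rfl
        | succ n ih =>
          rw [pow_succ, Module.End.mul_apply]
          have : (a : Module.End F M) u = u := hu
          rw [this, ih]
    have h3 := h2 (minpoly F (a : Module.End F M))
    rw [minpoly.aeval, LinearMap.zero_apply] at h3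
    have h4 := (smul_eq_zero.1 h3.symm).resolve_right hu0
    have h5 := congrArg (algebraMap F (AlgebraicClosure F)) h4
    rw [map_zero, ← aeval_algebraMap_apply, map_one] at h5
    exact h5
  rw [hR] at h1
  obtain ⟨c, -, hc1⟩ := h1
  have hc2 : x ^ (c : ZMod q).val = 1 := hc1
  have h6 := orderOf_dvd_of_pow_eq_one hc2
  rw [orderOf_eq_prime hxq hx1] at h6
  have h7 := Nat.eq_zero_of_dvd_of_lt h6 (ZMod.val_lt _)
  exact c.ne_zero ((ZMod.val_eq_zero _).1 h7)

theorem Hyp.comm (h : Hyp B q d) {a : M ≃ₗ[F] M} (ha : ∀ u v, B (a u) (a v) = B u v) (hq : orderOf a = q)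
    (z z' : M ≃ₗ[F] M) (hz : z * a = a * z) (hz' : z' * a = a * z') : z * z' = z' * z := by
  obtain ⟨w, hw, hc⟩ := h.exists_w
  obtain ⟨x, hx, hx1, hxq, hR, hdeg⟩ := h.orbit (K := AlgebraicClosure F) ha hq hw hc
  obtain ⟨e⟩ := H954.FieldSub.exists_equiv_quot (a : Module.End F M) hdeg
  let A : Module.End F M := a
  have hlin : ∀ z : M ≃ₗ[F] M, z * a = a * z → ∃ f : Module.AEval' A →ₗ[F[X]] Module.AEval' A,
      ∀ v, f (Module.AEval'.of A v) = Module.AEval'.of A (z v) := by
    intro z hz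
    let g : Module.AEval' A →ₗ[F] Module.AEval' A :=
      (Module.AEval'.of A).toLinearMap ∘ₗ (z : M →ₗ[F] M) ∘ₗ (Module.AEval'.of A).symm.toLinearMap
    have hg : ∀ m : Module.AEval' A, g ((X : F[X]) • m) = (X : F[X]) • g m := by
      intro m
      obtain ⟨v, rfl⟩ := (Module.AEval'.of A).surjective m
      have e1 : g ((X : F[X]) • Module.AEval'.of A v) = Module.AEval'.of A (z (A v)) := by
        rw [Module.AEval'.X_smul_of]
        show Module.AEval'.of A (z ((Module.AEval'.of A).symm (Module.AEval'.of A (A v)))) = _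
        rw [LinearEquiv.symm_apply_apply]
      have e2 : (X : F[X]) • g (Module.AEval'.of A v) = Module.AEval'.of A (A (z v)) := by
        show (X : F[X]) • (Module.AEval'.of A (z ((Module.AEval'.of A).symm (Module.AEval'.of A v)))) = _
        rw [LinearEquiv.symm_apply_apply, Module.AEval'.X_smul_of]
      rw [e1, e2]
      congr 1
      exact congrArg (fun f : M ≃ₗ[F] M => f v) hz
    refine ⟨⟨⟨g, g.map_add⟩, fun P m => ?_⟩, fun v => ?_⟩
    · show g (P • m) = P • g m
      induction P using Polynomial.induction_on' with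
      | add p q hp hq => rw [add_smul, add_smul, map_add, hp, hq]
      | monomial n c =>
        rw [← C_mul_X_pow_eq_monomial, mul_smul, mul_smul]
        have h1 : ∀ n : ℕ, g ((X : F[X]) ^ n • m) = (X : F[X]) ^ n • g m := by
          intro n
          induction n with
          | zero => rw [pow_zero, one_smul, one_smul]
          | succ n ih => rw [pow_succ', mul_smul, mul_smul, hg, ih]
        have h2 : ∀ m : Module.AEval' A, (C c : F[X]) • m = c • m := fun m => by
          rw [Module.AEval.C_smul]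
        rw [h2, h2, map_smul, h1]
    · show Module.AEval'.of A (z ((Module.AEval'.of A).symm (Module.AEval'.of A v))) = _
      rw [LinearEquiv.symm_apply_apply]
  obtain ⟨f, hf⟩ := hlin z hz
  obtain ⟨f', hf'⟩ := hlin z' hz'
  have hcomm : ∀ f f' : (F[X] ⧸ Ideal.span {minpoly F A}) →ₗ[F[X]] (F[X] ⧸ Ideal.span {minpoly F A}), ∀ m,
      f (f' m) = f' (f m) := by
    intro f f' m
    obtain ⟨P, rfl⟩ := Ideal.Quotient.mk_surjective m
    have e0 : ∀ P : F[X], (Ideal.Quotient.mk (Ideal.span {minpoly F A}) P) =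
        P • (Ideal.Quotient.mk (Ideal.span {minpoly F A}) 1) := by
      intro P
      rw [← mul_one P, map_mul, mul_one]
      rfl
    obtain ⟨Q, hQ⟩ := Ideal.Quotient.mk_surjective (f (Ideal.Quotient.mk (Ideal.span {minpoly F A}) 1))
    obtain ⟨Q', hQ'⟩ := Ideal.Quotient.mk_surjective (f' (Ideal.Quotient.mk (Ideal.span {minpoly F A}) 1))
    rw [e0] at hQ hQ'
    rw [e0 P]
    have l1 : ∀ S : F[X], f (S • Ideal.Quotient.mk (Ideal.span {minpoly F A}) 1) =
        (S * Q) • Ideal.Quotient.mk (Ideal.span {minpoly F A}) 1 := fun S => by rw [map_smul, ← hQ, smul_smul]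
    have l2 : ∀ S : F[X], f' (S • Ideal.Quotient.mk (Ideal.span {minpoly F A}) 1) =
        (S * Q') • Ideal.Quotient.mk (Ideal.span {minpoly F A}) 1 := fun S => by rw [map_smul, ← hQ', smul_smul]
    rw [l1, l2, l1, l2, mul_assoc, mul_assoc, mul_comm Q Q']
  refine LinearEquiv.ext fun v => (Module.AEval'.of A).injective ?_
  show Module.AEval'.of A (z (z' v)) = Module.AEval'.of A (z' (z v))
  rw [← hf, ← hf', ← hf', ← hf]
  have h1 := hcomm (e.symm.toLinearMap ∘ₗ f ∘ₗ e.toLinearMap) (e.symm.toLinearMap ∘ₗ f' ∘ₗ e.toLinearMap)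
    (e.symm (Module.AEval'.of A v))
  simp only [LinearMap.comp_apply, LinearEquiv.coe_coe, LinearEquiv.apply_symm_apply] at h1
  exact e.symm.injective h1

theorem ni_of_coprime {N : Type*} [AddCommGroup N] [Module F N] {a : M ≃ₗ[F] M} {b : N ≃ₗ[F] N}
    {P Q : F[X]} (hP : aeval (a : Module.End F M) P = 0) (hQ : aeval (b : Module.End F N) Q = 0) (h : IsCoprime P Q) :
    NI a b := by
  intro γ hγ
  have h1 : ∀ (S : F[X]) (u : M), γ (aeval (a : Module.End F M) S u) = aeval (b : Module.End F N) S (γ u) := by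
    intro S u
    induction S using Polynomial.induction_on' with
    | add p q hp hq => rw [map_add, map_add, LinearMap.add_apply, LinearMap.add_apply, map_add, hp, hq]
    | monomial n c =>
      rw [aeval_monomial, aeval_monomial, Module.End.mul_apply, Module.End.mul_apply, Module.algebraMap_end_apply,
        Module.algebraMap_end_apply, map_smul]
      congr 1
      induction n generalizing u with
      | zero => rfl
      | succ n ih =>
        rw [pow_succ, pow_succ, Module.End.mul_apply, Module.End.mul_apply, ih]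
        congr 1
        exact hγ u
  obtain ⟨U, V, hUV⟩ := h
  refine LinearMap.ext fun u => ?_
  have h2 : u = aeval (a : Module.End F M) (U * P + V * Q) u := by rw [hUV, map_one]; rfl
  have h3 : γ u = aeval (b : Module.End F N) (U * P + V * Q) (γ u) := by
    conv_lhs => rw [h2]
    rw [h1]
  have h4 : aeval (b : Module.End F N) (V * Q) (γ u) = 0 := by
    rw [map_mul, hQ, mul_zero, LinearMap.zero_apply]
  have h5 : aeval (b : Module.End F N) (U * P) (γ u) = 0 := by
    rw [← h1, map_mul, hP, mul_zero, LinearMap.zero_apply, map_zero]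
  rw [h3, map_add, LinearMap.add_apply, h4, h5, add_zero, LinearMap.zero_apply]

theorem Hyp.exists_pow (h : Hyp B q d) (hd : 2 * d + 1 < q) {a : M ≃ₗ[F] M} (ha : ∀ u v, B (a u) (a v) = B u v)
    (hq : orderOf a = q) : ∃ j : ℕ, orderOf (a ^ j) = q ∧ NI a (a ^ j) ∧ NI (a ^ j) a := by
  obtain ⟨w, hw, hc⟩ := h.exists_w
  obtain ⟨x, hx, hx1, hxq, hR, hdeg⟩ := h.orbit (K := AlgebraicClosure F) ha hq hw hc
  -- a unit outside
  obtain ⟨c, hcH⟩ : ∃ c : (ZMod q)ˣ, c ∉ HH w := by
    by_contra! hall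
    have h1 : HH w = ⊤ := (Subgroup.eq_top_iff' _).2 hall
    rw [h1, Subgroup.card_top, Nat.card_eq_fintype_card, ZMod.card_units] at hc
    omega
  have hcop : Nat.Coprime q (c : ZMod q).val := (ZMod.val_coe_unit_coprime c).symm
  have hpow : ∀ u v, B ((a ^ (c : ZMod q).val) u) ((a ^ (c : ZMod q).val) v) = B u v := by
    have : ∀ n : ℕ, ∀ u v, B ((a ^ n) u) ((a ^ n) v) = B u v := by
      intro n
      induction n with
      | zero => intro u v; rfl
      | succ n ih => intro u v; rw [pow_succ]; exact (ih _ _).trans (ha _ _)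
    exact this _
  have hord : orderOf (a ^ (c : ZMod q).val) = q := by
    have h1 : ∀ n : ℕ, Nat.Coprime q n → orderOf (a ^ n) = q := by
      intro n hn
      have h2 : Nat.Coprime (orderOf a) n := by rw [hq]; exact hn
      rw [h2.orderOf_pow, hq]
    exact h1 _ hcop
  obtain ⟨y, hy, hy1, hyq, hR', -⟩ := h.orbit (K := AlgebraicClosure F) hpow hord hw hc
  have hcop' : IsCoprime (minpoly F (a : Module.End F M)) (minpoly F ((a ^ (c : ZMod q).val : M ≃ₗ[F] M) : Module.End F M)) := by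
    rw [isCoprime_iff_aeval_ne_zero_of_isAlgClosed F (AlgebraicClosure F)]
    intro z
    by_contra! hz
    obtain ⟨hz1, hz2⟩ := hz
    rw [← mem_R] at hz1 hz2
    have hx' : x ^ (c : ZMod q).val ∈ R (AlgebraicClosure F) ((a ^ (c : ZMod q).val : M ≃ₗ[F] M) : Module.End F M) := by
      rw [toEnd_pow]
      exact pow_mem_R _ hx _
    rw [hR] at hz1
    rw [hR'] at hz2 hx'
    obtain ⟨c1, h1, e1⟩ := hz1
    obtain ⟨c2, h2, e2⟩ := hz2
    obtain ⟨c3, h3, e3⟩ := hx'
    have e1' : x ^ (c1 : ZMod q).val = z := e1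
    have e2' : y ^ (c2 : ZMod q).val = z := e2
    have e3' : y ^ (c3 : ZMod q).val = x ^ (c : ZMod q).val := e3
    -- y = x ^ (c * c3⁻¹)
    have e4 : x ^ ((c * c3⁻¹ : (ZMod q)ˣ) : ZMod q).val = y := by
      rw [Units.val_mul, pow_val_mul _ hxq, ← e3', ← pow_val_mul _ hyq, Units.mul_inv]
      have : Fact (1 < q) := ⟨h.prime.one_lt⟩
      rw [ZMod.val_one, pow_one]
    have e5 : x ^ ((c * c3⁻¹ * c2 : (ZMod q)ˣ) : ZMod q).val = x ^ (c1 : ZMod q).val := by
      rw [Units.val_mul, pow_val_mul _ hxq, e4, e2', e1']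
    have e6 := injOn (K := AlgebraicClosure F) hxq hx1 e5
    have e7 : c = c1 * c2⁻¹ * c3 := by rw [← e6]; group
    apply hcH
    rw [e7]
    exact (HH w).mul_mem ((HH w).mul_mem h1 ((HH w).inv_mem h2)) h3
  exact ⟨_, hord, ni_of_coprime (minpoly.aeval _ _) (minpoly.aeval _ _) hcop',
    ni_of_coprime (minpoly.aeval _ _) (minpoly.aeval _ _) hcop'.symm⟩

end Final

end Eig

end Cfsg.Agent.H17.CR
end

-- part: H17/CR/Fam
section
/-!
# Families of classical groups: the row in cross characteristic (helper17)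

`Fam F` : even spaces `E n ε`, spaces `T n ε`, the exponents of their groups and the decompositions;
`Fam.row` : `Cond π` implies an abelian subgroup of index prime to `π`.
-/

set_option autoImplicit false
set_option linter.unusedSectionVars false

open Cfsg
open Cfsg.Agent.H749 (Iso)
open Cfsg.Agent.H630.NH

namespace Cfsg.Agent.H17.CR

/-- odd primes different from the characteristic -/
structure Good (F : Type) [Field F] (p : ℕ) : Prop where
  prime : p.Prime
  ne_two : p ≠ 2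
  ne_zero : (p : F) ≠ 0

section Num

variable (F : Type) [Field F] [Fintype F]

/-- the order of `|F| ^ 2` modulo `p` -/
noncomputable def dd (p : ℕ) : ℕ := orderOf ((Fintype.card F : ZMod p) ^ 2)

/-- the exponent of `p` in `|F| ^ (2 d) - 1` -/
noncomputable def vv (p : ℕ) : ℕ := H749.vp p (((Fintype.card F : ℤ) ^ 2) ^ dd F p - 1)

open Classical in
/-- the number of atoms -/
noncomputable def NN (b : Prop) (d : ℕ) (s : ℤ) (n : ℕ) (ε : ℤ) : ℕ := if b ∧ d ∣ n ∧ s ^ (n / d) ≠ ε then n / d - 1 else n / d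

theorem dd_eq (p : ℕ) : orderOf ((((Fintype.card F : ℤ) ^ 2 : ℤ)) : ZMod p) = dd F p := by
  rw [dd]
  push_cast
  rfl

variable {F}

theorem Good.not_dvd {p : ℕ} (h : Good F p) : ¬ p ∣ Fintype.card F := by
  intro h1
  obtain ⟨r, hr⟩ := CharP.exists F
  obtain ⟨n, hpp, hn⟩ := FiniteField.card F r
  rw [hn] at h1
  have h2 := (Nat.prime_dvd_prime_iff_eq h.prime hpp).1 (h.prime.dvd_of_dvd_pow h1)
  apply h.ne_zero
  rw [h2]
  exact CharP.cast_eq_zero F r

theorem Good.exists_w {p : ℕ} (h : Good F p) [Fact p.Prime] :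
    ∃ w : (ZMod p)ˣ, (w : ZMod p) = Fintype.card F ∧ Nat.card (Eig.HH w) = 2 * dd F p := by
  have hq : (Fintype.card F : ZMod p) ≠ 0 := by
    intro h1
    rw [ZMod.natCast_eq_zero_iff] at h1
    exact h.not_dvd h1
  refine ⟨Units.mk0 _ hq, rfl, Eig.card_HH h.ne_two _ ?_⟩
  rw [dd, ← orderOf_units, Units.val_pow_eq_pow_val, Units.val_mk0]

theorem Good.dd_pos {p : ℕ} (h : Good F p) : 0 < dd F p := by
  have := Fact.mk h.prime
  obtain ⟨w, -, hw⟩ := h.exists_w
  have : 0 < Nat.card (Eig.HH w) := Nat.card_pos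
  omega

theorem Good.two_dd {p : ℕ} (h : Good F p) : 2 * dd F p + 1 ≤ p := by
  have := Fact.mk h.prime
  obtain ⟨w, -, hw⟩ := h.exists_w
  have h1 : Nat.card (Eig.HH w) ≤ Nat.card (ZMod p)ˣ := Nat.le_of_dvd Nat.card_pos (Subgroup.card_subgroup_dvd_card _)
  rw [Nat.card_eq_fintype_card (α := (ZMod p)ˣ), ZMod.card_units, hw] at h1
  have := h.prime.one_lt
  omega

theorem one_lt_card : 1 < Fintype.card F := Fintype.one_lt_card

theorem Good.vv_pos {p : ℕ} (h : Good F p) : 0 < vv F p := by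
  have := Fact.mk h.prime
  unfold vv
  refine H749.vp_pos (sub_ne_zero.2 ?_) ((H749.dvd_pow_sub_one_iff _).2 (dd_eq F p).dvd)
  rw [← pow_mul]
  have h1 : 1 < Fintype.card F := one_lt_card
  have h2 := Nat.one_lt_pow (n := 2 * dd F p) (by have := h.dd_pos; omega) h1
  intro h3
  have h4 : (Fintype.card F) ^ (2 * dd F p) = 1 := by exact_mod_cast h3
  omega

theorem NN_self {b : Prop} {d : ℕ} (hd : 0 < d) (s : ℤ) (k : ℕ) : NN b d s (k * d) (s ^ k) = k := by
  unfold NN
  rw [Nat.mul_div_cancel _ hd, if_neg (fun h => h.2.2 rfl)]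

theorem NN_one {b : Prop} {d : ℕ} (hd : 0 < d) (s : ℤ) : NN b d s d s = 1 := by
  have h := NN_self (b := b) hd s 1
  rwa [one_mul, pow_one] at h

theorem NN_lt {b : Prop} {d n : ℕ} (h : n < d) (s ε : ℤ) : NN b d s n ε = 0 := by
  unfold NN
  rw [Nat.div_eq_of_lt h]
  split_ifs <;> rfl

theorem NN_ne {b : Prop} (hb : b) {d : ℕ} (hd : 0 < d) {s ε : ℤ} (h : s ≠ ε) : NN b d s d ε = 0 := by
  unfold NN
  rw [Nat.div_self hd, pow_one, if_pos ⟨hb, dvd_refl d, h⟩]

theorem NN_le {b : Prop} {d n : ℕ} (s ε : ℤ) : NN b d s n ε ≤ n / d := by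
  unfold NN
  split_ifs
  · exact Nat.sub_le _ _
  · exact le_refl _

theorem NN_mul_le {b : Prop} {d n : ℕ} (s ε : ℤ) {k : ℕ} (hk : k ≤ NN b d s n ε) : k * d ≤ n :=
  (Nat.mul_le_mul_right d (hk.trans (NN_le s ε))).trans (Nat.div_mul_le_self n d)

theorem pm_mul {s t : ℤ} (hs : s = 1 ∨ s = -1) (ht : t = 1 ∨ t = -1) : s * t = 1 ∨ s * t = -1 := by
  rcases hs with rfl | rfl <;> rcases ht with rfl | rfl <;> simp

theorem pm_pow {s : ℤ} (hs : s = 1 ∨ s = -1) (n : ℕ) : s ^ n = 1 ∨ s ^ n = -1 := by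
  induction n with
  | zero => left; exact pow_zero s
  | succ n ih => rw [pow_succ]; exact pm_mul ih hs

theorem pm_sq {s : ℤ} (hs : s = 1 ∨ s = -1) : s * s = 1 := by rcases hs with rfl | rfl <;> norm_num

theorem NN_sub {b : Prop} {d n : ℕ} {s ε : ℤ} (hs : s = 1 ∨ s = -1) {k : ℕ}
    (hk : k ≤ NN b d s n ε) : NN b d s (n - k * d) (ε * s ^ k) = NN b d s n ε - k := by
  have h1 := NN_mul_le s ε hk
  have h2 : (n - k * d) / d = n / d - k := by
    rw [mul_comm, Nat.sub_mul_div]
  have h3 : d ∣ n - k * d ↔ d ∣ n := by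
    constructor
    · intro h
      have := dvd_add h (Dvd.intro_left k rfl)
      rwa [Nat.sub_add_cancel h1] at this
    · intro h
      exact Nat.dvd_sub h (Dvd.intro_left k rfl)
  have h4 : k ≤ n / d := hk.trans (NN_le s ε)
  have h5 : s ^ (n / d - k) = ε * s ^ k ↔ s ^ (n / d) = ε := by
    obtain ⟨m, hm⟩ := Nat.exists_eq_add_of_le h4
    rw [hm, Nat.add_sub_cancel_left, pow_add]
    have h6 := pm_sq (pm_pow hs k)
    constructor
    · intro h
      rw [h]
      linear_combination ε * h6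
    · intro h
      rw [← h]
      linear_combination (-s ^ m) * h6
  unfold NN
  rw [h2]
  by_cases hc : b ∧ d ∣ n ∧ s ^ (n / d) ≠ ε
  · rw [if_pos hc, if_pos ⟨hc.1, h3.2 hc.2.1, fun h => hc.2.2 (h5.1 h)⟩]
    omega
  · rw [if_neg hc, if_neg (fun h => hc ⟨h.1, h3.1 h.2.1, fun h' => h.2.2 (h5.2 h')⟩)]

end Num

/-- families of classical groups -/
structure Fam (F : Type) [Field F] [Fintype F] where
  bE : Prop
  bT : Prop
  /-- signs of the atoms -/
  s : ℕ → ℤ
  E : ℕ → ℤ → Spc F → Prop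
  T : ℕ → ℤ → Spc F → Prop
  sgn : ∀ {p : ℕ}, Good F p → s p = 1 ∨ s p = -1
  /-- mixed signs occur only for sign-sensitive atoms -/
  sens : ∀ {p q : ℕ}, s p ≠ s q → bE
  signT : ∀ {n : ℕ} {ε : ℤ} {X : Spc F}, T n ε X → ε = 1 ∨ ε = -1
  zeroT : bT → ∀ {ε : ℤ} {X : Spc F}, T 0 ε X → ε = 1
  bET : bT → bE
  toE : bT → ∀ {n : ℕ} {ε : ℤ} {X : Spc F}, T n ε X → E n ε X
  existsE : ∀ {n : ℕ}, 1 ≤ n → ∀ {ε : ℤ}, ε = 1 ∨ ε = -1 → ∃ U, E n ε U
  zeroE : ∃ U, E 0 1 U ∧ Subsingleton U.V
  isoE : ∀ {n : ℕ} {ε : ℤ} {U U' : Spc F}, E n ε U → E n ε U' → Nonempty (U.G ≃* U'.G)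
  addE : ∀ {n m : ℕ} {ε ε' : ℤ} {U M : Spc F}, E n ε U → E m ε' M → E (n + m) (ε * ε') (U.prod M)
  hypE : ∀ {n : ℕ} {ε : ℤ} {U : Spc F}, E n ε U → ∃ B : U.V → U.V → F, Eig.Bil B ∧
    (∀ g : U.G, ∀ u v, B (g.1 u) (g.1 v) = B u v) ∧ Module.finrank F U.V = 2 * n
  evE : ∀ {n : ℕ} {ε : ℤ} {U : Spc F}, E n ε U → ∀ {p : ℕ}, Good F p →
    ev p U.G = nu p (vv F p) (NN bE (dd F p) (s p) n ε)
  evT : ∀ {n : ℕ} {ε : ℤ} {X : Spc F}, T n ε X → ∀ {p : ℕ}, Good F p →
    ev p X.G = nu p (vv F p) (NN bT (dd F p) (s p) n ε)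
  splitT : ∀ {n : ℕ} {ε : ℤ} {X : Spc F}, T n ε X → ∀ {m : ℕ} {ε' : ℤ}, m ≤ n → (ε' = 1 ∨ ε' = -1) →
    (bT → m = n → ε' = ε) → ∃ X', T (n - m) (ε * ε') X' ∧ ∀ U, E m ε' U → Nonempty (X.G ≃* (U.prod X').G)

namespace Fam

variable {F : Type} [Field F] [Fintype F] (Φ : Fam F)

include Φ

theorem hyp {n : ℕ} {ε : ℤ} {U : Spc F} (h : Φ.E n ε U) {p : ℕ} (hp : Good F p) (hd : dd F p = n) :
    ∃ B : U.V → U.V → F, Eig.Hyp B p n ∧ ∀ g : U.G, ∀ u v, B (g.1 u) (g.1 v) = B u v := by
  obtain ⟨B, hB, hg, hr⟩ := Φ.hypE h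
  exact ⟨B, ⟨hp.prime, hp.ne_two, hp.ne_zero, hB, hd, hr⟩, hg⟩

theorem fix {n : ℕ} {ε : ℤ} {U : Spc F} (h : Φ.E n ε U) {p : ℕ} (hp : Good F p) (hd : dd F p = n) (a : U.G)
    (ha : orderOf a = p) (u : U.V) (hu : a.1 u = u) : u = 0 := by
  have := Fact.mk hp.prime
  have : FiniteDimensional F U.V := Module.Finite.of_finite
  obtain ⟨B, hB, hg⟩ := Φ.hyp h hp hd
  exact hB.fix (hg a) (by rw [Subgroup.orderOf_coe, ha]) u hu

theorem comm {n : ℕ} {ε : ℤ} {U : Spc F} (h : Φ.E n ε U) {p : ℕ} (hp : Good F p) (hd : dd F p = n) (a : U.G)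
    (ha : orderOf a = p) (z z' : U.G) (hz : z * a = a * z) (hz' : z' * a = a * z') : z * z' = z' * z := by
  have := Fact.mk hp.prime
  have : FiniteDimensional F U.V := Module.Finite.of_finite
  obtain ⟨B, hB, hg⟩ := Φ.hyp h hp hd
  exact Subtype.ext (hB.comm (hg a) (by rw [Subgroup.orderOf_coe, ha]) z.1 z'.1 (congrArg Subtype.val hz)
    (congrArg Subtype.val hz'))

theorem two {n : ℕ} {ε : ℤ} {U : Spc F} (h : Φ.E n ε U) {p : ℕ} (hp : Good F p) (hd : dd F p = n)
    (hlt : 2 * n + 1 < p) (a : U.G) (ha : orderOf a = p) :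
    ∃ j : ℕ, orderOf (a ^ j) = p ∧ NI a.1 (a ^ j).1 ∧ NI (a ^ j).1 a.1 := by
  have := Fact.mk hp.prime
  have : FiniteDimensional F U.V := Module.Finite.of_finite
  obtain ⟨B, hB, hg⟩ := Φ.hyp h hp hd
  obtain ⟨j, h1, h2, h3⟩ := hB.exists_pow hlt (hg a) (by rw [Subgroup.orderOf_coe, ha])
  refine ⟨j, ?_, ?_, ?_⟩
  · rw [← Subgroup.orderOf_coe, Subgroup.coe_pow]
    exact h1
  · rw [Subgroup.coe_pow]
    exact h2
  · rw [Subgroup.coe_pow]
    exact h3

/-- the system of the atoms of one dimension and sign -/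
noncomputable def sys {π : Set ℕ} {d : ℕ} {σ : ℤ} (hd : 0 < d) (hσ : σ = 1 ∨ σ = -1) (hπ : ∀ p ∈ π, Good F p)
    (hdd : ∀ p ∈ π, dd F p = d) (hs : ∀ p ∈ π, Φ.s p = σ) : Sys F π d (vv F) (ℕ × ℤ) where
  HU k U := Φ.E (k * d) (σ ^ k) U
  zero := by
    obtain ⟨U, hU, h1⟩ := Φ.zeroE
    exact ⟨U, by rw [zero_mul, pow_zero]; exact hU, h1⟩
  one := by
    obtain ⟨U, hU⟩ := Φ.existsE (n := d) hd hσ
    exact ⟨U, by rw [one_mul, pow_one]; exact hU⟩
  add := by
    intro k l U M hU hM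
    rw [add_mul, pow_add]
    exact Φ.addE hU hM
  iso := fun h h' => Φ.isoE h h'
  evU := by
    intro k U hU p hp
    rw [Φ.evE hU (hπ p hp), hdd p hp, hs p hp, NN_self hd]
  fix := by
    intro M hM p hp a ha u hu
    rw [one_mul] at hM
    exact Φ.fix hM (hπ p hp) (hdd p hp) a ha u hu
  comm := by
    intro M hM p hp a ha z z' hz hz'
    rw [one_mul] at hM
    exact Φ.comm hM (hπ p hp) (hdd p hp) a ha z z' hz hz'
  two := by
    intro M hM p hp hlt a ha
    rw [one_mul] at hM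
    exact Φ.two hM (hπ p hp) (hdd p hp) hlt a ha
  HX t X := Φ.T t.1 t.2 X
  N t := NN Φ.bT d σ t.1 t.2
  evX := by
    intro t X hX p hp
    rw [Φ.evT hX (hπ p hp), hdd p hp, hs p hp]
  split := by
    intro t X hX k hk
    have h1 := NN_mul_le σ t.2 hk
    obtain ⟨X', hX', h2⟩ := Φ.splitT hX (m := k * d) (ε' := σ ^ k) h1 (pm_pow hσ k) (fun hb hm => by
      by_contra hne
      have h3 : t.1 / d = k := by rw [← hm, Nat.mul_div_cancel _ hd]
      rw [NN, if_pos ⟨hb, Dvd.intro_left k hm, by rw [h3]; exact hne⟩, h3] at hk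
      have h4 : k = 0 := by omega
      rw [h4, zero_mul] at hm
      rw [h4, pow_zero] at hne
      rw [← hm] at hX
      exact hne (Φ.zeroT hb hX).symm)
    exact ⟨(t.1 - k * d, t.2 * σ ^ k), X', hX', NN_sub hσ hk, h2⟩

/-- the case of equal dimensions and signs -/
theorem row_same {π : Set ℕ} {d : ℕ} {σ : ℤ} (hd : 0 < d) (hσ : σ = 1 ∨ σ = -1) (hπ : ∀ p ∈ π, Good F p)
    (hdd : ∀ p ∈ π, dd F p = d) (hs : ∀ p ∈ π, Φ.s p = σ) (hnt : π.Nontrivial) {n : ℕ} {ε : ℤ} {X : Spc F}
    (hX : Φ.T n ε X) (hdv : ∀ p ∈ π, p ∣ Nat.card X.G) (hc : Cond π X.G) : PT π X.G := by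
  have h1 : ∀ p ∈ π, p.Prime := fun p hp => (hπ p hp).prime
  refine (Φ.sys hd hσ hπ hdd hs).main h1 hnt (fun p hp => ?_) (fun p hp => (hπ p hp).vv_pos) (t := (n, ε)) hX ?_ hc
  · have := (hπ p hp).two_dd
    rwa [hdd p hp] at this
  · obtain ⟨p, hp⟩ := hnt.nonempty
    show 1 ≤ NN Φ.bT d σ n ε
    by_contra h
    have h2 : NN Φ.bT d σ n ε = 0 := by omega
    have h3 := Φ.evT hX (hπ p hp)
    rw [hdd p hp, hs p hp, h2, nu_zero] at h3
    exact not_dvd_of_ev (h1 p hp) h3 (hdv p hp)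

/-- an element of order `p` of an atom -/
theorem exists_elt {p : ℕ} (hp : Good F p) {U : Spc F} (hU : Φ.E (dd F p) (Φ.s p) U) : ∃ a : U.G, orderOf a = p := by
  have := Fact.mk hp.prime
  refine exists_prime_orderOf_dvd_card' p ?_
  by_contra h
  have h1 := ev_eq_zero h
  rw [Φ.evE hU hp, NN_one hp.dd_pos, nu_one] at h1
  exact hp.vv_pos.ne' h1

/-- different dimensions of the atoms -/
theorem pa {p q : ℕ} (hp : Good F p) (hq : Good F q) (hlt : dd F p < dd F q) (n : ℕ) :
    ∀ {ε : ℤ} {X : Spc F}, Φ.T n ε X → PA p q X.G := by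
  induction n using Nat.strong_induction_on with
  | _ n ih =>
    intro ε X hX
    by_cases hn : n < dd F q
    · refine PA.base hq.prime (not_dvd_of_ev hq.prime ?_)
      rw [Φ.evT hX hq, NN_lt hn, nu_zero]
    · obtain ⟨U, hU⟩ := Φ.existsE (n := dd F p) hp.dd_pos (Φ.sgn hp)
      obtain ⟨X', hX', h1⟩ := Φ.splitT hX (m := dd F p) (ε' := Φ.s p) (by omega) (Φ.sgn hp)
        (fun _ hm => by omega)
      obtain ⟨e⟩ := h1 U hU
      have h2 := ih (n - dd F p) (by have := hp.dd_pos; omega) hX'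
      obtain ⟨a, ha⟩ := Φ.exists_elt hp hU
      refine PA.congr (PA.step hq.prime a ⟨1, by rw [ha, pow_one]⟩ (Φ.fix hU hp rfl a ha) ?_ h2) e.symm
      refine not_dvd_of_ev hq.prime ?_
      rw [Φ.evE hU hq, NN_lt hlt, nu_zero]

theorem not_cond_of_dd {π : Set ℕ} (hπ : ∀ p ∈ π, Good F p) {n : ℕ} {ε : ℤ} {X : Spc F} (hX : Φ.T n ε X)
    (hdv : ∀ p ∈ π, p ∣ Nat.card X.G) {p q : ℕ} (hp : p ∈ π) (hq : q ∈ π) (hlt : dd F p < dd F q) : ¬ Cond π X.G :=
  PA.not_cond (hπ p hp).prime (hπ q hq).prime hp hq (fun h => by rw [h] at hlt; exact lt_irrefl _ hlt) (hdv q hq)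
    (Φ.pa (hπ p hp) (hπ q hq) hlt n hX)

/-- one `q`-atom -/
theorem not_cond_one {π : Set ℕ} (hπ : ∀ p ∈ π, Good F p) {d : ℕ} (hdd : ∀ p ∈ π, dd F p = d) {n : ℕ} {ε : ℤ}
    {X : Spc F} (hX : Φ.T n ε X) {p q : ℕ} (hp : p ∈ π) (hq : q ∈ π) (hs : Φ.s p ≠ Φ.s q) (hdn : d ≤ n)
    (h0 : Φ.bT → n = d → Φ.s q = ε) (hN : NN Φ.bT d (Φ.s p) (n - d) (ε * Φ.s q) < NN Φ.bT d (Φ.s p) n ε) :
    ¬ Cond π X.G := by
  intro hc
  have hqg := hπ q hq
  have hpg := hπ p hp
  have hd : 0 < d := by rw [← hdd p hp]; exact hpg.dd_pos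
  obtain ⟨U, hU⟩ := Φ.existsE (n := d) hd (Φ.sgn hqg)
  obtain ⟨X', hX', h1⟩ := Φ.splitT hX (m := d) (ε' := Φ.s q) hdn (Φ.sgn hqg) (fun hb hm => h0 hb hm.symm)
  obtain ⟨e⟩ := h1 U hU
  obtain ⟨a, ha⟩ := Φ.exists_elt hqg (U := U) (by rw [hdd q hq]; exact hU)
  have hfix := Φ.fix hU hqg (hdd q hq) a ha
  have n1 : NI a.1 (1 : X'.G).1 := NI.one_right hfix
  have n2 : NI (1 : X'.G).1 a.1 := NI.one_left hfix
  have e1 := ev_centralizer_le p n1 n2
  have e3 := ev_subgroup_le p (Subgroup.centralizer ({a} : Set U.G))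
  have e5 := ev_subgroup_le p (Subgroup.centralizer ({(1 : X'.G)} : Set X'.G))
  rw [Φ.evE hU hpg, hdd p hp, NN_ne (Φ.sens hs) hd hs, nu_zero] at e3
  rw [Φ.evT hX' hpg, hdd p hp] at e5
  have e6 : ev p (U.prod X').G = nu p (vv F p) (NN Φ.bT d (Φ.s p) n ε) := by
    rw [← ev_congr p e, Φ.evT hX hpg, hdd p hp]
  have e7 := nu_lt (p := p) hpg.vv_pos hN
  refine not_cond_of_ev hpg.prime hp hq (fun h => hs (by rw [h])) (emb U X' (a, 1)) ⟨1, ?_⟩ ?_ (hc.congr e)
  · rw [orderOf_injective (emb U X') emb_injective, Prod.orderOf, pow_one]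
    simp [ha]
  · rw [e6]
    omega

/-- two `q`-atoms -/
theorem not_cond_two {π : Set ℕ} (hπ : ∀ p ∈ π, Good F p) {d : ℕ} (hdd : ∀ p ∈ π, dd F p = d) {n : ℕ} {ε : ℤ}
    {X : Spc F} (hX : Φ.T n ε X) {p q : ℕ} (hp : p ∈ π) (hq : q ∈ π) (hs : Φ.s p ≠ Φ.s q) (hpq : p < q)
    (hdn : 2 * d < n) (hN : NN Φ.bT d (Φ.s p) (n - 2 * d) ε < NN Φ.bT d (Φ.s p) n ε) :
    ¬ Cond π X.G := by
  intro hc
  have hqg := hπ q hq
  have hpg := hπ p hp
  have hd : 0 < d := by rw [← hdd p hp]; exact hpg.dd_pos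
  have hp2 := hpg.two_dd
  rw [hdd p hp] at hp2
  have hss : Φ.s q * Φ.s q = 1 := pm_sq (Φ.sgn hqg)
  obtain ⟨M, hM⟩ := Φ.existsE (n := d) hd (Φ.sgn hqg)
  have hU := Φ.addE hM hM
  obtain ⟨X', hX', h1⟩ := Φ.splitT hX (m := d + d) (ε' := Φ.s q * Φ.s q) (by omega) (Or.inl hss) (fun hb hm => by omega)
  obtain ⟨e⟩ := h1 _ hU
  obtain ⟨a, ha⟩ := Φ.exists_elt hqg (U := M) (by rw [hdd q hq]; exact hM)
  obtain ⟨j, hj, h2, h3⟩ := Φ.two hM hqg (hdd q hq) (by omega) a ha
  have hfix := Φ.fix hM hqg (hdd q hq) a ha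
  have hfix' := Φ.fix hM hqg (hdd q hq) (a ^ j) hj
  set y : (M.prod M).G := emb M M (a, a ^ j) with hy
  have hyfix : ∀ u, y.1 u = u → u = 0 := by
    rintro ⟨u, w⟩ huw
    have h5 : a.1 u = u := congrArg Prod.fst huw
    have h6 : (a ^ j).1 w = w := congrArg Prod.snd huw
    exact Prod.ext (hfix u h5) (hfix' w h6)
  have n1 : NI y.1 (1 : X'.G).1 := NI.one_right hyfix
  have n2 : NI (1 : X'.G).1 y.1 := NI.one_left hyfix
  have e1 := ev_centralizer_le p n1 n2
  have e2 := ev_centralizer_le (X := M) (Y := M) (a := a) (b := a ^ j) p h2 h3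
  have e3 := ev_subgroup_le p (Subgroup.centralizer ({a} : Set M.G))
  have e4 := ev_subgroup_le p (Subgroup.centralizer ({a ^ j} : Set M.G))
  have e5 := ev_subgroup_le p (Subgroup.centralizer ({(1 : X'.G)} : Set X'.G))
  rw [Φ.evE hM hpg, hdd p hp, NN_ne (Φ.sens hs) hd hs, nu_zero] at e3 e4
  rw [Φ.evT hX' hpg, hdd p hp, hss, mul_one, ← two_mul] at e5
  have e6 : ev p ((M.prod M).prod X').G = nu p (vv F p) (NN Φ.bT d (Φ.s p) n ε) := by
    rw [← ev_congr p e, Φ.evT hX hpg, hdd p hp]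
  have e7 := nu_lt (p := p) hpg.vv_pos hN
  refine not_cond_of_ev hpg.prime hp hq hpq.ne (emb (M.prod M) X' (y, 1)) ?_ ?_ (hc.congr e)
  · have h5 : (emb (M.prod M) X' (y, 1)) ^ q = 1 := by
      rw [← map_pow, Prod.pow_mk, one_pow, hy, ← map_pow, Prod.pow_mk]
      have e8 : a ^ q = 1 := by rw [← ha, pow_orderOf_eq_one]
      have e9 : (a ^ j) ^ q = 1 := by
        conv_lhs => rw [← hj]
        exact pow_orderOf_eq_one _
      rw [e8, e9]
      have : emb M M (1, 1) = 1 := map_one _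
      rw [this]
      exact map_one _
    rcases (Nat.dvd_prime hqg.prime).1 (orderOf_dvd_of_pow_eq_one h5) with h6 | h6
    · exact ⟨0, by rw [h6, pow_zero]⟩
    · exact ⟨1, by rw [h6, pow_one]⟩
  · rw [e6]
    rw [← hy] at e2
    omega

/-- one block of two -/
theorem pt_block {π : Set ℕ} (hπ : ∀ p ∈ π, Good F p) {d : ℕ} (hdd : ∀ p ∈ π, dd F p = d)
    {X : Spc F} (hX : Φ.T (2 * d) (-1) X) (hb : Φ.bT) {p : ℕ} (hp : p ∈ π) (hc : Cond π X.G) :
    ∃ M X', Φ.E d (Φ.s p) M ∧ Φ.E d (-Φ.s p) X' ∧ Nonempty (X.G ≃* (M.prod X').G) ∧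
      (∀ r ∈ π, ev r (M.prod X').G = ev r M.G + ev r X'.G) ∧ ∀ M, Φ.E d (Φ.s p) M → PT π M.G := by
  have hpg := hπ p hp
  have hd : 0 < d := by rw [← hdd p hp]; exact hpg.dd_pos
  have hsp := Φ.sgn hpg
  obtain ⟨M, hM⟩ := Φ.existsE (n := d) hd hsp
  obtain ⟨X', hX', h1⟩ := Φ.splitT hX (m := d) (ε' := Φ.s p) (by omega) hsp (fun _ hm => by omega)
  have h2 : 2 * d - d = d := by omega
  rw [h2, neg_one_mul] at hX'
  have hv : ∀ M, Φ.E d (Φ.s p) M → ∀ r ∈ π, ev r (M.prod X').G = ev r M.G + ev r X'.G := by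
    intro M hM r hr
    obtain ⟨e⟩ := h1 M hM
    have hrg := hπ r hr
    rw [← ev_congr r e, Φ.evT hX hrg, Φ.evE hM hrg, Φ.evE (Φ.toE hb hX') hrg, hdd r hr]
    have h3 : NN Φ.bT d (Φ.s r) (2 * d) (-1) = 1 := by
      unfold NN
      rw [Nat.mul_div_cancel _ hd, if_pos ⟨hb, Dvd.intro_left 2 rfl, by
        rw [sq, pm_sq (Φ.sgn hrg)]; norm_num⟩]
    by_cases hs : Φ.s r = Φ.s p
    · have hne : Φ.s p ≠ -Φ.s p := by
        rcases hsp with h | h <;> rw [h] <;> norm_num
      rw [h3, hs, NN_one hd, NN_ne (Φ.bET hb) hd hne, nu_zero, add_zero]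
    · have h4 : Φ.s r = - Φ.s p := by
        rcases hsp with h | h <;> rcases Φ.sgn hrg with h' | h' <;> rw [h, h'] at hs ⊢
        · exact absurd rfl hs
        · norm_num
        · exact absurd rfl hs
      rw [h3, NN_ne (Φ.bET hb) hd hs, h4, NN_one hd, nu_zero, zero_add]
  refine ⟨M, X', hM, Φ.toE hb hX', h1 M hM, hv M hM, fun M hM => ?_⟩
  obtain ⟨e⟩ := h1 M hM
  refine PT.of_cond (fun p hp => (hπ p hp).prime) hp (hc.congr e) (hv M hM) ?_ (Φ.fix hM hpg (hdd p hp))
    (Φ.comm hM hpg (hdd p hp))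
  obtain ⟨a, ha⟩ := Φ.exists_elt hpg (U := M) (by rw [hdd p hp]; exact hM)
  rw [← ha]
  exact orderOf_dvd_natCard a

/-- two atoms of different signs -/
theorem pt_two {π : Set ℕ} (hπ : ∀ p ∈ π, Good F p) {d : ℕ} (hdd : ∀ p ∈ π, dd F p = d)
    {X : Spc F} (hX : Φ.T (2 * d) (-1) X) (hb : Φ.bT) {p q : ℕ} (hp : p ∈ π) (hq : q ∈ π) (hs : Φ.s p ≠ Φ.s q)
    (hc : Cond π X.G) : PT π X.G := by
  obtain ⟨M, X', hM, hX', ⟨e⟩, hv, hPT⟩ := Φ.pt_block hπ hdd hX hb hp hc
  obtain ⟨-, -, -, -, -, -, hPT'⟩ := Φ.pt_block hπ hdd hX hb hq hc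
  have h4 : - Φ.s p = Φ.s q := by
    rcases Φ.sgn (hπ p hp) with h | h <;> rcases Φ.sgn (hπ q hq) with h' | h' <;> rw [h, h'] at hs ⊢
    · exact absurd rfl hs
    · norm_num
    · exact absurd rfl hs
  rw [h4] at hX'
  exact PT.congr (PT.prod (fun p hp => (hπ p hp).prime) (hPT M hM) (hPT' X' hX') hv) e.symm

/-- **The row.** -/
theorem row {π : Set ℕ} (hπ : ∀ p ∈ π, Good F p) (hnt : π.Nontrivial) {n : ℕ} {ε : ℤ} {X : Spc F}
    (hX : Φ.T n ε X) (hdv : ∀ p ∈ π, p ∣ Nat.card X.G) (hc : Cond π X.G) : PT π X.G := by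
  obtain ⟨p₀, hp₀⟩ := hnt.nonempty
  -- equal dimensions
  have hdd : ∀ p ∈ π, dd F p = dd F p₀ := by
    intro p hp
    rcases lt_trichotomy (dd F p) (dd F p₀) with h | h | h
    · exact absurd hc (Φ.not_cond_of_dd hπ hX hdv hp hp₀ h)
    · exact h
    · exact absurd hc (Φ.not_cond_of_dd hπ hX hdv hp₀ hp h)
  obtain ⟨d, hd⟩ : ∃ d, d = dd F p₀ := ⟨_, rfl⟩
  rw [← hd] at hdd
  have hd0 : 0 < d := by rw [hd]; exact (hπ p₀ hp₀).dd_pos
  by_cases hs : ∀ p ∈ π, Φ.s p = Φ.s p₀
  · exact Φ.row_same hd0 (Φ.sgn (hπ p₀ hp₀)) hπ hdd hs hnt hX hdv hc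
  push Not at hs
  obtain ⟨p₁, hp₁, hs₁⟩ := hs
  -- every prime has a partner
  have hpart : ∀ p ∈ π, ∃ q ∈ π, Φ.s p ≠ Φ.s q := by
    intro p hp
    by_cases h : Φ.s p = Φ.s p₀
    · exact ⟨p₁, hp₁, by rw [h]; exact hs₁.symm⟩
    · exact ⟨p₀, hp₀, h⟩
  have hneg : ∀ p ∈ π, ∀ q ∈ π, Φ.s p ≠ Φ.s q → Φ.s q = - Φ.s p := by
    intro p hp q hq hpq
    rcases Φ.sgn (hπ p hp) with h | h <;> rcases Φ.sgn (hπ q hq) with h' | h' <;> rw [h, h'] at hpq ⊢
    · exact absurd rfl hpq
    · norm_num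
    · exact absurd rfl hpq
  -- the number of atoms is positive
  have hNN : ∀ p ∈ π, 1 ≤ NN Φ.bT d (Φ.s p) n ε := by
    intro p hp
    by_contra h
    have h2 : NN Φ.bT d (Φ.s p) n ε = 0 := by omega
    have h3 := Φ.evT hX (hπ p hp)
    rw [hdd p hp, h2, nu_zero] at h3
    exact not_dvd_of_ev (hπ p hp).prime h3 (hdv p hp)
  have hdn : d ≤ n := by
    have := NN_mul_le (Φ.s p₀) ε (hNN p₀ hp₀)
    rwa [one_mul] at this
  by_cases hb : Φ.bT ∧ d ∣ n
  swap
  · -- one atom
    exfalso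
    refine Φ.not_cond_one hπ hdd hX hp₀ hp₁ hs₁.symm hdn (fun h h' => absurd ⟨h, by rw [h']⟩ hb) ?_ hc
    have h1 : NN Φ.bT d (Φ.s p₀) n ε = n / d := if_neg fun h => hb ⟨h.1, h.2.1⟩
    have h2 : NN Φ.bT d (Φ.s p₀) (n - d) (ε * Φ.s p₁) = (n - d) / d := if_neg fun h => hb ⟨h.1, by
      have := dvd_add h.2.1 (dvd_refl d)
      rwa [Nat.sub_add_cancel hdn] at this⟩
    rw [h1, h2]
    have h3 : n / d = (n - d) / d + 1 := by
      rw [← Nat.add_div_right _ hd0, Nat.sub_add_cancel hdn]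
    omega
  obtain ⟨hbT, k, hk⟩ := hb
  subst hk
  have hkd : d * k / d = k := Nat.mul_div_cancel_left k hd0
  have hk1 : 1 ≤ k := by
    rcases Nat.eq_zero_or_pos k with h | h
    · rw [h] at hdn
      omega
    · exact h
  -- the sign of `X` is not `s ^ k`
  have hne : ∀ p ∈ π, Φ.s p ^ k ≠ ε := by
    intro p hp heq
    obtain ⟨q, hq, hpq⟩ := hpart p hp
    have hq' := hneg p hp q hq hpq
    have h1 : NN Φ.bT d (Φ.s p) (d * k) ε = k := by
      unfold NN
      rw [hkd, if_neg (fun h => h.2.2 heq)]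
    refine Φ.not_cond_one hπ hdd hX hp hq hpq hdn (fun _ h => ?_) ?_ hc
    · -- `k = 1`: then `q` does not divide the order
      exfalso
      have hk1' : k = 1 := by
        have : d * k = d * 1 := by omega
        exact Nat.eq_of_mul_eq_mul_left hd0 this
      have h2 := hNN q hq
      rw [hk1', mul_one, NN_ne hbT hd0] at h2
      · omega
      · rw [← heq, hk1', pow_one]
        exact hpq.symm
    · have h3 : (d * k - d) / d = k - 1 := by
        rw [← Nat.mul_sub_one, Nat.mul_div_cancel_left _ hd0]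
      have h4 : NN Φ.bT d (Φ.s p) (d * k - d) (ε * Φ.s q) ≤ k - 1 := by
        have := NN_le (b := Φ.bT) (d := d) (n := d * k - d) (Φ.s p) (ε * Φ.s q)
        rwa [h3] at this
      rw [h1]
      omega
  -- two primes with different signs, `p < q`
  obtain ⟨p, hp, q, hq, hpq, hlt⟩ : ∃ p ∈ π, ∃ q ∈ π, Φ.s p ≠ Φ.s q ∧ p < q := by
    rcases lt_trichotomy p₀ p₁ with h | h | h
    · exact ⟨p₀, hp₀, p₁, hp₁, hs₁.symm, h⟩
    · exact absurd (by rw [h]) hs₁
    · exact ⟨p₁, hp₁, p₀, hp₀, hs₁, h⟩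
  have hε : ε = -1 := by
    rcases Φ.signT hX with h | h
    · exfalso
      rcases Φ.sgn (hπ p hp) with h' | h'
      · exact hne p hp (by rw [h', one_pow, h])
      · refine hne q hq ?_
        rw [hneg p hp q hq hpq, h', neg_neg, one_pow, h]
    · exact h
  have hev : Even k := by
    rw [← Nat.not_odd_iff_even]
    intro hodd
    rcases Φ.sgn (hπ p hp) with h' | h'
    · refine hne q hq ?_
      rw [hneg p hp q hq hpq, h', hodd.neg_one_pow, hε]
    · exact hne p hp (by rw [h', hodd.neg_one_pow, hε])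
  rcases Nat.lt_or_ge 2 k with hk2 | hk2
  · exfalso
    refine Φ.not_cond_two hπ hdd hX hp hq hpq hlt ?_ ?_ hc
    · rw [mul_comm]
      exact Nat.mul_lt_mul_of_pos_left hk2 hd0
    · have h1 : NN Φ.bT d (Φ.s p) (d * k) ε = k - 1 := by
        unfold NN
        rw [hkd, if_pos ⟨hbT, Dvd.intro k rfl, hne p hp⟩]
      have h3 : (d * k - 2 * d) / d = k - 2 := by
        rw [mul_comm 2 d, ← Nat.mul_sub, Nat.mul_div_cancel_left _ hd0]
      have h4 : NN Φ.bT d (Φ.s p) (d * k - 2 * d) ε ≤ k - 2 := by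
        have := NN_le (b := Φ.bT) (d := d) (n := d * k - 2 * d) (Φ.s p) ε
        rwa [h3] at this
      rw [h1]
      omega
  · have hk' : k = 2 := by
      rcases hev with ⟨m, hm⟩
      omega
    rw [hk', hε, mul_comm] at hX
    exact Φ.pt_two hπ hdd hX hbT hp hq hpq hc

end Fam

end Cfsg.Agent.H17.CR
end

-- part: H17/CR/Symp
section
/-!
# The row for the symplectic groups in cross characteristic (helper17)
-/

set_option autoImplicit false
set_option linter.unusedSectionVars false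

open Cfsg
open Cfsg.Agent.H749 (Iso)
open Cfsg.Agent.H630.NH

namespace Cfsg.Agent.H17.CR

theorem good_of {F : Type} [Field F] {r : ℕ} (hr : r.Prime) [CharP F r] {p : ℕ} (hp : p.Prime) (h2 : p ≠ 2) (hpr : p ≠ r) :
    Good F p := by
  refine ⟨hp, h2, fun h => ?_⟩
  rw [CharP.cast_eq_zero_iff F r] at h
  exact hpr ((Nat.prime_dvd_prime_iff_eq hr hp).1 h).symm

theorem Fam.crossRow {F : Type} [Field F] [Fintype F] (Φ : Fam F) {r : ℕ} (hr : r.Prime) [CharP F r] {n : ℕ} {ε : ℤ}
    {X : Spc F} (hX : Φ.T n ε X) : CrossRow r X.G := by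
  intro π hπ hnt hc
  exact Φ.row (fun p hp => good_of hr (hπ p hp).1 (hπ p hp).2.1 (hπ p hp).2.2.1) hnt hX (fun p hp => (hπ p hp).2.2.2) hc

variable {F : Type} [Field F] [Fintype F]

/-- symplectic spaces -/
def IsSp (n : ℕ) (X : Spc F) : Prop :=
  ∃ B : LinearMap.BilinForm F X.V, (∀ u v, X.f u v = B u v) ∧ B.IsAlt ∧ (∀ u, (∀ v, B u v = 0) → u = 0) ∧
    Module.finrank F X.V = 2 * n

theorem IsSp.equiv {n : ℕ} {X : Spc F} (h : IsSp n X) : Nonempty (Matrix.symplecticGroup (Fin n) F ≃* X.G) := by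
  have : FiniteDimensional F X.V := Module.Finite.of_finite
  obtain ⟨B, hB, hA, hnd, hr⟩ := h
  obtain ⟨j, hj⟩ := ClassicalGeometry.SympIso.exists_linearEquiv_sympForm B hA hnd hr
  exact H749.exists_spEquiv (j := j) (f' := X.f) (c := 1) ⟨one_ne_zero, fun x y => by rw [hB, hj, one_mul]⟩

theorem IsSp.iso {n : ℕ} {X Y : Spc F} (h : IsSp n X) (h' : IsSp n Y) : Nonempty (X.G ≃* Y.G) := by
  obtain ⟨e⟩ := h.equiv
  obtain ⟨e'⟩ := h'.equiv
  exact ⟨e.symm.trans e'⟩

/-- the standard space -/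
def stdSp (F : Type) [Field F] [Fintype F] (n : ℕ) : Spc F where
  V := Fin n ⊕ Fin n → F
  f := sympForm n F

theorem isSp_std (n : ℕ) : IsSp n (stdSp F n) := by
  refine ⟨ClassicalGeometry.SympBasic.sympBilin n F, fun _ _ => rfl, ClassicalGeometry.SympBasic.sympBilin_isAlt, fun _ hu =>
      ClassicalGeometry.SympBasic.eq_zero_of_forall_sympForm_right hu, ?_⟩
  show Module.finrank F (Fin n ⊕ Fin n → F) = 2 * n
  rw [Module.finrank_fintype_fun_eq_card, Fintype.card_sum, Fintype.card_fin]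
  omega

theorem IsSp.prod {n m : ℕ} {X Y : Spc F} (h : IsSp n X) (h' : IsSp m Y) : IsSp (n + m) (X.prod Y) := by
  have : FiniteDimensional F X.V := Module.Finite.of_finite
  have : FiniteDimensional F Y.V := Module.Finite.of_finite
  obtain ⟨B, hB, hA, hnd, hr⟩ := h
  obtain ⟨B', hB', hA', hnd', hr'⟩ := h'
  refine ⟨LinearMap.mk₂ F (fun u v : X.V × Y.V => B u.1 v.1 + B' u.2 v.2) ?_ ?_ ?_ ?_, ?_, ?_, ?_, ?_⟩
  · intro u u' v
    simp only [Prod.fst_add, Prod.snd_add, map_add, LinearMap.add_apply]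
    ring
  · intro c u v
    simp only [Prod.smul_fst, Prod.smul_snd, map_smul, LinearMap.smul_apply, smul_add]
  · intro u v v'
    simp only [Prod.fst_add, Prod.snd_add, map_add]
    ring
  · intro c u v
    simp only [Prod.smul_fst, Prod.smul_snd, map_smul, smul_add]
  · intro u v
    show X.f u.1 v.1 + Y.f u.2 v.2 = B u.1 v.1 + B' u.2 v.2
    rw [hB, hB']
  · intro u
    show B u.1 u.1 + B' u.2 u.2 = 0
    rw [hA, hA', add_zero]
  · intro u hu
    refine Prod.ext (hnd _ fun w => ?_) (hnd' _ fun w => ?_)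
    · have h1 : B u.1 w + B' u.2 0 = 0 := hu (w, 0)
      rwa [map_zero, add_zero] at h1
    · have h1 : B u.1 0 + B' u.2 w = 0 := hu (0, w)
      rwa [map_zero, zero_add] at h1
  · show Module.finrank F (X.V × Y.V) = 2 * (n + m)
    rw [Module.finrank_prod, hr, hr']
    ring

theorem IsSp.hyp {n : ℕ} {X : Spc F} (h : IsSp n X) : ∃ B : X.V → X.V → F, Eig.Bil B ∧
    (∀ g : X.G, ∀ u v, B (g.1 u) (g.1 v) = B u v) ∧ Module.finrank F X.V = 2 * n := by
  obtain ⟨B, hB, hA, hnd, hr⟩ := h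
  refine ⟨fun u v => B u v, ⟨fun u u' v => by simp, fun c u v => by simp, fun u v v' => by simp, fun c u v => by simp,
    fun v hv => hnd v fun u => ?_⟩, fun g u v => ?_, hr⟩
  · have h1 := hA.neg_eq v u
    have h2 : B u v = 0 := hv u
    rw [h2] at h1
    exact neg_eq_zero.1 h1
  · show B (g.1 u) (g.1 v) = B u v
    rw [← hB, ← hB]
    exact g.2 u v

theorem IsSp.ev {n : ℕ} {X : Spc F} (h : IsSp n X) {p : ℕ} (hp : Good F p) (ε : ℤ) :
    ev p X.G = nu p (vv F p) (NN False (dd F p) 1 n ε) := by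
  have := Fact.mk hp.prime
  obtain ⟨e⟩ := h.equiv
  have h1 : NN False (dd F p) 1 n ε = n / dd F p := if_neg fun h => h.1
  have h2 := H749.vp_Sp (p := p) (F := F) hp.ne_two (d := dd F p) (by rw [Nat.card_eq_fintype_card]; exact dd_eq F p)
    hp.dd_pos.ne' n
  rw [← ev_congr p e, h1]
  unfold CR.ev nu vv
  rw [h2, Nat.card_eq_fintype_card]

/-- the symplectic family -/
def famSp (F : Type) [Field F] [Fintype F] : Fam F where
  bE := False
  bT := False
  s _ := 1
  E n _ X := IsSp n X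
  T n ε X := IsSp n X ∧ (ε = 1 ∨ ε = -1)
  sgn _ := Or.inl rfl
  sens h := absurd rfl h
  signT h := h.2
  zeroT h := h.elim
  bET h := h
  toE h := h.elim
  existsE {n} _ _ _ := ⟨_, isSp_std n⟩
  zeroE := ⟨_, isSp_std 0, by
    show Subsingleton (Fin 0 ⊕ Fin 0 → F)
    infer_instance⟩
  isoE h h' := h.iso h'
  addE h h' := h.prod h'
  hypE h := h.hyp
  evE {n ε _} h _ hp := h.ev hp ε
  evT {n ε _} h _ hp := h.1.ev hp ε
  splitT {n ε X} h {m ε'} hm hε _ := ⟨_, ⟨isSp_std (n - m), pm_mul h.2 hε⟩, fun U hU => by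
    have h1 := hU.prod (isSp_std (F := F) (n - m))
    rw [Nat.add_sub_cancel' hm] at h1
    exact h.1.iso h1⟩

end Cfsg.Agent.H17.CR

namespace Cfsg.Agent.H17.CR

/-- **The row for `Sp_{2m}(F)`.** -/
theorem crossRow_Sp (r : ℕ) [Fact r.Prime] (F : Type) [Field F] [Fintype F] [CharP F r] (m : ℕ) (_hm : 1 ≤ m) :
    CrossRow r ↥(Matrix.symplecticGroup (Fin m) F) := by
  obtain ⟨e⟩ := (isSp_std (F := F) m).equiv
  exact CrossRow.congr e.symm ((famSp F).crossRow (Fact.out : r.Prime) (n := m) (ε := 1) ⟨isSp_std m, Or.inl rfl⟩)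

end Cfsg.Agent.H17.CR
end

-- part: H17/CR/Orth
section
/-!
# The row for the orthogonal groups in cross characteristic (helper17)
-/

set_option autoImplicit false
set_option linter.unusedSectionVars false

open Cfsg
open Cfsg.Agent.H749 (Iso vp)
open Cfsg.Agent.H630.NH
open Cfsg.Agent.H377 Cfsg.Agent.LieClassical.OrthCore Cfsg.Agent.LieClassical.OrthForms Cfsg.Agent.H403.Classify QuadraticMap

namespace Cfsg.Agent.H17.CR

section Num

variable (F : Type) [Field F] [Fintype F]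

open Classical in
/-- the type of the atoms -/
noncomputable def sg (p : ℕ) : ℤ := if (p : ℤ) ∣ (Fintype.card F : ℤ) ^ dd F p - 1 then 1 else -1

theorem sg_pm (p : ℕ) : sg F p = 1 ∨ sg F p = -1 := by
  unfold sg
  split_ifs
  · left; rfl
  · right; rfl

variable {F}

theorem Good.dvd_sg {p : ℕ} (h : Good F p) : (p : ℤ) ∣ (Fintype.card F : ℤ) ^ dd F p - sg F p := by
  have := Fact.mk h.prime
  unfold sg
  split_ifs with h1
  · exact h1
  · have h2 : (p : ℤ) ∣ ((Fintype.card F : ℤ) ^ 2) ^ dd F p - 1 := (H749.dvd_pow_sub_one_iff _).2 (dd_eq F p).dvd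
    have h3 : ((Fintype.card F : ℤ) ^ 2) ^ dd F p - 1 =
        ((Fintype.card F : ℤ) ^ dd F p - 1) * ((Fintype.card F : ℤ) ^ dd F p - (-1)) := by ring
    rw [h3] at h2
    exact ((Nat.prime_iff_prime_int.1 h.prime).dvd_or_dvd h2).resolve_left h1

theorem Good.dvd_sg_pow {p : ℕ} (h : Good F p) (k : ℕ) :
    (p : ℤ) ∣ (Fintype.card F : ℤ) ^ (dd F p * k) - sg F p ^ k := by
  rw [pow_mul]
  exact h.dvd_sg.trans (sub_dvd_pow_sub_pow _ _ k)

theorem Good.not_dvd_two {p : ℕ} (h : Good F p) : ¬ (p : ℤ) ∣ 2 := by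
  intro h1
  have h2 : (p : ℤ) ∣ ((2 : ℕ) : ℤ) := by exact_mod_cast h1
  exact h.ne_two ((Nat.prime_dvd_prime_iff_eq h.prime Nat.prime_two).1 (Int.natCast_dvd_natCast.1 h2))

theorem eq_of_dvd {p : ℕ} (h : Good F p) {a b : ℤ} (ha : a = 1 ∨ a = -1) (hb : b = 1 ∨ b = -1)
    (hd : (p : ℤ) ∣ a - b) : a = b := by
  rcases ha with rfl | rfl <;> rcases hb with rfl | rfl
  · rfl
  · exact absurd (by simpa using hd) h.not_dvd_two
  · exfalso
    apply h.not_dvd_two
    have := (dvd_neg (α := ℤ)).2 hd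
    simpa using this
  · rfl

theorem card_pow_ne {n : ℕ} (hn : n ≠ 0) {ε : ℤ} (hε : ε = 1 ∨ ε = -1) : (Fintype.card F : ℤ) ^ n - ε ≠ 0 := by
  have h1 : 1 < Fintype.card F := one_lt_card
  have h2 := Nat.one_lt_pow hn h1
  have h3 : (1 : ℤ) < (Fintype.card F : ℤ) ^ n := by exact_mod_cast h2
  rcases hε with rfl | rfl
  · omega
  · omega

theorem pow_ne_one (i : ℕ) (hi : i ≠ 0) : ((Fintype.card F : ℤ) ^ 2) ^ i ≠ 1 := by
  rw [← pow_mul]
  have := card_pow_ne (F := F) (n := 2 * i) (by omega) (Or.inl rfl)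
  intro h
  exact this (sub_eq_zero.2 h)

theorem vp_eps {p : ℕ} (hp : Good F p) {n : ℕ} (hn : 1 ≤ n) {ε : ℤ} (hε : ε = 1 ∨ ε = -1) :
    vp p ((Fintype.card F : ℤ) ^ n - ε) + nu p (vv F p) ((n - 1) / dd F p) =
      nu p (vv F p) (NN True (dd F p) (sg F p) n ε) := by
  have := Fact.mk hp.prime
  have hd := hp.dd_pos
  have hnε : -ε = 1 ∨ -ε = -1 := by rcases hε with rfl | rfl <;> norm_num
  by_cases h : dd F p ∣ n
  · obtain ⟨k, hk⟩ := h
    have hk0 : k ≠ 0 := by
      rintro rfl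
      omega
    have hdiv : n / dd F p = k := by rw [hk, Nat.mul_div_cancel_left _ hd]
    have hdiv' : (n - 1) / dd F p = k - 1 := by
      obtain ⟨l, rfl⟩ : ∃ l, k = l + 1 := ⟨k - 1, by omega⟩
      rw [Nat.add_sub_cancel]
      have e : n - 1 = (dd F p - 1) + l * dd F p := by
        rw [hk]
        obtain ⟨e, he⟩ : ∃ e, dd F p = e + 1 := ⟨dd F p - 1, by omega⟩
        rw [he, Nat.add_sub_cancel]
        ring_nf
        omega
      rw [e, Nat.add_mul_div_right _ _ hd, Nat.div_eq_of_lt (by omega), zero_add]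
    have hdk := hp.dvd_sg_pow k
    rw [← hk] at hdk
    by_cases hs : sg F p ^ k = ε
    · -- full power
      have h1 : NN True (dd F p) (sg F p) n ε = k := by
        unfold NN
        rw [hdiv, if_neg (fun h => h.2.2 hs)]
      have h2 : ¬ (p : ℤ) ∣ (Fintype.card F : ℤ) ^ n - (-ε) := by
        intro h3
        rw [hs] at hdk
        have h4 := dvd_sub h3 hdk
        have h5 : (Fintype.card F : ℤ) ^ n - -ε - ((Fintype.card F : ℤ) ^ n - ε) = ε - (-ε) := by ring
        rw [h5] at h4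
        have h6 := eq_of_dvd hp hε hnε h4
        rcases hε with rfl | rfl <;> norm_num at h6
      have h3 : vp p (((Fintype.card F : ℤ) ^ 2) ^ n - 1) = vp p ((Fintype.card F : ℤ) ^ n - ε) := by
        have h4 : ((Fintype.card F : ℤ) ^ 2) ^ n - 1 =
            ((Fintype.card F : ℤ) ^ n - ε) * ((Fintype.card F : ℤ) ^ n - (-ε)) := by
          have : ε * ε = 1 := pm_sq hε
          linear_combination this
        rw [h4, H749.vp_mul p (card_pow_ne (by omega) hε) (card_pow_ne (by omega) hnε), H749.vp_eq_zero h2, add_zero]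
      rw [← h3, H749.vp_factor hp.ne_two (dd_eq F p) (pow_ne_one n (by omega)), if_pos ⟨k, hk⟩, hdiv, hdiv', h1]
      obtain ⟨l, rfl⟩ : ∃ l, k = l + 1 := ⟨k - 1, by omega⟩
      rw [Nat.add_sub_cancel]
      unfold nu vv
      rw [Nat.factorial_succ, Nat.factorization_mul (Nat.succ_ne_zero _) (Nat.factorial_ne_zero _), Finsupp.add_apply]
      ring
    · have h1 : NN True (dd F p) (sg F p) n ε = k - 1 := by
        unfold NN
        rw [hdiv, if_pos ⟨trivial, ⟨k, hk⟩, hs⟩]
      have h2 : ¬ (p : ℤ) ∣ (Fintype.card F : ℤ) ^ n - ε := by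
        intro h3
        have h4 := dvd_sub h3 hdk
        have h5 : (Fintype.card F : ℤ) ^ n - ε - ((Fintype.card F : ℤ) ^ n - sg F p ^ k) = sg F p ^ k - ε := by ring
        rw [h5] at h4
        exact hs (eq_of_dvd hp (pm_pow (sg_pm F p) k) hε h4)
      rw [H749.vp_eq_zero h2, zero_add, hdiv', h1]
  · have h1 : NN True (dd F p) (sg F p) n ε = n / dd F p := if_neg fun h' => h h'.2.1
    have h2 : ¬ (p : ℤ) ∣ (Fintype.card F : ℤ) ^ n - ε := by
      intro h3
      apply h
      rw [← dd_eq F p]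
      refine (H749.dvd_pow_sub_one_iff n).1 ?_
      have h4 : ((Fintype.card F : ℤ) ^ 2) ^ n - 1 =
          ((Fintype.card F : ℤ) ^ n - ε) * ((Fintype.card F : ℤ) ^ n - (-ε)) := by
        have : ε * ε = 1 := pm_sq hε
        linear_combination this
      rw [h4]
      exact Dvd.dvd.mul_right h3 _
    have h3 : (n - 1) / dd F p = n / dd F p := by
      obtain ⟨l, rfl⟩ : ∃ l, n = l + 1 := ⟨n - 1, by omega⟩
      rw [Nat.add_sub_cancel, Nat.succ_div_of_not_dvd h]
    rw [H749.vp_eq_zero h2, zero_add, h1, h3]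

/-- the exponent of `p` in `2 q^a (q ^ n - ε) ∏ (q ^ (2 i) - 1)` -/
theorem num_even {p : ℕ} (hp : Good F p) {n : ℕ} (hn : 1 ≤ n) {ε : ℤ} (hε : ε = 1 ∨ ε = -1) {N : ℕ} {a : ℕ}
    (hN : (N : ℤ) = 2 * (Fintype.card F : ℤ) ^ a * ((Fintype.card F : ℤ) ^ n - ε) *
      ∏ i ∈ Finset.range (n - 1), (((Fintype.card F : ℤ) ^ 2) ^ (i + 1) - 1)) :
    N.factorization p = nu p (vv F p) (NN True (dd F p) (sg F p) n ε) := by
  have := Fact.mk hp.prime
  have hq : (Fintype.card F : ℤ) ≠ 0 := by exact_mod_cast Fintype.card_ne_zero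
  have h1 := congrArg (vp p) hN
  rw [H749.vp_mul p (mul_ne_zero (mul_ne_zero two_ne_zero (pow_ne_zero _ hq)) (card_pow_ne (by omega) hε))
    (Finset.prod_ne_zero_iff.2 fun i _ => sub_ne_zero.2 (pow_ne_one _ (Nat.succ_ne_zero i))),
    H749.vp_mul p (mul_ne_zero two_ne_zero (pow_ne_zero _ hq)) (card_pow_ne (by omega) hε),
    H749.vp_mul p two_ne_zero (pow_ne_zero _ hq), H749.vp_prod hp.ne_two (dd_eq F p) pow_ne_one, H749.vp_natCast,
    H749.vp_eq_zero hp.not_dvd_two, zero_add] at h1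
  have h2 : vp p ((Fintype.card F : ℤ) ^ a) = 0 := by
    apply H749.vp_eq_zero
    intro h4
    exact hp.not_dvd (Int.natCast_dvd_natCast.1 ((Nat.prime_iff_prime_int.1 hp.prime).dvd_of_dvd_pow h4))
  rw [h1, h2, zero_add]
  exact vp_eps hp hn hε

theorem num_odd {p : ℕ} (hp : Good F p) {n : ℕ} {ε : ℤ} {N : ℕ} {a : ℕ}
    (hN : (N : ℤ) = 2 * (Fintype.card F : ℤ) ^ a *
      ∏ i ∈ Finset.range n, (((Fintype.card F : ℤ) ^ 2) ^ (i + 1) - 1)) :
    N.factorization p = nu p (vv F p) (NN False (dd F p) (sg F p) n ε) := by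
  have := Fact.mk hp.prime
  have hq : (Fintype.card F : ℤ) ≠ 0 := by exact_mod_cast Fintype.card_ne_zero
  have h1 := congrArg (vp p) hN
  rw [H749.vp_mul p (mul_ne_zero two_ne_zero (pow_ne_zero _ hq))
    (Finset.prod_ne_zero_iff.2 fun i _ => sub_ne_zero.2 (pow_ne_one _ (Nat.succ_ne_zero i))),
    H749.vp_mul p two_ne_zero (pow_ne_zero _ hq), H749.vp_prod hp.ne_two (dd_eq F p) pow_ne_one, H749.vp_natCast,
    H749.vp_eq_zero hp.not_dvd_two, zero_add] at h1
  have h2 : vp p ((Fintype.card F : ℤ) ^ a) = 0 := by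
    apply H749.vp_eq_zero
    intro h4
    exact hp.not_dvd (Int.natCast_dvd_natCast.1 ((Nat.prime_iff_prime_int.1 hp.prime).dvd_of_dvd_pow h4))
  rw [h1, h2, zero_add]
  have h3 : NN False (dd F p) (sg F p) n ε = n / dd F p := if_neg fun h => h.1
  rw [h3]
  rfl

theorem cast_prod (n : ℕ) : ((∏ i ∈ Finset.range n, (Fintype.card F ^ (2 * (i + 1)) - 1) : ℕ) : ℤ) =
    ∏ i ∈ Finset.range n, (((Fintype.card F : ℤ) ^ 2) ^ (i + 1) - 1) := by
  rw [Nat.cast_prod]
  refine Finset.prod_congr rfl fun i _ => ?_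
  rw [Nat.cast_sub (Nat.one_le_pow _ _ Fintype.card_pos), Nat.cast_pow, pow_mul]
  rfl

end Num

section Spaces

variable {F : Type} [Field F] [Fintype F]

/-- similar spaces have isomorphic groups -/
theorem iso_of_sim {X Y : Spc F} (e : X.V ≃ₗ[F] Y.V) {c : F} (hc : c ≠ 0) (h : ∀ u v, Y.f (e u) (e v) = c * X.f u v) :
    Nonempty (X.G ≃* Y.G) := by
  have h1 : ∀ g : X.V ≃ₗ[F] X.V, g ∈ X.G → (e.symm.trans g).trans e ∈ Y.G := by
    intro g hg u v
    show Y.f (e (g (e.symm u))) (e (g (e.symm v))) = Y.f u v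
    have hg' : X.f (g (e.symm u)) (g (e.symm v)) = X.f (e.symm u) (e.symm v) := hg _ _
    rw [h, hg', ← h, e.apply_symm_apply, e.apply_symm_apply]
  have h2 : ∀ g : Y.V ≃ₗ[F] Y.V, g ∈ Y.G → (e.trans g).trans e.symm ∈ X.G := by
    intro g hg u v
    show X.f (e.symm (g (e u))) (e.symm (g (e v))) = X.f u v
    have h3 := h (e.symm (g (e u))) (e.symm (g (e v)))
    rw [e.apply_symm_apply, e.apply_symm_apply] at h3
    have hg' : Y.f (g (e u)) (g (e v)) = Y.f (e u) (e v) := hg _ _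
    rw [hg', h] at h3
    exact (mul_left_cancel₀ hc h3).symm
  refine ⟨⟨⟨fun g => ⟨_, h1 g.1 g.2⟩, fun g => ⟨_, h2 g.1 g.2⟩, fun g => ?_, fun g => ?_⟩, fun g g' => ?_⟩⟩
  · refine Subtype.ext (LinearEquiv.ext fun u => ?_)
    show e.symm (e (g.1 (e.symm (e u)))) = g.1 u
    rw [e.symm_apply_apply, e.symm_apply_apply]
  · refine Subtype.ext (LinearEquiv.ext fun u => ?_)
    show e (e.symm (g.1 (e (e.symm u)))) = g.1 u
    rw [e.apply_symm_apply, e.apply_symm_apply]
  · refine Subtype.ext (LinearEquiv.ext fun u => ?_)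
    show e (g.1 (g'.1 (e.symm u))) = e (g.1 (e.symm (e (g'.1 (e.symm u)))))
    rw [e.symm_apply_apply]

/-- even orthogonal spaces of type `(n, ε)` -/
def IsOE (n : ℕ) (ε : ℤ) (X : Spc F) : Prop :=
  ∃ Q : QuadraticForm F X.V, (∀ u v, X.f u v = Q u) ∧ Nondeg Q ∧ Module.finrank F X.V = 2 * n ∧ HasSign (⇑Q) n ε ∧
    (ε = 1 ∨ ε = -1)

/-- odd orthogonal spaces -/
def IsOO (n : ℕ) (X : Spc F) : Prop :=
  ∃ Q : QuadraticForm F X.V, (∀ u v, X.f u v = Q u) ∧ Nondeg Q ∧ Module.finrank F X.V = 2 * n + 1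

theorem IsOE.prod {n m : ℕ} {ε ε' : ℤ} {X Y : Spc F} (h : IsOE n ε X) (h' : IsOE m ε' Y) :
    IsOE (n + m) (ε * ε') (X.prod Y) := by
  have : FiniteDimensional F X.V := Module.Finite.of_finite
  have : FiniteDimensional F Y.V := Module.Finite.of_finite
  obtain ⟨Q, hQ, hnd, hr, hs, hε⟩ := h
  obtain ⟨Q', hQ', hnd', hr', hs', hε'⟩ := h'
  refine ⟨sumQ Q Q', fun u v => ?_, sumQ_nondeg hnd hnd', ?_, hs.prod hs', pm_mul hε hε'⟩
  · show X.f u.1 v.1 + Y.f u.2 v.2 = Q u.1 + Q' u.2
    rw [hQ, hQ']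
  · show Module.finrank F (X.V × Y.V) = 2 * (n + m)
    rw [Module.finrank_prod, hr, hr']
    ring

theorem IsOE.prodOdd {n m : ℕ} {ε : ℤ} {X Y : Spc F} (h : IsOE n ε X) (h' : IsOO m Y) :
    IsOO (n + m) (X.prod Y) := by
  have : FiniteDimensional F X.V := Module.Finite.of_finite
  have : FiniteDimensional F Y.V := Module.Finite.of_finite
  obtain ⟨Q, hQ, hnd, hr, hs, hε⟩ := h
  obtain ⟨Q', hQ', hnd', hr'⟩ := h'
  refine ⟨sumQ Q Q', fun u v => ?_, sumQ_nondeg hnd hnd', ?_⟩
  · show X.f u.1 v.1 + Y.f u.2 v.2 = Q u.1 + Q' u.2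
    rw [hQ, hQ']
  · show Module.finrank F (X.V × Y.V) = 2 * (n + m) + 1
    rw [Module.finrank_prod, hr, hr']
    ring

theorem IsOE.zero_eq {ε : ℤ} {X : Spc F} (h : IsOE 0 ε X) : Subsingleton X.V ∧ ε = 1 := by
  have : FiniteDimensional F X.V := Module.Finite.of_finite
  obtain ⟨Q, hQ, hnd, hr, hs, hε⟩ := h
  have hsub : Subsingleton X.V := Module.finrank_zero_iff.1 (by rw [hr])
  refine ⟨hsub, ?_⟩
  have h1 : HasSign (F := F) (⇑Q) 0 1 := hasSign_zero _ fun v => by rw [Subsingleton.elim v 0, QuadraticMap.map_zero]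
  exact (hs.sign_eq h1 hε (Or.inl rfl)).1

theorem IsOE.iso {n : ℕ} {ε : ℤ} {X Y : Spc F} (h : IsOE n ε X) (h' : IsOE n ε Y) :
    ∃ e : X.V ≃ₗ[F] Y.V, ∀ u v, Y.f (e u) (e v) = X.f u v := by
  have : FiniteDimensional F X.V := Module.Finite.of_finite
  have : FiniteDimensional F Y.V := Module.Finite.of_finite
  rcases Nat.eq_zero_or_pos n with hn | hn
  · subst hn
    have h1 := h.zero_eq.1
    have h1' := h'.zero_eq.1
    obtain ⟨Q, hQ, -, -, -, -⟩ := h
    obtain ⟨Q', hQ', -, -, -, -⟩ := h'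
    refine ⟨LinearEquiv.ofFinrankEq _ _ (by rw [Module.finrank_zero_of_subsingleton, Module.finrank_zero_of_subsingleton]), fun u v => ?_⟩
    rw [hQ, hQ', Subsingleton.elim u 0, map_zero, QuadraticMap.map_zero, QuadraticMap.map_zero]
  · obtain ⟨Q, hQ, hnd, hr, hs, hε⟩ := h
    obtain ⟨Q', hQ', hnd', hr', hs', -⟩ := h'
    rcases hε with rfl | rfl
    · obtain ⟨e, he⟩ := exists_plus hn hr Q hnd hs
      obtain ⟨e', he'⟩ := exists_plus hn hr' Q' hnd' hs'
      refine ⟨e.symm.trans e', fun u v => ?_⟩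
      rw [hQ', hQ, LinearEquiv.trans_apply, he', ← he, e.apply_symm_apply]
    · obtain ⟨a, b, hab⟩ := exists_aniso F
      obtain ⟨e, he⟩ := exists_minus hn hr Q hnd hs hab
      obtain ⟨e', he'⟩ := exists_minus hn hr' Q' hnd' hs' hab
      refine ⟨e.symm.trans e', fun u v => ?_⟩
      rw [hQ', hQ, LinearEquiv.trans_apply, he', ← he, e.apply_symm_apply]

theorem IsOE.isoG {n : ℕ} {ε : ℤ} {X Y : Spc F} (h : IsOE n ε X) (h' : IsOE n ε Y) : Nonempty (X.G ≃* Y.G) := by
  obtain ⟨e, he⟩ := h.iso h'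
  exact iso_of_sim e one_ne_zero fun u v => by rw [he, one_mul]

theorem IsOE.plusEquiv {n : ℕ} (hn : 1 ≤ n) {X : Spc F} (h : IsOE n 1 X) :
    Nonempty (isometryGroup F (quadFormPlus n F) ≃* X.G) := by
  obtain ⟨Q, hQ, hnd, hr, hs, -⟩ := h
  obtain ⟨e, he⟩ := exists_plus hn hr Q hnd hs
  exact ⟨H749.isoEquiv (j := e) (f' := X.f) (c := 1) ⟨one_ne_zero, fun x y => by rw [hQ, he, one_mul]⟩⟩

theorem IsOE.minusEquiv {n : ℕ} (hn : 1 ≤ n) {X : Spc F} (h : IsOE n (-1) X) {a b : F} (hab : Aniso a b) :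
    Nonempty (isometryGroup F (quadFormMinus (n - 1) F a b) ≃* X.G) := by
  obtain ⟨Q, hQ, hnd, hr, hs, -⟩ := h
  obtain ⟨e, he⟩ := exists_minus hn hr Q hnd hs hab
  exact ⟨H749.isoEquiv (j := e) (f' := X.f) (c := 1) ⟨one_ne_zero, fun x y => by rw [hQ, he, one_mul]⟩⟩

theorem IsOO.oddEquiv {n : ℕ} {X : Spc F} (h : IsOO n X) :
    Nonempty (isometryGroup F (quadFormOdd n F) ≃* X.G) := by
  obtain ⟨Q, hQ, hnd, hr⟩ := h
  obtain ⟨c, e, hc, he⟩ := exists_similar_odd hr Q hnd
  exact ⟨H749.isoEquiv (j := e) (f' := X.f) (c := c) ⟨hc, fun x y => by rw [hQ, he, coe_oddForm]⟩⟩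

theorem IsOE.evE {n : ℕ} {ε : ℤ} {X : Spc F} (h : IsOE n ε X) {p : ℕ} (hp : Good F p) :
    ev p X.G = nu p (vv F p) (NN True (dd F p) (sg F p) n ε) := by
  rcases Nat.eq_zero_or_pos n with hn | hn
  · subst hn
    have hsub := h.zero_eq.1
    have h1 : Nat.card X.G = 1 := by
      rw [Nat.card_eq_one_iff_unique]
      refine ⟨⟨fun a b => Subtype.ext (LinearEquiv.ext fun u => Subsingleton.elim _ _)⟩, ⟨1⟩⟩
    rw [NN_lt hp.dd_pos, nu_zero]
    unfold CR.ev
    rw [h1, Nat.factorization_one]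
    rfl
  · have hε : ε = 1 ∨ ε = -1 := by
      obtain ⟨Q, hQ, hnd, hr, hs, hε⟩ := h
      exact hε
    unfold CR.ev
    rcases hε with rfl | rfl
    · obtain ⟨e⟩ := h.plusEquiv hn
      refine num_even hp hn (Or.inl rfl) (a := n * (n - 1)) ?_
      rw [← Nat.card_congr e.toEquiv, S0287.result (F := F) (q := Fintype.card F) rfl n hn, Nat.cast_mul, Nat.cast_mul,
        cast_prod, Nat.cast_mul, Nat.cast_sub (Nat.one_le_pow _ _ Fintype.card_pos)]
      push_cast
      rfl
    · obtain ⟨a, b, hab⟩ := exists_aniso F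
      obtain ⟨e⟩ := h.minusEquiv hn hab
      refine num_even hp hn (Or.inr rfl) (a := n * (n - 1)) ?_
      rw [← Nat.card_congr e.toEquiv, S0288.result (F := F) (q := Fintype.card F) rfl n hn a b hab, Nat.cast_mul,
        Nat.cast_mul, cast_prod]
      push_cast
      ring

theorem IsOO.evO (hF : Odd (Fintype.card F)) {n : ℕ} {X : Spc F} (h : IsOO n X) {p : ℕ} (hp : Good F p) (ε : ℤ) :
    ev p X.G = nu p (vv F p) (NN False (dd F p) (sg F p) n ε) := by
  obtain ⟨e⟩ := h.oddEquiv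
  refine num_odd hp (a := n ^ 2) ?_
  rw [← Nat.card_congr e.toEquiv, S0286.result (F := F) (q := Fintype.card F) rfl hF n, Nat.cast_mul, cast_prod]
  push_cast
  rfl

theorem bil_polar {V : Type*} [AddCommGroup V] [Module F V] {Q : QuadraticForm F V} (hnd : Nondeg Q) :
    Eig.Bil (polar Q) := by
  refine ⟨fun u u' v => ?_, fun c u v => ?_, fun u v v' => ?_, fun c u v => ?_, fun v hv => hnd v fun u => ?_⟩
  · exact QuadraticMap.polar_add_left Q u u' v
  · exact QuadraticMap.polar_smul_left Q c u v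
  · exact QuadraticMap.polar_add_right Q u v v'
  · exact QuadraticMap.polar_smul_right Q c u v
  · rw [QuadraticMap.polar_comm]
    exact hv u

theorem IsOE.hyp {n : ℕ} {ε : ℤ} {X : Spc F} (h : IsOE n ε X) : ∃ B : X.V → X.V → F, Eig.Bil B ∧
    (∀ g : X.G, ∀ u v, B (g.1 u) (g.1 v) = B u v) ∧ Module.finrank F X.V = 2 * n := by
  obtain ⟨Q, hQ, hnd, hr, -, -⟩ := h
  refine ⟨polar Q, bil_polar hnd, fun g u v => ?_, hr⟩
  have h1 : ∀ u, Q (g.1 u) = Q u := fun u => by
    rw [← hQ _ (g.1 0), ← hQ _ 0]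
    exact g.2 u 0
  unfold polar
  rw [← map_add, h1, h1, h1]

theorem exists_isOE {n : ℕ} (hn : 1 ≤ n) {ε : ℤ} (hε : ε = 1 ∨ ε = -1) : ∃ X : Spc F, IsOE n ε X := by
  obtain ⟨-, Q, g, hQ, hs, hg, ho⟩ := elt_one_pm (F := F) hn hε
  refine ⟨{ V := Fin (2 * n) → F, f := fun u _ => Q u }, Q, fun u v => rfl, hQ, ?_, hs, hε⟩
  show Module.finrank F (Fin (2 * n) → F) = 2 * n
  rw [Module.finrank_fin_fun]

/-- the standard spaces -/
def stdPlus (F : Type) [Field F] [Fintype F] (n : ℕ) : Spc F where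
  V := Fin n ⊕ Fin n → F
  f := fun u _ => quadFormPlus n F u

def stdMinus (F : Type) [Field F] [Fintype F] (n : ℕ) (a b : F) : Spc F where
  V := (Fin n ⊕ Fin n) ⊕ Fin 2 → F
  f := fun u _ => quadFormMinus n F a b u

def stdOdd (F : Type) [Field F] [Fintype F] (n : ℕ) : Spc F where
  V := Unit ⊕ (Fin n ⊕ Fin n) → F
  f := fun u _ => quadFormOdd n F u

theorem isOE_plus (n : ℕ) : IsOE n 1 (stdPlus F n) := by
  refine ⟨plusForm n F, fun u v => ?_, nondeg_plusForm n F, ?_, hasSign_plusForm n, Or.inl rfl⟩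
  · exact (congrFun (coe_plusForm n F) u).symm
  · show Module.finrank F (Fin n ⊕ Fin n → F) = 2 * n
    exact finrank_sumFun n

theorem isOE_minus (n : ℕ) {a b : F} (hab : Aniso a b) : IsOE (n + 1) (-1) (stdMinus F n a b) := by
  refine ⟨minusForm n F a b, fun u v => ?_, nondeg_minusForm n F a b hab, ?_, hasSign_minusForm n hab, Or.inr rfl⟩
  · exact (congrFun (coe_minusForm n F a b) u).symm
  · show Module.finrank F ((Fin n ⊕ Fin n) ⊕ Fin 2 → F) = 2 * (n + 1)
    rw [Module.finrank_fintype_fun_eq_card, Fintype.card_sum, Fintype.card_sum, Fintype.card_fin, Fintype.card_fin]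
    ring

theorem isOO_std (h2 : (2 : F) ≠ 0) (n : ℕ) : IsOO n (stdOdd F n) := by
  refine ⟨oddForm n F, fun u v => ?_, nondeg_oddForm n F h2, ?_⟩
  · exact (congrFun (coe_oddForm n F) u).symm
  · show Module.finrank F (Unit ⊕ (Fin n ⊕ Fin n) → F) = 2 * n + 1
    rw [Module.finrank_fintype_fun_eq_card, Fintype.card_sum, Fintype.card_sum, Fintype.card_fin, Fintype.card_unit]
    ring

theorem IsOE.sign {n : ℕ} {ε : ℤ} {X : Spc F} (h : IsOE n ε X) : ε = 1 ∨ ε = -1 := by
  obtain ⟨Q, hQ, hnd, hr, hs, hε⟩ := h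
  exact hε

theorem zeroOE : ∃ U : Spc F, IsOE 0 1 U ∧ Subsingleton U.V :=
  ⟨_, isOE_plus 0, (isOE_plus (F := F) 0).zero_eq.1⟩

/-- the even orthogonal family -/
noncomputable def famEven (F : Type) [Field F] [Fintype F] : Fam F where
  bE := True
  bT := True
  s := sg F
  E := IsOE
  T := IsOE
  sgn _ := sg_pm F _
  sens _ := trivial
  signT h := h.sign
  zeroT _ := fun h => h.zero_eq.2
  bET h := h
  toE _ := fun h => h
  existsE hn _ hε := exists_isOE hn hε
  zeroE := zeroOE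
  isoE h h' := h.isoG h'
  addE h h' := h.prod h'
  hypE h := h.hyp
  evE h _ hp := h.evE hp
  evT h _ hp := h.evE hp
  splitT := by
    intro n ε X h m ε' hm hε' hmn
    have h0 : ∃ X' : Spc F, IsOE (n - m) (ε * ε') X' := by
      rcases Nat.eq_or_lt_of_le hm with h1 | h1
      · obtain ⟨X', hX', -⟩ := zeroOE (F := F)
        refine ⟨X', ?_⟩
        rw [h1, Nat.sub_self, hmn trivial h1, pm_sq h.sign]
        exact hX'
      · exact exists_isOE (by omega) (pm_mul h.sign hε')
    obtain ⟨X', hX'⟩ := h0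
    refine ⟨X', hX', fun U hU => ?_⟩
    have h1 := hU.prod hX'
    rw [Nat.add_sub_cancel' hm] at h1
    have h2 : ε' * (ε * ε') = ε := by
      have := pm_sq hε'
      linear_combination ε * this
    rw [h2] at h1
    exact h.isoG h1

/-- the odd orthogonal family -/
noncomputable def famOdd (F : Type) [Field F] [Fintype F] (hF : Odd (Fintype.card F)) (h2 : (2 : F) ≠ 0) : Fam F where
  bE := True
  bT := False
  s := sg F
  E := IsOE
  T n ε X := IsOO n X ∧ (ε = 1 ∨ ε = -1)
  sgn _ := sg_pm F _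
  sens _ := trivial
  signT h := h.2
  zeroT h := h.elim
  bET h := h.elim
  toE h := h.elim
  existsE hn _ hε := exists_isOE hn hε
  zeroE := zeroOE
  isoE h h' := h.isoG h'
  addE h h' := h.prod h'
  hypE h := h.hyp
  evE h _ hp := h.evE hp
  evT {n ε _} h _ hp := h.1.evO hF hp ε
  splitT := by
    intro n ε X h m ε' hm hε' hmn
    refine ⟨_, ⟨isOO_std h2 (n - m), pm_mul h.2 hε'⟩, fun U hU => ?_⟩
    have h1 := hU.prodOdd (isOO_std h2 (n - m))
    rw [Nat.add_sub_cancel' hm] at h1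
    obtain ⟨e⟩ := h.1.oddEquiv
    obtain ⟨e'⟩ := h1.oddEquiv
    exact ⟨e.symm.trans e'⟩

end Spaces

section Final

variable {F : Type} [Field F] [Fintype F]

theorem exists_index_two_pow {G : Type*} [Group G] [Finite G] (N : Subgroup G) [N.Normal] (h : ∀ g : G, g * g ∈ N) :
    ∃ k : ℕ, N.index = 2 ^ k := by
  have := Fact.mk Nat.prime_two
  have h1 : IsPGroup 2 (G ⧸ N) := by
    intro x
    obtain ⟨g, rfl⟩ := QuotientGroup.mk_surjective x
    refine ⟨1, ?_⟩
    rw [pow_one, _root_.sq, ← QuotientGroup.mk_mul, QuotientGroup.eq_one_iff]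
    exact h g
  obtain ⟨k, hk⟩ := IsPGroup.iff_card.1 h1
  exact ⟨k, hk⟩

/-- from the isometry group to `POmega` -/
theorem crossRow_POmega_of {r : ℕ} {ι : Type} [Fintype ι] [DecidableEq ι] (Q : QuadraticForm F (ι → F)) (hQ : Nondeg Q)
    (h5 : 5 ≤ Fintype.card ι) (h : CrossRow r (isometryGroup F ⇑Q)) : CrossRow r (POmega F ⇑Q) := by
  have h1 : CrossRow r (Omega F ⇑Q) :=
    CrossRow.of_normal (Omega F ⇑Q) (exists_index_two_pow _ (mul_self_mem_Omega Q hQ h5)) h
  refine CrossRow.quot (QuotientGroup.mk' (Subgroup.center (Omega F ⇑Q))) (QuotientGroup.mk'_surjective _) ?_ h1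
  rw [QuotientGroup.ker_mk']

theorem crossRow_POmegaPlus (r : ℕ) [Fact r.Prime] (F : Type) [Field F] [Fintype F] [CharP F r] (m : ℕ) (hm : 4 ≤ m) :
    CrossRow r (Cfsg.POmega F (Cfsg.quadFormPlus m F)) := by
  rw [← coe_plusForm]
  refine crossRow_POmega_of _ (nondeg_plusForm m F) ?_ ?_
  · rw [Fintype.card_sum, Fintype.card_fin]
    omega
  · rw [coe_plusForm]
    obtain ⟨e⟩ := (isOE_plus (F := F) m).plusEquiv (by omega)
    exact CrossRow.congr e.symm ((famEven F).crossRow (Fact.out : r.Prime) (isOE_plus (F := F) m))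

theorem crossRow_POmegaMinus (r : ℕ) [Fact r.Prime] (F : Type) [Field F] [Fintype F] [CharP F r] (m : ℕ) (a b : F)
    (hm : 4 ≤ m) (hab : ∀ z₁ z₂ : F, z₁ ^ 2 + a * z₁ * z₂ + b * z₂ ^ 2 = 0 → z₁ = 0 ∧ z₂ = 0) :
    CrossRow r (Cfsg.POmega F (Cfsg.quadFormMinus (m - 1) F a b)) := by
  rw [← coe_minusForm]
  refine crossRow_POmega_of _ (nondeg_minusForm (m - 1) F a b hab) ?_ ?_
  · simp only [Fintype.card_sum, Fintype.card_fin]
    omega
  · rw [coe_minusForm]
    have h1 := isOE_minus (F := F) (m - 1) hab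
    obtain ⟨e⟩ := h1.minusEquiv (by omega) hab
    exact CrossRow.congr e.symm ((famEven F).crossRow (Fact.out : r.Prime) h1)

theorem crossRow_POmegaOdd (r : ℕ) [Fact r.Prime] (F : Type) [Field F] [Fintype F] [CharP F r] (m : ℕ) (hm : 3 ≤ m)
    (hF : Odd (Fintype.card F)) : CrossRow r (Cfsg.POmega F (Cfsg.quadFormOdd m F)) := by
  have h2 : (2 : F) ≠ 0 := H377.OOdd.two_ne_zero_of_odd (by rwa [Nat.card_eq_fintype_card])
  rw [← coe_oddForm]
  refine crossRow_POmega_of _ (nondeg_oddForm m F h2) ?_ ?_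
  · simp only [Fintype.card_sum, Fintype.card_fin, Fintype.card_unit]
    omega
  · rw [coe_oddForm]
    obtain ⟨e⟩ := (isOO_std h2 m).oddEquiv
    exact CrossRow.congr e.symm ((famOdd F hF h2).crossRow (Fact.out : r.Prime) (n := m) (ε := 1)
      ⟨isOO_std h2 m, Or.inl rfl⟩)

end Final

end Cfsg.Agent.H17.CR
end

private theorem dce_59dd57e557d0 : _root_.True := by
  try have : _root_.True := by simp only [_root_.Cfsg.Agent.H17.CR.nu.eq_1]
  try have : _root_.True := by simp only [_root_.Cfsg.Agent.H17.CR.NN.eq_1]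
  try have : _root_.True := by simp only [_root_.Cfsg.Agent.H17.CR.dd.eq_1]
  try have : _root_.True := by simp only [_root_.Cfsg.Agent.H17.CR.ev.eq_1]
  try have : _root_.True := by simp only [_root_.Cfsg.Agent.H17.CR.Eig.HH.eq_1]
  try have : _root_.True := by simp only [_root_.Cfsg.Agent.H17.CR.Eig.R.eq_1]
  exact _root_.True.intro
end

-- part: H234/CycMult
section
set_option linter.all false
open scoped Cfsg.Agent.FastGrp

/-!
# Multiplicities of cyclotomic polynomials in the characteristic polynomial (helper234)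

`θ` an endomorphism of finite order of a free `ℤ`-module of rank `l`, `q` of order `n` modulo the prime `r` and of order `m`
modulo the prime `s`, `n ≠ m`: if `(r ^ v) ^ a` divides `χ_θ(q)`, where `r ^ v` is the `r`-part of `Φ_n(q)`, and `s ∣ χ_θ(q)`,
then `a φ(n) + φ(m) ≤ l`.
-/

set_option autoImplicit false

namespace Cfsg.Agent.H234.CycMult

open Polynomial Module

variable {M : Type*} [AddCommGroup M] [Module.Free ℤ M] [Module.Finite ℤ M]

/-- the characteristic polynomial is a product of cyclotomic polynomials -/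
theorem exists_multiset (θ : Module.End ℤ M) {N : ℕ} (hN : 0 < N) (hθ : θ ^ N = 1) :
    ∃ J : Multiset ℕ, (∀ j ∈ J, 0 < j) ∧ θ.charpoly = (J.map (fun j => cyclotomic j ℤ)).prod := by
  have key : ∀ (d : ℕ) (g : ℤ[X]), g.natDegree ≤ d → g.Monic → g ∣ θ.charpoly →
      ∃ J : Multiset ℕ, (∀ j ∈ J, 0 < j) ∧ g = (J.map (fun j => cyclotomic j ℤ)).prod := by
    intro d
    induction d with
    | zero =>
      intro g hg hgm _
      exact ⟨0, by simp, by rw [hgm.natDegree_eq_zero.1 (Nat.le_zero.1 hg)]; simp⟩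
    | succ d ih =>
      intro g hg hgm hgd
      by_cases hirr : Irreducible g
      · obtain ⟨k, hk, hk'⟩ := H169.CycDvd.eq_cyclotomic θ hN hθ hirr hgm hgd
        exact ⟨{k}, by simpa using hk, by simpa using hk'⟩
      · by_cases hg1 : g = 1
        · exact ⟨0, by simp, by rw [hg1]; simp⟩
        · rw [hgm.irreducible_iff_natDegree] at hirr
          push Not at hirr
          obtain ⟨a, b, ha, hb, hab, hda, hdb⟩ := hirr hg1
          have hdeg := ha.natDegree_mul hb
          rw [hab] at hdeg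
          obtain ⟨J1, h1, h2⟩ := ih a (by omega) ha ((Dvd.intro b hab).trans hgd)
          obtain ⟨J2, h3, h4⟩ := ih b (by omega) hb ((Dvd.intro_left a hab).trans hgd)
          refine ⟨J1 + J2, fun j hj => ?_, ?_⟩
          · rcases Multiset.mem_add.1 hj with h | h
            · exact h1 j h
            · exact h3 j h
          · rw [Multiset.map_add, Multiset.prod_add, ← h2, ← h4, hab]
  exact key _ _ le_rfl (LinearMap.charpoly_monic θ) dvd_rfl

/-- the degree -/
theorem natDegree_prod (J : Multiset ℕ) :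
    ((J.map (fun j => cyclotomic j ℤ)).prod).natDegree = (J.map Nat.totient).sum := by
  induction J using Multiset.induction_on with
  | empty => simp
  | cons a J ih =>
    rw [Multiset.map_cons, Multiset.prod_cons, Multiset.map_cons, Multiset.sum_cons,
      (cyclotomic.monic a ℤ).natDegree_mul (monic_multiset_prod_of_monic _ _ fun j _ => cyclotomic.monic j ℤ), ih,
      natDegree_cyclotomic]

/-- `r ∣ Φ_j(q)` : `j = n r^i` -/
theorem eq_of_dvd {r : ℕ} (hr : r.Prime) {q : ℤ} {j : ℕ} (hj : 0 < j)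
    (h : (r : ℤ) ∣ (cyclotomic j ℤ).eval q) {l : ℕ} (hjl : j.totient ≤ l)
    (hl : l < (orderOf (q : ZMod r)).totient * (r - 1)) : j = orderOf (q : ZMod r) := by
  have hrf : Fact r.Prime := ⟨hr⟩
  obtain ⟨i, j', hj', rfl⟩ := Nat.exists_eq_pow_mul_and_not_dvd hj.ne' r hr.ne_one
  have hkz : NeZero (j' : ZMod r) := ⟨by
    rw [Ne, ZMod.natCast_eq_zero_iff]
    exact hj'⟩
  have hroot : IsRoot (cyclotomic (r ^ i * j') (ZMod r)) (q : ZMod r) := by
    rw [← map_cyclotomic _ (Int.castRingHom (ZMod r)), IsRoot, eval_map]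
    have h1 : eval₂ (Int.castRingHom (ZMod r)) (q : ZMod r) (cyclotomic (r ^ i * j') ℤ) =
        Int.castRingHom (ZMod r) (eval q (cyclotomic (r ^ i * j') ℤ)) := by
      simp
    rw [h1]
    exact (ZMod.intCast_zmod_eq_zero_iff_dvd _ _).2 h
  rw [isRoot_cyclotomic_prime_pow_mul_iff_of_charP] at hroot
  have h2 := hroot.eq_orderOf
  rcases Nat.eq_zero_or_pos i with h0 | h0
  · rw [h0, pow_zero, one_mul, h2]
  · exfalso
    have h3 : (r ^ i * j').totient = (r ^ i).totient * j'.totient :=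
      Nat.totient_mul (Nat.Coprime.pow_left _ ((Nat.Prime.coprime_iff_not_dvd hr).2 hj'))
    have h4 : r - 1 ≤ (r ^ i).totient := by
      have h5 : r ∣ r ^ i := dvd_pow_self r h0.ne'
      have h6 := Nat.le_of_dvd (Nat.totient_pos.2 (pow_pos hr.pos i)) (Nat.totient_dvd_of_dvd h5)
      rwa [Nat.totient_prime hr] at h6
    have h5 : j'.totient * (r - 1) ≤ (r ^ i * j').totient := by
      rw [h3, mul_comm]
      exact Nat.mul_le_mul_right _ h4
    rw [← h2] at hl
    omega

/-- **Multiplicities.** -/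
theorem mul_totient_add_le (θ : Module.End ℤ M) {N : ℕ} (hN : 0 < N) (hθ : θ ^ N = 1) {r s : ℕ} (hr : r.Prime)
    (hs : s.Prime) {q : ℤ} (hrl : finrank ℤ M < (orderOf (q : ZMod r)).totient * (r - 1))
    (hsl : finrank ℤ M < (orderOf (q : ZMod s)).totient * (s - 1)) {v a : ℕ} (hv : 0 < v) {b : ℤ}
    (hb : (cyclotomic (orderOf (q : ZMod r)) ℤ).eval q = (r ^ v : ℕ) * b) (hrb : ¬ (r : ℤ) ∣ b)
    (hqr : (((r ^ v) ^ a : ℕ) : ℤ) ∣ θ.charpoly.eval q) (hqs : (s : ℤ) ∣ θ.charpoly.eval q)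
    (hne : orderOf (q : ZMod r) ≠ orderOf (q : ZMod s)) :
    a * (orderOf (q : ZMod r)).totient + (orderOf (q : ZMod s)).totient ≤ finrank ℤ M := by
  classical
  obtain ⟨n, hn⟩ : ∃ n, n = orderOf (q : ZMod r) := ⟨_, rfl⟩
  obtain ⟨m, hm⟩ : ∃ m, m = orderOf (q : ZMod s) := ⟨_, rfl⟩
  obtain ⟨J, hJ0, hJ⟩ := exists_multiset θ hN hθ
  have hrZ := Nat.prime_iff_prime_int.1 hr
  have hsZ := Nat.prime_iff_prime_int.1 hs
  have hdeg : (J.map Nat.totient).sum = finrank ℤ M := by
    rw [← natDegree_prod, ← hJ, LinearMap.charpoly_natDegree]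
  have hle : ∀ j ∈ J, j.totient ≤ finrank ℤ M := by
    intro j hj
    rw [← hdeg]
    exact Multiset.single_le_sum (fun _ _ => Nat.zero_le _) _ (Multiset.mem_map_of_mem _ hj)
  have heval : θ.charpoly.eval q = (J.map (fun j => (cyclotomic j ℤ).eval q)).prod := by
    rw [hJ, eval_multiset_prod, Multiset.map_map]
    rfl
  -- `m ∈ J`
  have hmJ : m ∈ J := by
    rw [heval] at hqs
    obtain ⟨x, hx, hx'⟩ := hsZ.exists_mem_multiset_dvd hqs
    obtain ⟨j, hj, rfl⟩ := Multiset.mem_map.1 hx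
    have := eq_of_dvd hs (hJ0 j hj) hx' (hle j hj) hsl
    rw [hm, ← this]
    exact hj
  -- the multiplicity of `n`
  have hcount : a ≤ J.count n := by
    have h1 : J = J.filter (fun j => n = j) + J.filter (fun j => ¬ n = j) := (Multiset.filter_add_not _ J).symm
    have h2 : θ.charpoly.eval q = ((cyclotomic n ℤ).eval q) ^ J.count n *
        ((J.filter (fun j => ¬ n = j)).map (fun j => (cyclotomic j ℤ).eval q)).prod := by
      rw [heval]
      conv_lhs => rw [h1]
      rw [Multiset.map_add, Multiset.prod_add]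
      congr 1
      rw [Multiset.filter_eq, Multiset.map_replicate, Multiset.prod_replicate]
    have h3 : ¬ (r : ℤ) ∣ ((J.filter (fun j => ¬ n = j)).map (fun j => (cyclotomic j ℤ).eval q)).prod := by
      intro h
      obtain ⟨x, hx, hx'⟩ := hrZ.exists_mem_multiset_dvd h
      obtain ⟨j, hj, rfl⟩ := Multiset.mem_map.1 hx
      obtain ⟨hj1, hj2⟩ := Multiset.mem_filter.1 hj
      exact hj2 (by rw [hn]; exact (eq_of_dvd hr (hJ0 j hj1) hx' (hle j hj1) hrl).symm)
    have h4 : IsCoprime (((r ^ v) ^ a : ℕ) : ℤ)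
        ((J.filter (fun j => ¬ n = j)).map (fun j => (cyclotomic j ℤ).eval q)).prod := by
      push_cast
      apply IsCoprime.pow_left
      apply IsCoprime.pow_left
      rw [hrZ.irreducible.coprime_iff_not_dvd]
      exact h3
    rw [h2] at hqr
    have h5 := h4.dvd_of_dvd_mul_right hqr
    rw [hn, hb, mul_pow] at h5
    have h6 : IsCoprime (((r ^ v) ^ a : ℕ) : ℤ) (b ^ J.count n) := by
      push_cast
      apply IsCoprime.pow_left
      apply IsCoprime.pow_left
      apply IsCoprime.pow_right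
      rw [hrZ.irreducible.coprime_iff_not_dvd]
      exact hrb
    rw [hn] at h6
    have h7 := h6.dvd_of_dvd_mul_right h5
    have h8 : (r ^ v) ^ a ∣ (r ^ v) ^ J.count (orderOf (q : ZMod r)) := by
      exact_mod_cast h7
    rw [hn]
    exact (Nat.pow_dvd_pow_iff_le_right (Nat.one_lt_pow hv.ne' hr.one_lt)).1 h8
  -- the degrees
  have hmn : n ≠ m := by rw [hn, hm]; exact hne
  have h1 : J.count n * n.totient + m.totient ≤ (J.map Nat.totient).sum := by
    obtain ⟨J', rfl⟩ := Multiset.exists_cons_of_mem hmJ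
    rw [Multiset.map_cons, Multiset.sum_cons, Multiset.count_cons_of_ne hmn, add_comm]
    refine Nat.add_le_add_left ?_ _
    have h2 : J' = J'.filter (fun j => n = j) + J'.filter (fun j => ¬ n = j) := (Multiset.filter_add_not _ J').symm
    conv_rhs => rw [h2]
    rw [Multiset.map_add, Multiset.sum_add, Multiset.filter_eq, Multiset.map_replicate, Multiset.sum_replicate,
      smul_eq_mul]
    exact Nat.le_add_right _ _
  rw [hdeg] at h1
  rw [← hn, ← hm]
  exact le_trans (Nat.add_le_add_right (Nat.mul_le_mul_right _ hcount) _) h1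

end Cfsg.Agent.H234.CycMult
end

-- part: H625/NHLin
section
prune_inst 0x300000000000000000000000000000002
set_option linter.all false
open scoped Cfsg.Agent.FastGrp

/-!
Elements of `SL_n(F)` acting as an element of an extension field on a subspace and diagonally on a
complement: centralizer orders.
-/

set_option autoImplicit false

namespace Cfsg.Agent.H625.NHLin

open Module

section Block

variable {F K : Type*} [Field F] [Field K] [Algebra F K] {ι : Type*}

/-- An endomorphism of `K × F^ι` commuting with `(ζ, δ)` (`K = F(ζ) ≠ F`) is block diagonal. -/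
theorem block_of_comm (ζ : K) (δ : ι → F) [Finite ι] (hζ : Algebra.adjoin F {ζ} = ⊤)
    (hne : ∀ a : F, algebraMap F K a ≠ ζ)
    (g : (K × (ι → F)) →ₗ[F] (K × (ι → F)))
    (hg : ∀ v : K × (ι → F), g (ζ * v.1, fun j => δ j * v.2 j) = (ζ * (g v).1, fun j => δ j * (g v).2 j)) :
    ∃ (a : K) (β : (ι → F) →ₗ[F] (ι → F)), ∀ v : K × (ι → F), g v = (a * v.1, β v.2) := by
  classical
  have := Fintype.ofFinite ι
  -- `K → F^ι` vanishes
  have h1 : ∀ k : K, (g (k, 0)).2 = 0 := by
    intro k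
    funext j
    have hz : ζ - algebraMap F K (δ j) ≠ 0 := sub_ne_zero.2 (hne (δ j)).symm
    set k' : K := (ζ - algebraMap F K (δ j))⁻¹ * k with hk'
    have h2 : ζ * k' - algebraMap F K (δ j) * k' = k := by
      rw [← sub_mul, hk', ← mul_assoc, mul_inv_cancel₀ hz, one_mul]
    have h3 : g (ζ * k', 0) = (ζ * (g (k', 0)).1, fun j => δ j * (g (k', 0)).2 j) := by
      have h6 := hg (k', 0)
      have h7 : (fun j => δ j * ((k', (0 : ι → F)) : K × (ι → F)).2 j) = 0 := by
        funext j; simp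
      rw [h7] at h6
      exact h6
    have h4 : g (algebraMap F K (δ j) * k', 0) = δ j • g (k', 0) := by
      rw [← map_smul]
      congr 1
      ext
      · simp [Algebra.smul_def]
      · simp
    have h5 : (k, (0 : ι → F)) = (ζ * k', 0) - (algebraMap F K (δ j) * k', 0) := by
      ext
      · simp [h2]
      · simp
    rw [h5, map_sub, h3, h4]
    simp
  have h2 : ∀ w : ι → F, (g (0, w)).1 = 0 := by
    have hsing : ∀ j : ι, (g (0, Pi.single j 1)).1 = 0 := by
      intro j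
      have hz : ζ - algebraMap F K (δ j) ≠ 0 := sub_ne_zero.2 (hne (δ j)).symm
      have h3 := hg (0, Pi.single j 1)
      have h4 : (ζ * ((0 : K), (Pi.single j 1 : ι → F)).1,
          fun i => δ i * ((0 : K), (Pi.single j 1 : ι → F)).2 i) = δ j • ((0 : K), (Pi.single j 1 : ι → F)) := by
        ext i
        · simp
        · by_cases hij : i = j
          · subst hij; simp
          · simp [hij]
      rw [h4, map_smul] at h3
      have h5 := congrArg Prod.fst h3
      have h6 : (ζ - algebraMap F K (δ j)) * (g (0, Pi.single j 1)).1 = 0 := by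
        have h7 : (δ j • g (0, Pi.single j 1)).1 = ζ * (g (0, Pi.single j 1)).1 := h5
        rw [Prod.smul_fst, Algebra.smul_def] at h7
        rw [sub_mul, ← h7, sub_self]
      exact (mul_eq_zero.1 h6).resolve_left hz
    intro w
    have h3 : ((0 : K), w) = ∑ j, w j • ((0 : K), (Pi.single j 1 : ι → F)) := by
      ext i
      · simp [Prod.fst_sum]
      · simp [Prod.snd_sum, Finset.sum_apply, Pi.single_apply]
    rw [h3, map_sum, Prod.fst_sum]
    refine Finset.sum_eq_zero fun j _ => ?_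
    rw [map_smul, Prod.smul_fst, hsing, smul_zero]
  have h3 : ∀ x : K, ∀ k : K, (g (x * k, 0)).1 = x * (g (k, 0)).1 := by
    intro x
    have hx : x ∈ Algebra.adjoin F {ζ} := by rw [hζ]; trivial
    induction hx using Algebra.adjoin_induction with
    | mem x hx =>
      rw [Set.mem_singleton_iff] at hx
      subst hx
      intro k
      have h6 := hg (k, 0)
      have h7 : (fun j => δ j * ((k, (0 : ι → F)) : K × (ι → F)).2 j) = 0 := by
        funext j; simp
      rw [h7] at h6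
      exact congrArg Prod.fst h6
    | algebraMap a =>
      intro k
      have h4 : ((algebraMap F K a * k, 0) : K × (ι → F)) = a • (k, 0) := by
        ext
        · simp [Algebra.smul_def]
        · simp
      rw [h4, map_smul, Prod.smul_fst, Algebra.smul_def]
    | add x y _ _ hx hy =>
      intro k
      have h4 : (((x + y) * k, 0) : K × (ι → F)) = (x * k, 0) + (y * k, 0) := by
        ext
        · simp [add_mul]
        · simp
      rw [h4, map_add, Prod.fst_add, hx, hy, add_mul]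
    | mul x y _ _ hx hy =>
      intro k
      rw [mul_assoc, hx, hy, mul_assoc]
  refine ⟨(g (1, 0)).1, LinearMap.snd F K (ι → F) ∘ₗ g ∘ₗ LinearMap.inr F K (ι → F), fun v => ?_⟩
  have h4 : v = (v.1, 0) + (0, v.2) := by ext <;> simp
  have h5 : g v = g (v.1, 0) + g (0, v.2) := by rw [← map_add, ← h4]
  ext i
  · rw [h5, Prod.fst_add, h2, add_zero]
    have := h3 v.1 1
    rw [mul_one] at this
    rw [this, mul_comm]
  · rw [h5, Prod.snd_add, h1, zero_add]
    rfl

/-- Block diagonal units. -/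
noncomputable def blk (F K ι : Type*) [Field F] [Field K] [Algebra F K] :
    Kˣ × ((ι → F) →ₗ[F] (ι → F))ˣ →* ((K × (ι → F)) →ₗ[F] (K × (ι → F)))ˣ :=
  (Units.map (LinearMap.prodMapRingHom F K (ι → F) : _ →* _)).comp
    ((MulEquiv.prodUnits.symm.toMonoidHom).comp
      ((Units.map ((Algebra.lmul F K : K →ₐ[F] Module.End F K) : K →* Module.End F K)).prodMap
        (MonoidHom.id _)))

theorem blk_apply (a : Kˣ) (β : ((ι → F) →ₗ[F] (ι → F))ˣ) (v : K × (ι → F)) :
    (blk F K ι (a, β) : (K × (ι → F)) →ₗ[F] (K × (ι → F))) v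
      = ((a : K) * v.1, (β : (ι → F) →ₗ[F] (ι → F)) v.2) := rfl

theorem blk_det [Finite ι] [FiniteDimensional F K] (a : Kˣ) (β : ((ι → F) →ₗ[F] (ι → F))ˣ) :
    LinearMap.det (blk F K ι (a, β) : (K × (ι → F)) →ₗ[F] (K × (ι → F)))
      = Algebra.norm F (a : K) * LinearMap.det (β : (ι → F) →ₗ[F] (ι → F)) := by
  have h : (blk F K ι (a, β) : (K × (ι → F)) →ₗ[F] (K × (ι → F)))
      = (Algebra.lmul F K (a : K)).prodMap (β : (ι → F) →ₗ[F] (ι → F)) := rfl
  rw [h, LinearMap.det_prodMap, Algebra.norm_apply]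

/-- The diagonal unit. -/
noncomputable def dg (F ι : Type*) [Field F] [DecidableEq ι] [Fintype ι] :
    (ι → Fˣ) →* ((ι → F) →ₗ[F] (ι → F))ˣ :=
  (Units.map ((Matrix.toLinAlgEquiv' : Matrix ι ι F ≃ₐ[F] _) : Matrix ι ι F →* _)).comp
    ((Units.map (Matrix.diagonalRingHom ι F : (ι → F) →* Matrix ι ι F)).comp
      (MulEquiv.piUnits.symm.toMonoidHom))

variable [DecidableEq ι] [Fintype ι]

theorem dg_apply (δ : ι → Fˣ) (w : ι → F) (i : ι) :
    (dg F ι δ : (ι → F) →ₗ[F] (ι → F)) w i = δ i * w i := by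
  show Matrix.toLin' (Matrix.diagonal fun i => (δ i : F)) w i = _
  rw [Matrix.toLin'_apply, Matrix.mulVec_diagonal]

theorem dg_det (δ : ι → Fˣ) :
    LinearMap.det (dg F ι δ : (ι → F) →ₗ[F] (ι → F)) = ∏ i, (δ i : F) := by
  show LinearMap.det (Matrix.toLin' (Matrix.diagonal fun i => (δ i : F))) = _
  rw [LinearMap.det_toLin', Matrix.det_diagonal]

theorem centralizer_le (ζ : Kˣ) (δ : ι → Fˣ) (hζ : Algebra.adjoin F {(ζ : K)} = ⊤)
    (hne : ∀ a : F, algebraMap F K a ≠ ζ) :
    Subgroup.centralizer {blk F K ι (ζ, dg F ι δ)} ≤ (blk F K ι).range := by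
  have key : ∀ g : ((K × (ι → F)) →ₗ[F] (K × (ι → F)))ˣ,
      g ∈ Subgroup.centralizer {blk F K ι (ζ, dg F ι δ)} →
      ∃ (a : K) (β : (ι → F) →ₗ[F] (ι → F)), ∀ v : K × (ι → F),
        (g : (K × (ι → F)) →ₗ[F] (K × (ι → F))) v = (a * v.1, β v.2) := by
    intro g hg
    refine block_of_comm (ζ : K) (fun j => (δ j : F)) hζ hne g fun v => ?_
    rw [Subgroup.mem_centralizer_singleton_iff] at hg
    have h1 : (g : (K × (ι → F)) →ₗ[F] (K × (ι → F)))
          ((blk F K ι (ζ, dg F ι δ) : (K × (ι → F)) →ₗ[F] (K × (ι → F))) v)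
        = (blk F K ι (ζ, dg F ι δ) : (K × (ι → F)) →ₗ[F] (K × (ι → F)))
          ((g : (K × (ι → F)) →ₗ[F] (K × (ι → F))) v) := by
      have := congrArg (fun u : ((K × (ι → F)) →ₗ[F] (K × (ι → F)))ˣ =>
        (u : (K × (ι → F)) →ₗ[F] (K × (ι → F))) v) hg
      simpa using this
    rw [blk_apply, blk_apply] at h1
    have e1 : ∀ w : ι → F, (dg F ι δ : (ι → F) →ₗ[F] (ι → F)) w = fun j => (δ j : F) * w j :=
      fun w => funext fun j => dg_apply δ w j
    rw [e1, e1] at h1
    exact h1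
  intro g hg
  obtain ⟨a, β, h1⟩ := key g hg
  obtain ⟨a', β', h2⟩ := key g⁻¹ (Subgroup.inv_mem _ hg)
  have h3 : ∀ v : K × (ι → F), (a * (a' * v.1), β (β' v.2)) = v := by
    intro v
    rw [← h1 (a' * v.1, β' v.2), ← h2 v]
    have : ((g * g⁻¹ : ((K × (ι → F)) →ₗ[F] (K × (ι → F)))ˣ) : (K × (ι → F)) →ₗ[F] (K × (ι → F))) v = v := by
      rw [mul_inv_cancel]; rfl
    exact this
  have h4 : ∀ v : K × (ι → F), (a' * (a * v.1), β' (β v.2)) = v := by
    intro v
    rw [← h2 (a * v.1, β v.2), ← h1 v]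
    have : ((g⁻¹ * g : ((K × (ι → F)) →ₗ[F] (K × (ι → F)))ˣ) : (K × (ι → F)) →ₗ[F] (K × (ι → F))) v = v := by
      rw [inv_mul_cancel]; rfl
    exact this
  have ha : a * a' = 1 := by
    have := congrArg Prod.fst (h3 (1, 0))
    simpa using this
  have ha' : a' * a = 1 := by rw [mul_comm]; exact ha
  refine ⟨(⟨a, a', ha, ha'⟩, ⟨β, β', LinearMap.ext fun w => ?_, LinearMap.ext fun w => ?_⟩),
    Units.ext (LinearMap.ext fun v => ?_)⟩
  · have := congrArg Prod.snd (h3 (0, w))
    simpa using this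
  · have := congrArg Prod.snd (h4 (0, w))
    simpa using this
  · rw [blk_apply, h1]

end Block

end Cfsg.Agent.H625.NHLin
end

-- part: H625/NHArith
section
prune_inst 0x2
set_option linter.all false
open scoped Cfsg.Agent.FastGrp

/-!
Arithmetic and field theory for the rows of the nilpotent Hall cluster.
-/

set_option autoImplicit false

namespace Cfsg.Agent.H625.NHArith

open Module

/-- A central quotient: `|G : C(x)|` and `|G/Z : C(xZ)|` differ by a power of `p` for a `p`-element. -/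
theorem dvd_index_quot {G : Type*} [Group G] [Finite G] (Z : Subgroup G) [Z.Normal]
    (hZ : Z ≤ Subgroup.center G) {p q : ℕ} (hp : p.Prime) (hq : q.Prime) (hpq : p ≠ q) (x : G)
    (hx : ∃ k : ℕ, orderOf x = p ^ k) (hd : q ∣ (Subgroup.centralizer ({x} : Set G)).index) :
    q ∣ (Subgroup.centralizer ({(QuotientGroup.mk x : G ⧸ Z)} : Set (G ⧸ Z))).index := by
  obtain ⟨k, hk⟩ := hx
  set D : Subgroup G := (Subgroup.centralizer ({(QuotientGroup.mk x : G ⧸ Z)} : Set (G ⧸ Z))).comap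
    (QuotientGroup.mk' Z) with hD
  have hDi : D.index = (Subgroup.centralizer ({(QuotientGroup.mk x : G ⧸ Z)} : Set (G ⧸ Z))).index :=
    Subgroup.index_comap_of_surjective _ (QuotientGroup.mk'_surjective Z)
  rw [← hDi]
  have hCD : Subgroup.centralizer ({x} : Set G) ≤ D := by
    intro g hg
    rw [Subgroup.mem_centralizer_singleton_iff] at hg
    rw [hD, Subgroup.mem_comap, Subgroup.mem_centralizer_singleton_iff]
    show (QuotientGroup.mk g : G ⧸ Z) * QuotientGroup.mk x = QuotientGroup.mk x * QuotientGroup.mk g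
    rw [← QuotientGroup.mk_mul, hg, QuotientGroup.mk_mul]
  have hmem : ∀ d ∈ D, d * x * d⁻¹ * x⁻¹ ∈ Z := by
    intro d hd
    rw [hD, Subgroup.mem_comap, Subgroup.mem_centralizer_singleton_iff] at hd
    have h1 : (QuotientGroup.mk d : G ⧸ Z) * QuotientGroup.mk x = QuotientGroup.mk x * QuotientGroup.mk d := hd
    rw [← QuotientGroup.eq_one_iff]
    simp only [QuotientGroup.mk_mul, QuotientGroup.mk_inv]
    rw [h1]
    group
  have hcen : ∀ z ∈ Z, ∀ g : G, z * g = g * z := fun z hz g =>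
    (Subgroup.mem_center_iff.1 (hZ hz) g).symm
  let f : D →* G :=
    { toFun := fun d => (d : G) * x * (d : G)⁻¹ * x⁻¹
      map_one' := by simp
      map_mul' := by
        intro a b
        have h1 := hcen _ (hmem b b.2)
        show (a * b : G) * x * (a * b : G)⁻¹ * x⁻¹ = (a * x * (a : G)⁻¹ * x⁻¹) * (b * x * (b : G)⁻¹ * x⁻¹)
        have h2 : (a * b : G) * x * (a * b : G)⁻¹ * x⁻¹
            = a * (b * x * (b : G)⁻¹ * x⁻¹) * x * (a : G)⁻¹ * x⁻¹ := by group
        rw [h2, ← h1 (a : G)]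
        have h3 : (b * x * (b : G)⁻¹ * x⁻¹) * a * x * (a : G)⁻¹ * x⁻¹
            = (b * x * (b : G)⁻¹ * x⁻¹) * (a * x * (a : G)⁻¹ * x⁻¹) := by group
        rw [h3, h1] }
  have hfk : f.ker = (Subgroup.centralizer ({x} : Set G)).subgroupOf D := by
    ext d
    rw [MonoidHom.mem_ker, Subgroup.mem_subgroupOf, Subgroup.mem_centralizer_singleton_iff]
    show (d : G) * x * (d : G)⁻¹ * x⁻¹ = 1 ↔ _
    rw [mul_inv_eq_one, mul_inv_eq_iff_eq_mul]
  have hpg : IsPGroup p f.range := by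
    rintro ⟨_, d, rfl⟩
    refine ⟨k, Subtype.ext ?_⟩
    show (f d) ^ p ^ k = 1
    have h1 : f d * x = d * x * (d : G)⁻¹ := by
      show (d : G) * x * (d : G)⁻¹ * x⁻¹ * x = _
      group
    have hc : Commute (f d) x := hcen _ (hmem d d.2) x
    have h2 : (f d * x) ^ p ^ k = 1 := by
      rw [h1, conj_pow, ← hk, pow_orderOf_eq_one]
      group
    rwa [hc.mul_pow, ← hk, pow_orderOf_eq_one x, mul_one, hk] at h2
  have : Fact p.Prime := ⟨hp⟩
  obtain ⟨j, hj⟩ := hpg.exists_card_eq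
  have h1 : (Subgroup.centralizer ({x} : Set G)).relIndex D = p ^ j := by
    rw [Subgroup.relIndex, ← hfk, Subgroup.index_ker, hj]
  rw [← Subgroup.relIndex_mul_index hCD, h1] at hd
  rcases (Nat.Prime.dvd_mul hq).1 hd with h | h
  · exact absurd ((Nat.prime_dvd_prime_iff_eq hq hp).1 (hq.dvd_of_dvd_pow h)) hpq.symm
  · exact h

/-- `q ^ d ≡ 1 (mod s)` iff the order of `q` divides `d`. -/
theorem dvd_pow_sub_one_iff {q s d : ℕ} (hq : 0 < q) : s ∣ q ^ d - 1 ↔ orderOf (q : ZMod s) ∣ d := by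
  rw [orderOf_dvd_iff_pow_eq_one, ← Nat.cast_pow, ← (ZMod.natCast_eq_zero_iff (q ^ d - 1) s),
    Nat.cast_sub (Nat.one_le_pow _ _ hq), sub_eq_zero]
  simp

/-- An extension of degree `m` generated by an `s`-element. -/
theorem exists_gen (F : Type*) [Field F] [Fintype F] {m s : ℕ} (hm : 0 < m) (hs : s.Prime)
    (hgen : ∀ d : ℕ, d ∣ m → d < m → ¬ s ^ (Fintype.card F ^ m - 1).factorization s ∣ Fintype.card F ^ d - 1) :
    ∃ (K : Type) (_ : Field K) (_ : Algebra F K) (_ : Finite K) (_ : FiniteDimensional F K) (ζ : Kˣ),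
      finrank F K = m ∧ (∃ k : ℕ, orderOf ζ = s ^ k) ∧ Algebra.adjoin F {(ζ : K)} = ⊤ := by
  obtain ⟨p, hp⟩ := CharP.exists F
  have : Fact p.Prime := ⟨CharP.char_is_prime F p⟩
  obtain ⟨K, _, _, _, _, a, hK, ha, hcK⟩ := H159.exists_field_gen F p m hm.ne'
  set N := Fintype.card F ^ m - 1 with hN
  have hcF : 1 < Fintype.card F := Fintype.one_lt_card
  have hN0 : N ≠ 0 := by
    have : 1 < Fintype.card F ^ m := Nat.one_lt_pow hm.ne' hcF
    omega
  set k := N.factorization s with hk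
  have hdvd : s ^ k ∣ N := Nat.ordProj_dvd N s
  refine ⟨K, inferInstance, inferInstance, inferInstance, inferInstance, a ^ (N / s ^ k), hK, ⟨k, ?_⟩, ?_⟩
  · rw [orderOf_pow, ha, Nat.gcd_eq_right (Nat.div_dvd_of_dvd hdvd), Nat.div_div_self hdvd hN0]
  · set ζ := a ^ (N / s ^ k) with hζ
    have hoz : orderOf ζ = s ^ k := by
      rw [hζ, orderOf_pow, ha, Nat.gcd_eq_right (Nat.div_dvd_of_dvd hdvd), Nat.div_div_self hdvd hN0]
    set L : IntermediateField F K := IntermediateField.adjoin F {(ζ : K)} with hL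
    have hint : IsIntegral F (ζ : K) := IsIntegral.of_finite F _
    have hLs : L.toSubalgebra = Algebra.adjoin F {(ζ : K)} :=
      IntermediateField.adjoin_simple_toSubalgebra_of_isAlgebraic hint.isAlgebraic
    have hd : finrank F L ∣ m := by
      rw [← hK, ← finrank_mul_finrank F L K]
      exact dvd_mul_right _ _
    have : Fintype L := Fintype.ofFinite L
    have hcL : Nat.card L = Fintype.card F ^ finrank F L := by
      rw [Nat.card_eq_fintype_card, Module.card_eq_pow_finrank (K := F) (V := L)]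
    have hmem : (ζ : K) ∈ L := IntermediateField.mem_adjoin_simple_self F _
    have hsd : s ^ k ∣ Fintype.card F ^ finrank F L - 1 := by
      rw [← hoz, orderOf_dvd_iff_pow_eq_one]
      apply Units.ext
      have h1 : (⟨(ζ : K), hmem⟩ : L) ≠ 0 := by
        intro h
        exact ζ.ne_zero (congrArg Subtype.val h)
      have h2 := FiniteField.pow_card_sub_one_eq_one (⟨(ζ : K), hmem⟩ : L) h1
      rw [← Nat.card_eq_fintype_card, hcL] at h2
      have h3 := congrArg (Subtype.val : L → K) h2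
      simpa using h3
    have hm' : finrank F L = m := by
      by_contra hne
      have hle : finrank F L ≤ m := Nat.le_of_dvd hm hd
      exact hgen _ hd (lt_of_le_of_ne hle hne) hsd
    rw [← hLs]
    have : L = ⊤ := by
      apply IntermediateField.eq_of_le_of_finrank_eq le_top
      rw [hm', IntermediateField.finrank_top', hK]
    rw [this]
    rfl

/-- Case `m` the order of `q` modulo `s`. -/
theorem exists_gen_one (F : Type*) [Field F] [Fintype F] {m s : ℕ} (hm : 0 < m) (hs : s.Prime)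
    (hm' : orderOf (Fintype.card F : ZMod s) = m) :
    ∃ (K : Type) (_ : Field K) (_ : Algebra F K) (_ : Finite K) (_ : FiniteDimensional F K) (ζ : Kˣ),
      finrank F K = m ∧ (∃ k : ℕ, orderOf ζ = s ^ k) ∧ Algebra.adjoin F {(ζ : K)} = ⊤ := by
  refine exists_gen F hm hs fun d hd hlt hdv => ?_
  have hcF : 1 < Fintype.card F := Fintype.one_lt_card
  have hN0 : Fintype.card F ^ m - 1 ≠ 0 := by
    have : 1 < Fintype.card F ^ m := Nat.one_lt_pow hm.ne' hcF
    omega
  have h1 : s ∣ Fintype.card F ^ m - 1 := (dvd_pow_sub_one_iff (by omega)).2 (by rw [hm'])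
  have h2 : s ∣ Fintype.card F ^ d - 1 := by
    refine dvd_trans ?_ hdv
    refine dvd_pow_self s ?_
    have := (hs.dvd_iff_one_le_factorization hN0).1 h1
    omega
  have h3 := (dvd_pow_sub_one_iff (by omega)).1 h2
  rw [hm'] at h3
  have hd0 : 0 < d := Nat.pos_of_dvd_of_pos hd hm
  exact absurd (Nat.le_of_dvd hd0 h3) (by omega)

/-- `s` divides `(q ^ (e * s) - 1) / (q ^ e - 1)` if it divides `q ^ e - 1`. -/
theorem factorization_lt {q e s : ℕ} (hq : 1 < q) (he : 0 < e) (hs : s.Prime) (h : s ∣ q ^ e - 1) :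
    (q ^ e - 1).factorization s < (q ^ (e * s) - 1).factorization s := by
  have h1 : 1 < q ^ e := Nat.one_lt_pow he.ne' hq
  have h2 : 1 < q ^ (e * s) := Nat.one_lt_pow (Nat.mul_ne_zero he.ne' hs.ne_zero) hq
  have hgs : q ^ (e * s) - 1 = (q ^ e - 1) * ∑ i ∈ Finset.range s, (q ^ e) ^ i := by
    rw [pow_mul, mul_comm]
    have := Nat.geomSum_eq (m := q ^ e) (by omega) s
    rw [this, Nat.div_mul_cancel]
    exact Nat.sub_one_dvd_pow_sub_one _ _
  have hsd : s ∣ ∑ i ∈ Finset.range s, (q ^ e) ^ i := by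
    rw [← (ZMod.natCast_eq_zero_iff _ s)]
    have h3 : ((q ^ e : ℕ) : ZMod s) = 1 := by
      have h4 : ((q ^ e - 1 : ℕ) : ZMod s) = 0 := (ZMod.natCast_eq_zero_iff _ s).2 h
      rw [Nat.cast_sub h1.le, Nat.cast_one, sub_eq_zero] at h4
      exact h4
    rw [Nat.cast_sum]
    simp only [Nat.cast_pow] at h3 ⊢
    simp [h3]
  have hs0 : (∑ i ∈ Finset.range s, (q ^ e) ^ i) ≠ 0 := by
    intro h0
    rw [h0, mul_zero] at hgs
    omega
  rw [hgs, Nat.factorization_mul (by omega) hs0, Finsupp.add_apply]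
  have := (hs.dvd_iff_one_le_factorization hs0).1 hsd
  omega

/-- Case `m = e s`. -/
theorem exists_gen_two (F : Type*) [Field F] [Fintype F] {e s : ℕ} (he : 0 < e) (hs : s.Prime)
    (he' : orderOf (Fintype.card F : ZMod s) = e) :
    ∃ (K : Type) (_ : Field K) (_ : Algebra F K) (_ : Finite K) (_ : FiniteDimensional F K) (ζ : Kˣ),
      finrank F K = e * s ∧ (∃ k : ℕ, orderOf ζ = s ^ k) ∧ Algebra.adjoin F {(ζ : K)} = ⊤ := by
  have hcF : 1 < Fintype.card F := Fintype.one_lt_card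
  have h1 : s ∣ Fintype.card F ^ e - 1 := (dvd_pow_sub_one_iff (by omega)).2 (by rw [he'])
  have hlt := factorization_lt hcF he hs h1
  refine exists_gen F (Nat.mul_pos he hs.pos) hs fun d hd hdlt hdv => ?_
  have h2 : s ∣ Fintype.card F ^ d - 1 := by
    refine dvd_trans ?_ hdv
    exact dvd_pow_self s (by omega)
  have h3 := (dvd_pow_sub_one_iff (by omega)).1 h2
  rw [he'] at h3
  obtain ⟨t, rfl⟩ := h3
  have ht : t ∣ s := Nat.dvd_of_mul_dvd_mul_left he hd
  rcases (Nat.dvd_prime hs).1 ht with rfl | rfl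
  · rw [mul_one] at hdv
    have h5 : Fintype.card F ^ e - 1 ≠ 0 := by
      have := Nat.one_lt_pow he.ne' hcF
      omega
    have := (hs.pow_dvd_iff_le_factorization h5).1 hdv
    omega
  · omega

/-- Powers of `q ^ j - 1` for `j = e t`, `t < p`. -/
theorem factorization_eq {q e p t : ℕ} (hq : 1 < q) (he : 0 < e) (hp : p.Prime) (h : p ∣ q ^ e - 1)
    (ht : 0 < t) (htp : t < p) :
    (q ^ (e * t) - 1).factorization p = (q ^ e - 1).factorization p := by
  have h1 : 1 < q ^ e := Nat.one_lt_pow he.ne' hq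
  have h2 : 1 < q ^ (e * t) := Nat.one_lt_pow (Nat.mul_ne_zero he.ne' ht.ne') hq
  have hgs : q ^ (e * t) - 1 = (q ^ e - 1) * ∑ i ∈ Finset.range t, (q ^ e) ^ i := by
    rw [pow_mul, mul_comm]
    have := Nat.geomSum_eq (m := q ^ e) (by omega) t
    rw [this, Nat.div_mul_cancel]
    exact Nat.sub_one_dvd_pow_sub_one _ _
  have hsd : ¬ p ∣ ∑ i ∈ Finset.range t, (q ^ e) ^ i := by
    rw [← (ZMod.natCast_eq_zero_iff _ p)]
    have h3 : ((q ^ e : ℕ) : ZMod p) = 1 := by
      have h4 : ((q ^ e - 1 : ℕ) : ZMod p) = 0 := (ZMod.natCast_eq_zero_iff _ p).2 h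
      rw [Nat.cast_sub h1.le, Nat.cast_one, sub_eq_zero] at h4
      exact h4
    rw [Nat.cast_sum]
    simp only [Nat.cast_pow] at h3 ⊢
    simp only [h3, one_pow, Finset.sum_const, Finset.card_range, nsmul_eq_mul, mul_one]
    rw [ZMod.natCast_eq_zero_iff]
    exact Nat.not_dvd_of_pos_of_lt ht htp
  have hs0 : (∑ i ∈ Finset.range t, (q ^ e) ^ i) ≠ 0 := by
    intro h0
    exact hsd (h0 ▸ dvd_zero _)
  rw [hgs, Nat.factorization_mul (by omega) hs0, Finsupp.add_apply,
    Nat.factorization_eq_zero_of_not_dvd hsd, add_zero]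

end Cfsg.Agent.H625.NHArith
end

-- part: H625/NHSl
section
prune_inst 0x300000000000000000000000000000000
set_option linter.all false
open scoped Cfsg.Agent.FastGrp

/-!
`SL_n(F)`: elements of prime power order with small centralizers, tori.
-/

set_option autoImplicit false

namespace Cfsg.Agent.H625.NHSl

open Module NHLin NHArith

variable {F : Type*} [Field F] [Fintype F]

/-- `N ⊔ C = ⊤` gives `|N : N ∩ C| = |G : C|`. -/
theorem relIndex_eq {G : Type*} [Group G] [Finite G] (N C : Subgroup G) [N.Normal] :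
    C.relIndex N = C.relIndex (N ⊔ C) := by
  have e1 : (C ⊓ N).relIndex C * C.relIndex (N ⊔ C) = (C ⊓ N).relIndex (N ⊔ C) :=
    Subgroup.relIndex_mul_relIndex _ _ _ inf_le_left le_sup_right
  have e2 : (C ⊓ N).relIndex N * N.relIndex (N ⊔ C) = (C ⊓ N).relIndex (N ⊔ C) :=
    Subgroup.relIndex_mul_relIndex _ _ _ inf_le_right le_sup_left
  rw [Subgroup.inf_relIndex_left] at e1
  rw [Subgroup.inf_relIndex_right] at e2
  have e3 : N.relIndex (N ⊔ C) = N.relIndex C := by
    rw [sup_comm]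
    exact Subgroup.relIndex_sup_right (K := N) (H := C)
  rw [e3] at e2
  have h0 : 0 < N.relIndex C := Nat.pos_of_ne_zero Subgroup.index_ne_zero_of_finite
  refine Nat.eq_of_mul_eq_mul_left h0 ?_
  rw [mul_comm, e2, ← e1]

theorem relIndex_dvd {G : Type*} [Group G] [Finite G] (N C : Subgroup G) [N.Normal] :
    C.relIndex N ∣ C.index := by
  rw [relIndex_eq]
  exact Subgroup.relIndex_dvd_index_of_le le_sup_right

theorem relIndex_eq_index {G : Type*} [Group G] [Finite G] (N C : Subgroup G) [N.Normal] (h : N ⊔ C = ⊤) :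
    C.relIndex N = C.index := by
  rw [relIndex_eq, h, Subgroup.relIndex_top_right]

/-- The order of `GL`. -/
theorem card_units_end (V : Type*) [AddCommGroup V] [Module F V] [FiniteDimensional F V] {n : ℕ}
    (hn : finrank F V = n) :
    Nat.card ((V →ₗ[F] V)ˣ) = ∏ i ∈ Finset.range n, (Fintype.card F ^ n - Fintype.card F ^ i) := by
  have e : (V →ₗ[F] V)ˣ ≃* Matrix.GeneralLinearGroup (Fin n) F :=
    Units.mapEquiv ((LinearMap.toMatrixAlgEquiv (finBasisOfFinrankEq F V hn)).toMulEquiv)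
  rw [Nat.card_congr e.toEquiv, Matrix.card_GL_field, Finset.prod_range]

omit [Fintype F] in
theorem mem_range_toGL {n : ℕ} (g : Matrix.GeneralLinearGroup (Fin n) F)
    (hg : Matrix.GeneralLinearGroup.det g = 1) :
    g ∈ (Matrix.SpecialLinearGroup.toGL : Matrix.SpecialLinearGroup (Fin n) F →* _).range := by
  refine ⟨⟨(g : Matrix (Fin n) (Fin n) F), ?_⟩, Units.ext rfl⟩
  have := congrArg (Units.val) hg
  simpa using this

omit [Fintype F] in
theorem range_toGL {n : ℕ} :
    (Matrix.SpecialLinearGroup.toGL : Matrix.SpecialLinearGroup (Fin n) F →* _).range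
      = (Matrix.GeneralLinearGroup.det : Matrix.GeneralLinearGroup (Fin n) F →* Fˣ).ker := by
  ext g
  rw [MonoidHom.mem_ker]
  constructor
  · rintro ⟨h, rfl⟩
    exact Units.ext (by simp)
  · exact mem_range_toGL g

/-- Transfer of an element `z` of `GL(V)` with determinant `1` whose centralizer has surjective
determinant to `SL_n(F)`. -/
theorem exists_sl {V : Type*} [AddCommGroup V] [Module F V] [FiniteDimensional F V] {n : ℕ}
    (hn : finrank F V = n) (z : (V →ₗ[F] V)ˣ) (hz : LinearMap.det (z : V →ₗ[F] V) = 1)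
    (hdet : ∀ u : Fˣ, ∃ g ∈ Subgroup.centralizer {z}, LinearMap.det (g : V →ₗ[F] V) = u) :
    ∃ y : Matrix.SpecialLinearGroup (Fin n) F, orderOf y = orderOf z ∧
      (Subgroup.centralizer ({y} : Set (Matrix.SpecialLinearGroup (Fin n) F))).index
        = (Subgroup.centralizer ({z} : Set ((V →ₗ[F] V)ˣ))).index := by
  classical
  set b := finBasisOfFinrankEq F V hn with hb
  set e : (V →ₗ[F] V)ˣ ≃* Matrix.GeneralLinearGroup (Fin n) F :=
    Units.mapEquiv ((LinearMap.toMatrixAlgEquiv b).toMulEquiv) with he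
  have hdet' : ∀ g : (V →ₗ[F] V)ˣ, ((Matrix.GeneralLinearGroup.det (e g) : Fˣ) : F)
      = LinearMap.det (g : V →ₗ[F] V) := by
    intro g
    show Matrix.det (LinearMap.toMatrixAlgEquiv b (g : V →ₗ[F] V)) = _
    exact LinearMap.det_toMatrix b _
  obtain ⟨y, hy⟩ := mem_range_toGL (e z) (Units.ext (by rw [hdet', hz]; rfl))
  refine ⟨y, ?_, ?_⟩
  · rw [← orderOf_injective _ Matrix.SpecialLinearGroup.toGL_injective y, hy, MulEquiv.orderOf_eq]
  · set N : Subgroup (Matrix.GeneralLinearGroup (Fin n) F) :=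
      (Matrix.SpecialLinearGroup.toGL : Matrix.SpecialLinearGroup (Fin n) F →* _).range with hN
    have hNn : N.Normal := by rw [hN, range_toGL]; infer_instance
    set C : Subgroup (Matrix.GeneralLinearGroup (Fin n) F) := Subgroup.centralizer {e z} with hC
    have h1 : Subgroup.centralizer ({y} : Set (Matrix.SpecialLinearGroup (Fin n) F))
        = C.comap Matrix.SpecialLinearGroup.toGL := by
      ext g
      rw [Subgroup.mem_comap, hC, Subgroup.mem_centralizer_singleton_iff,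
        Subgroup.mem_centralizer_singleton_iff, ← hy, ← map_mul, ← map_mul]
      exact (Matrix.SpecialLinearGroup.toGL_injective.eq_iff).symm
    have h2 : C = (Subgroup.centralizer ({z} : Set ((V →ₗ[F] V)ˣ))).map (e : (V →ₗ[F] V)ˣ →* _) := by
      ext g
      rw [hC, Subgroup.mem_centralizer_singleton_iff, Subgroup.mem_map]
      constructor
      · intro hg
        refine ⟨e.symm g, ?_, by simp⟩
        rw [Subgroup.mem_centralizer_singleton_iff]
        apply e.injective
        simp [hg]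
      · rintro ⟨w, hw, rfl⟩
        rw [Subgroup.mem_centralizer_singleton_iff] at hw
        show e w * e z = e z * e w
        rw [← map_mul, ← map_mul, hw]
    rw [h1, Subgroup.index_comap, ← hN, relIndex_eq_index N C, h2, Subgroup.index_map_equiv]
    rw [eq_top_iff]
    intro g _
    obtain ⟨c, hc, hcd⟩ := hdet (Matrix.GeneralLinearGroup.det g)
    have hcC : e c ∈ C := by
      rw [h2]
      exact ⟨c, hc, rfl⟩
    have hgN : g * (e c)⁻¹ ∈ N := by
      rw [hN, range_toGL, MonoidHom.mem_ker, map_mul, map_inv, mul_inv_eq_one]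
      exact Units.ext (by rw [hdet', hcd])
    have : g = (g * (e c)⁻¹) * e c := by group
    rw [this]
    exact Subgroup.mul_mem _ (Subgroup.mem_sup_left hgN) (Subgroup.mem_sup_right hcC)

/-- The index of the centralizer of `(ζ, δ)`. -/
theorem index_dvd {K : Type*} [Field K] [Finite K] [Algebra F K] [FiniteDimensional F K] {m k : ℕ}
    (hm : finrank F K = m) (ζ : Kˣ) (δ : Fin k → Fˣ) (hζ : Algebra.adjoin F {(ζ : K)} = ⊤)
    (hm2 : 2 ≤ m) {p a : ℕ} (hp : p.Prime) (ha : 0 < a) (ham : a < m) (hpa : p ∣ Fintype.card F ^ a - 1) :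
    p ∣ (Subgroup.centralizer ({blk F K (Fin k) (ζ, dg F (Fin k) δ)} : Set _)).index := by
  classical
  have := Fintype.ofFinite K
  set q := Fintype.card F with hq
  have hq1 : 1 < q := Fintype.one_lt_card
  have hne : ∀ a : F, algebraMap F K a ≠ ζ := by
    intro a ha
    have h1 : Algebra.adjoin F {(ζ : K)} = ⊥ := by
      rw [← ha]
      exact Algebra.adjoin_singleton_algebraMap K a
    rw [hζ] at h1
    have h2 := Subalgebra.bot_eq_top_iff_finrank_eq_one.1 h1.symm
    omega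
  set C := Subgroup.centralizer ({blk F K (Fin k) (ζ, dg F (Fin k) δ)} : Set _) with hC
  have hCle : C ≤ (blk F K (Fin k)).range := centralizer_le ζ δ hζ hne
  -- orders
  set GW := Nat.card (((Fin k → F) →ₗ[F] (Fin k → F))ˣ) with hGW
  have hcardK : Nat.card Kˣ = q ^ m - 1 := by
    rw [Nat.card_units, Nat.card_eq_fintype_card, Module.card_eq_pow_finrank (K := F) (V := K), hm]
  have h1 : Nat.card C ∣ (q ^ m - 1) * GW := by
    rw [← hcardK, hGW, ← Nat.card_prod]
    refine (Subgroup.card_dvd_of_le hCle).trans ?_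
    exact Subgroup.card_range_dvd _
  have h2 : Nat.card ((K →ₗ[F] K)ˣ) = (q ^ m - 1) * ∏ i ∈ Finset.range (m - 1), (q ^ m - q ^ (i + 1)) := by
    rw [card_units_end K hm]
    obtain ⟨m', rfl⟩ : ∃ m', m = m' + 1 := ⟨m - 1, by omega⟩
    rw [Finset.prod_range_succ', mul_comm]
    simp [hq]
  have h3 : p ∣ ∏ i ∈ Finset.range (m - 1), (q ^ m - q ^ (i + 1)) := by
    refine dvd_trans ?_ (Finset.dvd_prod_of_mem (fun i => q ^ m - q ^ (i + 1))
      (Finset.mem_range.2 (show m - a - 1 < m - 1 by omega)))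
    have h4 : q ^ m - q ^ (m - a - 1 + 1) = q ^ (m - a) * (q ^ a - 1) := by
      have h5 : m - a - 1 + 1 = m - a := by omega
      rw [h5, Nat.mul_sub, mul_one, ← pow_add]
      congr 2
      omega
    show p ∣ q ^ m - q ^ (m - a - 1 + 1)
    rw [h4]
    exact Dvd.dvd.mul_left hpa _
  have h4 : Nat.card ((K →ₗ[F] K)ˣ) * GW ∣ Nat.card ((K × (Fin k → F) →ₗ[F] K × (Fin k → F))ˣ) := by
    rw [hGW, ← Nat.card_prod]
    let f : (K →ₗ[F] K)ˣ × ((Fin k → F) →ₗ[F] (Fin k → F))ˣ →* ((K × (Fin k → F) →ₗ[F] K × (Fin k → F))ˣ) :=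
      (Units.map (LinearMap.prodMapRingHom F K (Fin k → F) : _ →* _)).comp
        (MulEquiv.prodUnits.symm.toMonoidHom)
    have hf : Function.Injective f := by
      rw [injective_iff_map_eq_one]
      rintro ⟨a, β⟩ h
      have h1 : ∀ v : K × (Fin k → F), ((a : K →ₗ[F] K) v.1,
          (β : (Fin k → F) →ₗ[F] (Fin k → F)) v.2) = v := by
        intro v
        have : (f (a, β) : (K × (Fin k → F) →ₗ[F] K × (Fin k → F))) v = v := by rw [h]; rfl
        exact this
      refine Prod.ext (Units.ext (LinearMap.ext fun w => ?_)) (Units.ext (LinearMap.ext fun w => ?_))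
      · have := congrArg Prod.fst (h1 (w, 0))
        simpa using this
      · have := congrArg Prod.snd (h1 (0, w))
        simpa using this
    exact Subgroup.card_dvd_of_injective f hf
  have h5 : C.index * Nat.card C = Nat.card ((K × (Fin k → F) →ₗ[F] K × (Fin k → F))ˣ) := C.index_mul_card
  obtain ⟨t, ht⟩ := h4
  obtain ⟨c, hc⟩ := h1
  rw [← h5, h2] at ht
  set L := ∏ i ∈ Finset.range (m - 1), (q ^ m - q ^ (i + 1)) with hL
  have h6 : C.index * Nat.card C = L * c * t * Nat.card C := by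
    rw [ht]
    calc (q ^ m - 1) * L * GW * t = L * ((q ^ m - 1) * GW) * t := by ring
      _ = L * c * t * Nat.card C := by rw [hc]; ring
  have : Finite ((K × (Fin k → F) →ₗ[F] K × (Fin k → F))ˣ) := by
    have : Finite (K × (Fin k → F) →ₗ[F] K × (Fin k → F)) := Module.finite_of_finite F
    infer_instance
  have h7 : C.index = L * c * t := Nat.eq_of_mul_eq_mul_right Nat.card_pos h6
  rw [h7, mul_assoc]
  exact Dvd.dvd.mul_right h3 _

/-- Surjectivity of the determinant on the centralizer of `(ζ, δ)`. -/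
theorem exists_det {K : Type*} [Field K] [Finite K] [Algebra F K] [FiniteDimensional F K] {k : ℕ}
    (ζ : Kˣ) (δ : Fin k → Fˣ) (u : Fˣ) :
    ∃ g ∈ Subgroup.centralizer {blk F K (Fin k) (ζ, dg F (Fin k) δ)},
      LinearMap.det (g : K × (Fin k → F) →ₗ[F] K × (Fin k → F)) = u := by
  obtain ⟨c, hc⟩ := FiniteField.unitsMap_norm_surjective F K u
  refine ⟨blk F K (Fin k) (c, 1), ?_, ?_⟩
  · rw [Subgroup.mem_centralizer_singleton_iff, ← map_mul, ← map_mul]
    congr 1
    exact Prod.ext (mul_comm _ _) (by simp)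
  · rw [blk_det]
    have : Algebra.norm F (c : K) = u := congrArg Units.val hc
    rw [this]
    simp

/-- An `s`-element of `SL_n(F)` with centralizer index divisible by `p`. -/
theorem exists_elt {K : Type*} [Field K] [Finite K] [Algebra F K] [FiniteDimensional F K] {m k n : ℕ}
    (hm : finrank F K = m) (hn : m + k = n) {s : ℕ} (ζ : Kˣ) (δ : Fin k → Fˣ)
    (hζ : Algebra.adjoin F {(ζ : K)} = ⊤) (hζs : ∃ j, orderOf ζ = s ^ j) (hδs : ∀ i, orderOf (δ i) ∣ orderOf ζ)
    (hs : s.Prime)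
    (hdet : Algebra.norm F (ζ : K) * ∏ i, (δ i : F) = 1)
    (hm2 : 2 ≤ m) {p a : ℕ} (hp : p.Prime) (ha : 0 < a) (ham : a < m) (hpa : p ∣ Fintype.card F ^ a - 1) :
    ∃ y : Matrix.SpecialLinearGroup (Fin n) F, (∃ j, orderOf y = s ^ j) ∧
      p ∣ (Subgroup.centralizer ({y} : Set (Matrix.SpecialLinearGroup (Fin n) F))).index := by
  obtain ⟨y, hy1, hy2⟩ := exists_sl (n := n) (by rw [finrank_prod, hm, finrank_pi, Fintype.card_fin, hn])
    (blk F K (Fin k) (ζ, dg F (Fin k) δ)) (by rw [blk_det, dg_det, hdet]) (exists_det ζ δ)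
  refine ⟨y, ?_, ?_⟩
  · obtain ⟨j, hj⟩ := hζs
    have h1 : orderOf y ∣ s ^ j := by
      rw [hy1, orderOf_dvd_iff_pow_eq_one, ← hj, ← map_pow, Prod.pow_mk, pow_orderOf_eq_one, ← map_pow]
      have : δ ^ orderOf ζ = 1 := by
        funext i
        exact orderOf_dvd_iff_pow_eq_one.1 (hδs i)
      rw [this, map_one]
      exact map_one _
    obtain ⟨i, -, hi⟩ := (Nat.dvd_prime_pow hs).1 h1
    exact ⟨i, hi⟩
  · rw [hy2]
    exact index_dvd hm ζ δ hζ hm2 hp ha ham hpa

end Cfsg.Agent.H625.NHSl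
end

-- part: H625/NHTorus
section
prune_inst 0x300000000000000000000000000000002
set_option linter.all false
open scoped Cfsg.Agent.FastGrp

/-!
`SL_n(F)`: abelian subgroups of index prime to `p` when `n < p e`, and the diagonal element.
-/

set_option autoImplicit false

namespace Cfsg.Agent.H625.NHTorus

open Module NHLin NHArith NHSl

variable {F : Type*} [Field F] [Fintype F]

/-- `A^×` acting on `A × F^k`. -/
noncomputable def tor (F A : Type*) [Field F] [CommRing A] [Algebra F A] (k : ℕ) :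
    Aˣ →* ((A × (Fin k → F)) →ₗ[F] (A × (Fin k → F)))ˣ :=
  (Units.map (LinearMap.prodMapRingHom F A (Fin k → F) : _ →* _)).comp
    ((MulEquiv.prodUnits.symm.toMonoidHom).comp
      ((Units.map ((Algebra.lmul F A : A →ₐ[F] Module.End F A) : A →* Module.End F A)).prod
        (1 : Aˣ →* ((Fin k → F) →ₗ[F] (Fin k → F))ˣ)))

omit [Fintype F] in
theorem tor_apply {A : Type*} [CommRing A] [Algebra F A] {k : ℕ} (a : Aˣ) (v : A × (Fin k → F)) :
    (tor F A k a : (A × (Fin k → F)) →ₗ[F] (A × (Fin k → F))) v = ((a : A) * v.1, v.2) := rfl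

omit [Fintype F] in
theorem tor_injective {A : Type*} [CommRing A] [Algebra F A] {k : ℕ} :
    Function.Injective (tor F A k) := by
  rw [injective_iff_map_eq_one]
  intro a h
  have h1 : (tor F A k a : (A × (Fin k → F)) →ₗ[F] (A × (Fin k → F))) (1, 0) = (1, 0) := by
    rw [h]; rfl
  rw [tor_apply] at h1
  have := congrArg Prod.fst h1
  exact Units.ext (by simpa using this)

/-- The `p`-part of the order of `GL_n(q)` if `n < p e`. -/
theorem factorization_card {q n e N k p : ℕ} (hq : 1 < q) (he : 0 < e) (hn : e * N + k = n) (hk : k < e)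
    (hp : p.Prime) (hpq : ¬ p ∣ q) (hord : orderOf (q : ZMod p) = e) (hN : N < p) :
    (∏ i ∈ Finset.range n, (q ^ n - q ^ i)).factorization p = N * (q ^ e - 1).factorization p := by
  have hpos : ∀ j, 0 < j → q ^ j - 1 ≠ 0 := by
    intro j hj
    have := Nat.one_lt_pow hj.ne' hq
    omega
  have h1 : ∀ i ∈ Finset.range n, q ^ n - q ^ i ≠ 0 := by
    intro i hi
    have := Nat.pow_lt_pow_right hq (Finset.mem_range.1 hi)
    omega
  rw [Nat.factorization_prod h1, Finset.sum_apply']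
  have h2 : ∀ i ∈ Finset.range n, (q ^ n - q ^ i).factorization p = (q ^ (n - 1 - i + 1) - 1).factorization p := by
    intro i hi
    rw [Finset.mem_range] at hi
    have h3 : q ^ n - q ^ i = q ^ i * (q ^ (n - 1 - i + 1) - 1) := by
      rw [Nat.mul_sub, mul_one, ← pow_add]
      congr 2
      omega
    rw [h3, Nat.factorization_mul (pow_ne_zero _ (by omega)) (hpos _ (by omega)), Finsupp.add_apply,
      Nat.factorization_pow]
    simp [Nat.factorization_eq_zero_of_not_dvd hpq]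
  rw [Finset.sum_congr rfl h2, Finset.sum_range_reflect (fun j => (q ^ (j + 1) - 1).factorization p) n]
  have h4 : ∀ j ∈ Finset.range n, (q ^ (j + 1) - 1).factorization p
      = if e ∣ j + 1 then (q ^ e - 1).factorization p else 0 := by
    intro j hj
    rw [Finset.mem_range] at hj
    split_ifs with h
    · obtain ⟨t, ht⟩ := h
      have ht0 : 0 < t := by
        rcases Nat.eq_zero_or_pos t with rfl | h
        · omega
        · exact h
      have htN : t ≤ N := by
        by_contra hlt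
        have : e * (N + 1) ≤ e * t := Nat.mul_le_mul_left e (by omega)
        rw [mul_add, mul_one] at this
        omega
      rw [ht]
      exact factorization_eq hq he hp ((dvd_pow_sub_one_iff (by omega)).2 (by rw [hord])) ht0 (by omega)
    · apply Nat.factorization_eq_zero_of_not_dvd
      rw [dvd_pow_sub_one_iff (by omega), hord]
      exact h
  rw [Finset.sum_congr rfl h4, ← Finset.sum_filter, Finset.sum_const, Nat.card_multiples, smul_eq_mul]
  congr 1
  rw [← hn, Nat.mul_add_div he, Nat.div_eq_of_lt hk, add_zero]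

theorem torus {e N k n : ℕ} (he : 0 < e) (hn : e * N + k = n) (hk : k < e) :
    ∃ T : Subgroup (Matrix.SpecialLinearGroup (Fin n) F), IsMulCommutative T ∧
      ∀ p : ℕ, p.Prime → ¬ p ∣ Fintype.card F → orderOf (Fintype.card F : ZMod p) = e → N < p →
        ¬ p ∣ T.index := by
  classical
  obtain ⟨r, hr⟩ := CharP.exists F
  have : Fact r.Prime := ⟨CharP.char_is_prime F r⟩
  obtain ⟨K, _, _, _, _, a, hK, ha, hcK⟩ := H159.exists_field_gen F r e he.ne'
  have := Fintype.ofFinite K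
  have hfr : finrank F ((Fin N → K) × (Fin k → F)) = n := by
    rw [finrank_prod, finrank_pi, Fintype.card_fin, Module.finrank_pi_fintype]
    simp [hK, ← hn, mul_comm]
  set b := finBasisOfFinrankEq F ((Fin N → K) × (Fin k → F)) hfr with hb
  set E : (((Fin N → K) × (Fin k → F)) →ₗ[F] ((Fin N → K) × (Fin k → F)))ˣ ≃* Matrix.GeneralLinearGroup (Fin n) F :=
    Units.mapEquiv ((LinearMap.toMatrixAlgEquiv b).toMulEquiv) with hE
  set f : (Fin N → K)ˣ →* Matrix.GeneralLinearGroup (Fin n) F := (E : _ →* _).comp (tor F (Fin N → K) k) with hf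
  have hfi : Function.Injective f := E.injective.comp tor_injective
  set N' : Subgroup (Matrix.GeneralLinearGroup (Fin n) F) :=
      (Matrix.SpecialLinearGroup.toGL : Matrix.SpecialLinearGroup (Fin n) F →* _).range with hN'
  have hNn : N'.Normal := by rw [hN', range_toGL]; infer_instance
  refine ⟨f.range.comap Matrix.SpecialLinearGroup.toGL, ?_, ?_⟩
  · constructor
    constructor
    rintro ⟨x, hx⟩ ⟨y, hy⟩
    obtain ⟨u, hu⟩ := Subgroup.mem_comap.1 hx
    obtain ⟨w, hw⟩ := Subgroup.mem_comap.1 hy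
    apply Subtype.ext
    apply Matrix.SpecialLinearGroup.toGL_injective
    show Matrix.SpecialLinearGroup.toGL (x * y) = Matrix.SpecialLinearGroup.toGL (y * x)
    rw [map_mul, map_mul, ← hu, ← hw, ← map_mul, ← map_mul, mul_comm]
  · intro p hp hpq hord hNp hd
    rw [Subgroup.index_comap] at hd
    have hd1 : p ∣ f.range.index := hd.trans (relIndex_dvd N' f.range)
    have hq1 : 1 < Fintype.card F := Fintype.one_lt_card
    have hcA : Nat.card (Fin N → K)ˣ = (Fintype.card F ^ e - 1) ^ N := by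
      rw [Nat.card_congr (MulEquiv.piUnits (M := fun _ : Fin N => K)).toEquiv, Nat.card_pi]
      simp only [Nat.card_units, hcK, Finset.prod_const, Finset.card_univ, Fintype.card_fin]
    have hcard : f.range.index * (Fintype.card F ^ e - 1) ^ N
        = ∏ i ∈ Finset.range n, (Fintype.card F ^ n - Fintype.card F ^ i) := by
      have h1 : Nat.card f.range = (Fintype.card F ^ e - 1) ^ N := by
        rw [← hcA, Nat.card_congr (MonoidHom.ofInjective hfi).toEquiv]
      rw [← h1, Subgroup.index_mul_card, Matrix.card_GL_field, Finset.prod_range]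
    have hfac := factorization_card hq1 he hn hk hp hpq hord hNp
    have hne : (Fintype.card F ^ e - 1) ^ N ≠ 0 := by
      apply pow_ne_zero
      have := Nat.one_lt_pow he.ne' hq1
      omega
    rw [← hcard, Nat.factorization_mul Subgroup.index_ne_zero_of_finite hne, Finsupp.add_apply,
      Nat.factorization_pow, Finsupp.smul_apply, smul_eq_mul] at hfac
    have h2 := (hp.dvd_iff_one_le_factorization Subgroup.index_ne_zero_of_finite).1 hd1
    omega

omit [Fintype F] in
/-- The centralizer of a diagonal matrix with different entries. -/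
theorem centralizer_dg {n : ℕ} (δ : Fin n → Fˣ) (hδ : Function.Injective δ) :
    Subgroup.centralizer {dg F (Fin n) δ} ≤ (dg F (Fin n)).range := by
  classical
  have key : ∀ g ∈ Subgroup.centralizer {dg F (Fin n) δ}, ∀ w : Fin n → F, ∀ i,
      (g : (Fin n → F) →ₗ[F] (Fin n → F)) w i
        = (g : (Fin n → F) →ₗ[F] (Fin n → F)) (Pi.single i 1) i * w i := by
    intro g hg
    rw [Subgroup.mem_centralizer_singleton_iff] at hg
    have h1 : ∀ w, (g : (Fin n → F) →ₗ[F] (Fin n → F)) ((dg F (Fin n) δ : (Fin n → F) →ₗ[F] (Fin n → F)) w)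
        = (dg F (Fin n) δ : (Fin n → F) →ₗ[F] (Fin n → F)) ((g : (Fin n → F) →ₗ[F] (Fin n → F)) w) := by
      intro w
      have := congrArg (fun u : ((Fin n → F) →ₗ[F] (Fin n → F))ˣ => (u : (Fin n → F) →ₗ[F] (Fin n → F)) w) hg
      simpa using this
    have h2 : ∀ j i, i ≠ j → (g : (Fin n → F) →ₗ[F] (Fin n → F)) (Pi.single j 1) i = 0 := by
      intro j i hij
      have h3 : (dg F (Fin n) δ : (Fin n → F) →ₗ[F] (Fin n → F)) (Pi.single j 1) = (δ j : F) • Pi.single j 1 := by
        funext l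
        rw [dg_apply]
        by_cases hl : l = j
        · subst hl; simp
        · simp [hl]
      have h4 := h1 (Pi.single j 1)
      rw [h3, map_smul] at h4
      have h5 := congrFun h4 i
      rw [dg_apply, Pi.smul_apply, smul_eq_mul] at h5
      have h6 : ((δ j : F) - δ i) * (g : (Fin n → F) →ₗ[F] (Fin n → F)) (Pi.single j 1) i = 0 := by
        rw [sub_mul, h5, sub_self]
      refine (mul_eq_zero.1 h6).resolve_left (sub_ne_zero.2 fun h => hij ?_)
      exact (hδ (Units.ext h)).symm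
    intro w i
    have h3 : w = ∑ j, w j • (Pi.single j 1 : Fin n → F) := by
      funext l
      simp [Finset.sum_apply, Pi.single_apply]
    conv_lhs => rw [h3]
    rw [map_sum, Finset.sum_apply, Finset.sum_eq_single i]
    · rw [map_smul, Pi.smul_apply, smul_eq_mul, mul_comm]
    · intro j _ hj
      rw [map_smul, Pi.smul_apply, h2 j i hj.symm, smul_zero]
    · intro h; exact absurd (Finset.mem_univ i) h
  intro g hg
  have hg' := Subgroup.inv_mem _ hg
  have h1 := key g hg
  have h2 := key g⁻¹ hg'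
  have h3 : ∀ w, (g : (Fin n → F) →ₗ[F] (Fin n → F)) ((g⁻¹ : ((Fin n → F) →ₗ[F] (Fin n → F))ˣ).1 w) = w := by
    intro w
    have : ((g * g⁻¹ : ((Fin n → F) →ₗ[F] (Fin n → F))ˣ) : (Fin n → F) →ₗ[F] (Fin n → F)) w = w := by
      rw [mul_inv_cancel]; rfl
    exact this
  have h4 : ∀ i, (g : (Fin n → F) →ₗ[F] (Fin n → F)) (Pi.single i 1) i
      * (g⁻¹ : ((Fin n → F) →ₗ[F] (Fin n → F))ˣ).1 (Pi.single i 1) i = 1 := by
    intro i
    have := congrFun (h3 (Pi.single i 1)) i
    rw [h1, h2] at this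
    simpa using this
  refine ⟨fun i => ⟨_, _, h4 i, by rw [mul_comm]; exact h4 i⟩, Units.ext (LinearMap.ext fun w => funext fun i => ?_)⟩
  rw [dg_apply, h1 w i]

theorem exists_diag {n s : ℕ} (hn : n.Prime) (hs : s.Prime) (hns : n < s) (h1 : s ∣ Fintype.card F - 1)
    (h2 : n ∣ Fintype.card F - 1) (hs2 : s ≠ 2) :
    ∃ y : Matrix.SpecialLinearGroup (Fin n) F, (∃ j, orderOf y = s ^ j) ∧
      n ∣ (Subgroup.centralizer ({y} : Set (Matrix.SpecialLinearGroup (Fin n) F))).index := by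
  classical
  set q := Fintype.card F with hq
  have hq1 : 1 < q := Fintype.one_lt_card
  have : Fact s.Prime := ⟨hs⟩
  obtain ⟨ω, hω⟩ : ∃ ω : Fˣ, orderOf ω = s := by
    apply exists_prime_orderOf_dvd_card
    rw [Fintype.card_units]
    exact h1
  set δ : Fin n → Fˣ := fun i => (ω ^ 2) ^ (i : ℕ) * (ω⁻¹) ^ (n - 1) with hδ
  have hω2 : orderOf (ω ^ 2) = s := by
    rw [orderOf_pow, hω]
    have : Nat.gcd s 2 = 1 := by
      rw [Nat.coprime_iff_gcd_eq_one.symm, Nat.coprime_primes hs Nat.prime_two]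
      exact hs2
    rw [this, Nat.div_one]
  have hδi : Function.Injective δ := by
    intro i j hij
    have h3 : (ω ^ 2) ^ (i : ℕ) = (ω ^ 2) ^ (j : ℕ) := mul_right_cancel hij
    have h4 := pow_injOn_Iio_orderOf (x := ω ^ 2) (by rw [hω2]; show (i : ℕ) < s; omega)
      (by rw [hω2]; show (j : ℕ) < s; omega) h3
    exact Fin.ext h4
  have hdet : ∏ i, (δ i : F) = 1 := by
    have h3 : ∏ i, δ i = 1 := by
      simp only [hδ]
      rw [Finset.prod_mul_distrib, Finset.prod_const, Finset.card_univ, Fintype.card_fin,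
        Finset.prod_pow_eq_pow_sum, ← pow_mul, ← pow_mul]
      have h4 : 2 * ∑ i : Fin n, (i : ℕ) = (n - 1) * n := by
        rw [Fin.sum_univ_eq_sum_range (fun i => i) n, mul_comm 2, Finset.sum_range_id_mul_two, mul_comm]
      rw [h4, inv_pow, mul_inv_cancel]
    have := congrArg Units.val h3
    simpa using this
  obtain ⟨y, hy1, hy2⟩ := exists_sl (n := n) (F := F) (V := Fin n → F) (by simp)
    (dg F (Fin n) δ) (by rw [dg_det, hdet]) (by
      intro u
      refine ⟨dg F (Fin n) (fun i => if i = ⟨0, hn.pos⟩ then u else 1), ?_, ?_⟩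
      · rw [Subgroup.mem_centralizer_singleton_iff, ← map_mul, ← map_mul, mul_comm]
      · rw [dg_det]
        rw [Finset.prod_eq_single (⟨0, hn.pos⟩ : Fin n)]
        · simp
        · intro j _ hj
          simp [hj]
        · intro h; exact absurd (Finset.mem_univ _) h)
  refine ⟨y, ?_, ?_⟩
  · have h3 : orderOf y ∣ s ^ 1 := by
      rw [hy1, orderOf_dvd_iff_pow_eq_one, ← map_pow]
      have : δ ^ s ^ 1 = 1 := by
        funext i
        show ((ω ^ 2) ^ (i : ℕ) * (ω⁻¹) ^ (n - 1)) ^ s ^ 1 = 1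
        have h5 : ω ^ s = 1 := by rw [← hω, pow_orderOf_eq_one]
        rw [pow_one, mul_pow, pow_right_comm, pow_right_comm ω 2 s, h5, pow_right_comm (ω⁻¹) _ s, inv_pow, h5]
        simp
      rw [this, map_one]
    obtain ⟨i, -, hi⟩ := (Nat.dvd_prime_pow hs).1 h3
    exact ⟨i, hi⟩
  · rw [hy2]
    set C := Subgroup.centralizer ({dg F (Fin n) δ} : Set _) with hC
    have h3 : Nat.card C ∣ (q - 1) ^ n := by
      have h4 : Nat.card (Fin n → Fˣ) = (q - 1) ^ n := by
        rw [Nat.card_pi]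
        simp only [Nat.card_units, Finset.prod_const, Finset.card_univ, Fintype.card_fin]
        rw [Nat.card_eq_fintype_card]
      rw [← h4]
      exact (Subgroup.card_dvd_of_le (centralizer_dg δ hδi)).trans (Subgroup.card_range_dvd _)
    have h5 : (q - 1) ^ n * n ∣ ∏ i ∈ Finset.range n, (q ^ n - q ^ i) := by
      have h6 : ∀ j, 0 < j → (q - 1) ∣ q ^ j - 1 := fun j _ => Nat.sub_one_dvd_pow_sub_one _ _
      obtain ⟨n', rfl⟩ : ∃ n', n = n' + 1 := ⟨n - 1, by have := hn.pos; omega⟩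
      rw [Finset.prod_range_succ', pow_succ, mul_assoc]
      apply mul_dvd_mul
      · have : (q - 1) ^ n' = ∏ i ∈ Finset.range n', (q - 1) := by simp
        rw [this]
        apply Finset.prod_dvd_prod_of_dvd
        intro i hi
        rw [Finset.mem_range] at hi
        have h7 : q ^ (n' + 1) - q ^ (i + 1) = q ^ (i + 1) * (q ^ (n' - i) - 1) := by
          rw [Nat.mul_sub, mul_one, ← pow_add]
          congr 2
          omega
        rw [h7]
        exact Dvd.dvd.mul_left (h6 _ (by omega)) _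
      · rw [pow_zero]
        have hgs : q ^ (n' + 1) - 1 = (q - 1) * ∑ i ∈ Finset.range (n' + 1), q ^ i := by
          have := Nat.geomSum_eq (m := q) (by omega) (n' + 1)
          rw [this, Nat.mul_div_cancel']
          exact Nat.sub_one_dvd_pow_sub_one _ _
        rw [hgs]
        apply mul_dvd_mul_left
        rw [← (ZMod.natCast_eq_zero_iff _ (n' + 1))]
        have h8 : (q : ZMod (n' + 1)) = 1 := by
          have h4 : ((q - 1 : ℕ) : ZMod (n' + 1)) = 0 := (ZMod.natCast_eq_zero_iff _ _).2 h2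
          rw [Nat.cast_sub hq1.le, Nat.cast_one, sub_eq_zero] at h4
          exact h4
        rw [Nat.cast_sum]
        simp only [Nat.cast_pow, h8, one_pow, Finset.sum_const, Finset.card_range, nsmul_eq_mul, mul_one]
        exact (ZMod.natCast_self _)
    obtain ⟨c, hc⟩ := h3
    obtain ⟨t, ht⟩ := h5
    have h6 : C.index * Nat.card C = n * (c * t) * Nat.card C := by
      rw [C.index_mul_card, card_units_end (Fin n → F) (by simp : finrank F (Fin n → F) = n), ← hq, ht, hc]
      ring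
    have : Finite (((Fin n → F) →ₗ[F] (Fin n → F))ˣ) := by
      have : Finite ((Fin n → F) →ₗ[F] (Fin n → F)) := Module.finite_of_finite F
      infer_instance
    have h7 : C.index = n * (c * t) := Nat.eq_of_mul_eq_mul_right Nat.card_pos h6
    rw [h7]
    exact dvd_mul_right _ _

end Cfsg.Agent.H625.NHTorus
end

-- part: H625/NHPsl
section
set_option linter.all false
open scoped Cfsg.Agent.FastGrp

/-!
Row of `PSL_n(F)` in cross characteristic for the nilpotent Hall cluster (S4597, S4599, S4600).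
-/

set_option autoImplicit false

namespace Cfsg.Agent.H625.NHPsl

open Module NHLin NHArith NHSl NHTorus

variable {F : Type*} [Field F] [Fintype F]

/-- The condition on `p`-elements. -/
def CondP (π : Set ℕ) (G : Type*) [Group G] : Prop :=
  ∀ p ∈ π, ∀ q ∈ π, p ≠ q → ∀ x : G, (∃ k : ℕ, orderOf x = p ^ k) →
    ¬ q ∣ (Subgroup.centralizer ({x} : Set G)).index

theorem CondP.of_quot {G : Type*} [Group G] [Finite G] (Z : Subgroup G) [Z.Normal]
    (hZ : Z ≤ Subgroup.center G) {π : Set ℕ} (hπ : ∀ p ∈ π, p.Prime) (h : CondP π (G ⧸ Z)) : CondP π G := by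
  intro p hp q hq hpq x hx hd
  refine h p hp q hq hpq (QuotientGroup.mk x : G ⧸ Z) ?_
    (dvd_index_quot Z hZ (hπ p hp) (hπ q hq) hpq x hx hd)
  obtain ⟨k, hk⟩ := hx
  have h1 : orderOf (QuotientGroup.mk x : G ⧸ Z) ∣ p ^ k := by
    rw [← hk]
    exact orderOf_map_dvd (QuotientGroup.mk' Z) x
  obtain ⟨i, -, hi⟩ := (Nat.dvd_prime_pow (hπ p hp)).1 h1
  exact ⟨i, hi⟩

/-- Norms of `s`-elements are trivial if `s` does not divide `q - 1`. -/
theorem norm_eq_one {K : Type*} [Field K] [Finite K] [Algebra F K] {s : ℕ} (hs : s.Prime)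
    (hs1 : ¬ s ∣ Fintype.card F - 1) (ζ : Kˣ) (hζ : ∃ k, orderOf ζ = s ^ k) :
    Algebra.norm F (ζ : K) = 1 := by
  classical
  obtain ⟨k, hk⟩ := hζ
  set u : Fˣ := Units.map (Algebra.norm F : K →* F) ζ with hu
  have h1 : orderOf u ∣ s ^ k := by
    rw [← hk]
    exact orderOf_map_dvd _ ζ
  have h2 : orderOf u ∣ Fintype.card F - 1 := by
    rw [← Fintype.card_units]
    exact orderOf_dvd_card
  have h3 : Nat.Coprime (s ^ k) (Fintype.card F - 1) := Nat.Coprime.pow_left k ((Nat.Prime.coprime_iff_not_dvd hs).2 hs1)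
  have h4 : orderOf u = 1 := Nat.eq_one_of_dvd_coprimes h3 h1 h2
  rw [orderOf_eq_one_iff] at h4
  exact congrArg Units.val h4

theorem sl_row {n : ℕ} (hn : 2 ≤ n) {π : Set ℕ}
    (hπ : ∀ p ∈ π, p.Prime ∧ p ≠ 2 ∧ ¬ p ∣ Fintype.card F ∧ p ∣ Nat.card (Matrix.SpecialLinearGroup (Fin n) F))
    (hnt : π.Nontrivial) (hc : CondP π (Matrix.SpecialLinearGroup (Fin n) F)) :
    ∃ T : Subgroup (Matrix.SpecialLinearGroup (Fin n) F), IsMulCommutative T ∧ ∀ p ∈ π, ¬ p ∣ T.index := by
  set q := Fintype.card F with hq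
  have hq1 : 1 < q := Fintype.one_lt_card
  -- the order of `q` modulo `p`
  have hord : ∀ p ∈ π, 0 < orderOf (q : ZMod p) := by
    intro p hp
    obtain ⟨hp1, hp2, hp3, hp4⟩ := hπ p hp
    have : Fact p.Prime := ⟨hp1⟩
    have h1 : (q : ZMod p) ≠ 0 := by
      rw [Ne, ZMod.natCast_eq_zero_iff]
      exact hp3
    exact (isOfFinOrder_iff_isUnit.2 (isUnit_iff_ne_zero.2 h1)).orderOf_pos
  have hdv : ∀ p ∈ π, p ∣ q ^ (orderOf (q : ZMod p)) - 1 := fun p _ =>
    (dvd_pow_sub_one_iff (by omega)).2 dvd_rfl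
  have hle : ∀ p ∈ π, orderOf (q : ZMod p) ≤ n := by
    intro p hp
    obtain ⟨hp1, hp2, hp3, hp4⟩ := hπ p hp
    have h1 : p ∣ ∏ i ∈ Finset.range n, (q ^ n - q ^ i) := by
      have h2 : Nat.card (Matrix.SpecialLinearGroup (Fin n) F) ∣ Nat.card (Matrix.GeneralLinearGroup (Fin n) F) :=
        Subgroup.card_dvd_of_injective _ Matrix.SpecialLinearGroup.toGL_injective
      rw [Matrix.card_GL_field, ← Finset.prod_range (fun i => Fintype.card F ^ n - Fintype.card F ^ i)] at h2
      exact hp4.trans h2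
    obtain ⟨i, hi, hpi⟩ := (hp1.prime.dvd_finsetProd_iff _).1 h1
    rw [Finset.mem_range] at hi
    have h3 : q ^ n - q ^ i = q ^ i * (q ^ (n - i) - 1) := by
      rw [Nat.mul_sub, mul_one, ← pow_add]
      congr 2
      omega
    rw [h3] at hpi
    have h4 : p ∣ q ^ (n - i) - 1 := by
      rcases (Nat.Prime.dvd_mul hp1).1 hpi with h | h
      · exact absurd (hp1.dvd_of_dvd_pow h) hp3
      · exact h
    rw [dvd_pow_sub_one_iff (by omega)] at h4
    have := Nat.le_of_dvd (by omega) h4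
    omega
  -- claim 1: all orders are equal
  have claim1 : ∀ p ∈ π, ∀ s ∈ π, ¬ orderOf (q : ZMod p) < orderOf (q : ZMod s) := by
    intro p hp s hs hlt
    have hps : s ≠ p := by rintro rfl; exact lt_irrefl _ hlt
    obtain ⟨hp1, hp2, hp3, hp4⟩ := hπ p hp
    obtain ⟨hs1, hs2, hs3, hs4⟩ := hπ s hs
    obtain ⟨K, _, _, _, _, ζ, hK, hζo, hζ⟩ := exists_gen_one F (hord s hs) hs1 rfl
    have h1 := hord p hp
    have h2 := hord s hs
    have h3 := hle s hs
    have hs1' : ¬ s ∣ Fintype.card F - 1 := by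
      intro h
      have h5 : s ∣ q ^ 1 - 1 := by rw [pow_one]; exact h
      rw [dvd_pow_sub_one_iff (by omega)] at h5
      have := Nat.le_of_dvd one_pos h5
      omega
    obtain ⟨y, hy1, hy2⟩ := exists_elt (n := n) (k := n - orderOf (q : ZMod s)) hK (by omega) (s := s) ζ
      (fun _ => 1) hζ hζo (fun i => by rw [orderOf_one]; exact one_dvd _) hs1
      (by rw [norm_eq_one hs1 hs1' ζ hζo]; simp) (by omega) hp1 h1 hlt (hdv p hp)
    exact hc s hs p hp hps y hy1 hy2
  obtain ⟨p₀, hp₀, s₀, hs₀, hps₀⟩ := hnt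
  set e := orderOf (q : ZMod p₀) with he
  have hee : ∀ p ∈ π, orderOf (q : ZMod p) = e := by
    intro p hp
    have h1 := claim1 p hp p₀ hp₀
    have h2 := claim1 p₀ hp₀ p hp
    omega
  have he0 : 0 < e := hord p₀ hp₀
  have hen : e ≤ n := hle p₀ hp₀
  -- claim 2
  have claim2 : ∀ s ∈ π, ∀ p ∈ π, s ≠ p → e * s < n + 1 → (e ≠ 1 ∨ e * s < n) → False := by
    intro s hs p hp hps hesn hor
    obtain ⟨hp1, hp2, hp3, hp4⟩ := hπ p hp
    obtain ⟨hs1, hs2, hs3, hs4⟩ := hπ s hs
    obtain ⟨K, _, _, _, _, ζ, hK, hζo, hζ⟩ := exists_gen_two F he0 hs1 (hee s hs)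
    have hs2' := hs1.two_le
    have hes : e < e * s := by nlinarith
    have hm2 : 2 ≤ e * s := by nlinarith
    have hpa : p ∣ Fintype.card F ^ e - 1 := by
      have := hdv p hp
      rwa [hee p hp] at this
    by_cases he1 : e = 1
    · -- use a correction
      have hlt : e * s < n := hor.resolve_left (not_not.2 he1)
      set u : Fˣ := Units.map (Algebra.norm F : K →* F) ζ with hu
      obtain ⟨y, hy1, hy2⟩ := exists_elt (n := n) (k := n - e * s) hK (by omega) (s := s) ζ
        (fun i => if i = ⟨0, by omega⟩ then u⁻¹ else 1) hζ hζo (by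
          intro i
          split_ifs
          · rw [orderOf_inv]
            exact orderOf_map_dvd _ ζ
          · rw [orderOf_one]; exact one_dvd _) hs1
        (by
          rw [Finset.prod_eq_single (⟨0, by omega⟩ : Fin (n - e * s))]
          · have : Algebra.norm F (ζ : K) = u := rfl
            rw [this]
            simp
          · intro j _ hj
            simp [hj]
          · intro h; exact absurd (Finset.mem_univ _) h) hm2 hp1 he0 hes hpa
      exact hc s hs p hp hps y hy1 hy2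
    · have hs1' : ¬ s ∣ Fintype.card F - 1 := by
        intro h
        have h5 : s ∣ q ^ 1 - 1 := by rw [pow_one]; exact h
        rw [dvd_pow_sub_one_iff (by omega), hee s hs] at h5
        have := Nat.le_of_dvd one_pos h5
        omega
      obtain ⟨y, hy1, hy2⟩ := exists_elt (n := n) (k := n - e * s) hK (by omega) (s := s) ζ
        (fun _ => 1) hζ hζo (fun i => by rw [orderOf_one]; exact one_dvd _) hs1
        (by rw [norm_eq_one hs1 hs1' ζ hζo]; simp) hm2 hp1 he0 hes hpa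
      exact hc s hs p hp hps y hy1 hy2
  have claim3 : ∀ s ∈ π, ∀ p ∈ π, s ≠ p → n < e * s := by
    intro s hs p hp hps
    by_contra hlt
    obtain ⟨hp1, hp2, hp3, hp4⟩ := hπ p hp
    obtain ⟨hs1, hs2, hs3, hs4⟩ := hπ s hs
    by_cases he1 : e = 1
    · by_cases hlt2 : e * s < n
      · exact claim2 s hs p hp hps (by omega) (Or.inr hlt2)
      · have hsn : s = n := by rw [he1] at hlt hlt2; omega
        -- `n = s`
        rcases lt_or_gt_of_ne hps with h | h
        · have h1 : p ∣ Fintype.card F - 1 := by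
            have := hdv p hp
            rw [hee p hp, he1, pow_one] at this
            exact this
          have h2 : n ∣ Fintype.card F - 1 := by
            have := hdv s hs
            rw [hee s hs, he1, pow_one, hsn] at this
            exact this
          obtain ⟨y, hy1, hy2⟩ := exists_diag (F := F) (n := n) (s := p) (hsn ▸ hs1) hp1 (hsn ▸ h) h1 h2 hp2
          exact hc p hp s hs hps.symm y hy1 (hsn ▸ hy2)
        · refine claim2 p hp s hs hps.symm ?_ (Or.inr ?_)
          · rw [he1]; omega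
          · rw [he1]; omega
    · exact claim2 s hs p hp hps (by omega) (Or.inl he1)
  have claim4 : ∀ p ∈ π, n / e < p := by
    intro p hp
    rw [Nat.div_lt_iff_lt_mul he0, mul_comm]
    by_cases h : p = p₀
    · exact claim3 p hp s₀ hs₀ (h ▸ hps₀)
    · exact claim3 p hp p₀ hp₀ h
  obtain ⟨T, hT1, hT2⟩ := torus (F := F) (e := e) (N := n / e) (k := n % e) (n := n) he0
    (Nat.div_add_mod n e) (Nat.mod_lt _ he0)
  exact ⟨T, hT1, fun p hp => hT2 p (hπ p hp).1 (hπ p hp).2.2.1 (hee p hp) (claim4 p hp)⟩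

end Cfsg.Agent.H625.NHPsl
end

-- part: H625/NHPslCross
section
set_option linter.all false
open scoped Cfsg.Agent.FastGrp

/-!
Row of `SL_n(F)` in cross characteristic (task 321).
-/

set_option autoImplicit false

namespace Cfsg.Agent.H625.NHPsl

theorem crossRow_SL (r : ℕ) [Fact r.Prime] (F : Type) [Field F] [Fintype F] [CharP F r] (n : ℕ)
    (hn : 2 ≤ n) : Cfsg.Agent.H630.NH.CrossRow r (Matrix.SpecialLinearGroup (Fin n) F) := by
  intro π hπ hnt hc
  refine sl_row hn (fun p hp => ?_) hnt hc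
  obtain ⟨h1, h2, h3, h4⟩ := hπ p hp
  refine ⟨h1, h2, ?_, h4⟩
  intro hd
  obtain ⟨k, hr, hk⟩ := FiniteField.card F r
  rw [hk] at hd
  exact h3 ((Nat.prime_dvd_prime_iff_eq h1 hr).1 (h1.dvd_of_dvd_pow hd))

end Cfsg.Agent.H625.NHPsl
end

-- part: H345/NHSzRee
section
prune_inst 0x421702c647be200000000859691203a36fc0005b011230001dae00946090fff22c982e7404ea03807526aa28110050860021000f0404000000e2004000005052190e81604f1fdad04960097803085500000000000300000000000000000041004200000002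
set_option linter.all false
open scoped Cfsg.Agent.FastGrp

/-!
# Nilpotent Hall subgroups and class sizes: the Suzuki and the Ree groups
-/

set_option autoImplicit false
open Cfsg
open scoped Pointwise

namespace Cfsg.Agent.H345.NHSzRee

open Cfsg.Agent.H630.NH

universe u v

/-- If the centralizers of the elements of odd prime order are nilpotent and the Sylow subgroups for odd
primes are cyclic, then `Row` holds. -/
theorem row_of_cn {X : Type u} [Group X] [Finite X]
    (hC : ∀ x : X, x ≠ 1 → Group.IsNilpotent (Subgroup.centralizer ({x} : Set X)))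
    (hS : ∀ p : ℕ, p.Prime → p ≠ 2 → ∀ P : Sylow p X, IsCyclic P) : Row X := by
  intro π hπ hnt hc
  obtain ⟨p, hp, q, hq, hpq⟩ := hnt
  obtain ⟨hpp, hp2, hpd⟩ := hπ p hp
  obtain ⟨hqp, hq2, hqd⟩ := hπ q hq
  have hpf : Fact p.Prime := ⟨hpp⟩
  have hqf : Fact q.Prime := ⟨hqp⟩
  obtain ⟨x, hx⟩ := exists_prime_orderOf_dvd_card' p hpd
  set C := Subgroup.centralizer ({x} : Set X) with hCdef
  have hxne : x ≠ 1 := by
    rintro rfl
    rw [orderOf_one] at hx
    exact hpp.one_lt.ne hx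
  have hs : ∀ s ∈ π, s ≠ p → ¬ s ∣ C.index := fun s hs hsp =>
    hc p hp s hs hsp.symm x ⟨1, by rw [hx, pow_one]⟩
  -- an element `y` of order `q` of `C`
  have hqC : q ∣ Nat.card C := by
    have h1 : q ∣ C.index * Nat.card C := by rw [Subgroup.index_mul_card]; exact hqd
    exact (hqp.dvd_mul.mp h1).resolve_left (hs q hq hpq.symm)
  obtain ⟨y, hy⟩ := exists_prime_orderOf_dvd_card' q hqC
  have hyx : x ∈ Subgroup.centralizer ({(y : X)} : Set X) := by
    rw [Subgroup.mem_centralizer_singleton_iff]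
    exact ((Subgroup.mem_centralizer_singleton_iff.mp y.2)).symm
  have hyp : ¬ p ∣ (Subgroup.centralizer ({(y : X)} : Set X)).index :=
    hc q hq p hp hpq.symm (y : X) ⟨1, by rw [Subgroup.orderOf_coe, hy, pow_one]⟩
  have hpC : ¬ p ∣ C.index := by
    have hxp : IsPGroup p (Subgroup.zpowers (⟨x, hyx⟩ : Subgroup.centralizer ({(y : X)} : Set X))) := by
      apply IsPGroup.of_card (n := 1)
      rw [Nat.card_zpowers, Subgroup.orderOf_mk, hx, pow_one]
    obtain ⟨P, hP⟩ := hxp.exists_le_sylow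
    -- the image of `P` in `X`
    have hPp : IsPGroup p ((P : Subgroup _).map (Subgroup.centralizer ({(y : X)} : Set X)).subtype) :=
      P.isPGroup'.map _
    have hPi : ¬ p ∣ ((P : Subgroup _).map (Subgroup.centralizer ({(y : X)} : Set X)).subtype).index := by
      rw [Subgroup.index_map_subtype]
      intro hd
      rcases hpp.dvd_mul.mp hd with h | h
      · exact P.not_dvd_index h
      · exact hyp h
    set P' : Sylow p X := IsPGroup.toSylow hPp hPi with hP'
    have hcyc : IsCyclic P' := hS p hpp hp2 P'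
    have hxP : x ∈ (P' : Subgroup X) := by
      have h1 : (⟨x, hyx⟩ : Subgroup.centralizer ({(y : X)} : Set X)) ∈ (P : Subgroup _) :=
        hP (Subgroup.mem_zpowers _)
      exact ⟨_, h1, rfl⟩
    have hle : (P' : Subgroup X) ≤ C := by
      intro z hz
      rw [hCdef, Subgroup.mem_centralizer_singleton_iff]
      have h1 : IsMulCommutative P' := inferInstance
      have := h1.is_comm.comm (⟨z, hz⟩ : P') ⟨x, hxP⟩
      exact congrArg Subtype.val this
    intro hd
    exact hPi (hd.trans (Subgroup.index_dvd_of_le hle))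
  have hsC : ∀ s ∈ π, ¬ s ∣ C.index := by
    intro s hs'
    by_cases h : s = p
    · rw [h]; exact hpC
    · exact hs s hs' h
  -- the Hall `2'`-subgroup of `C`
  have hnil : Group.IsNilpotent C := hC x hxne
  obtain ⟨S⟩ : Nonempty (Sylow 2 C) := inferInstance
  have hSn : (S : Subgroup C).Normal := inferInstance
  have hcop : Nat.Coprime (Nat.card S) (S : Subgroup C).index := S.card_coprime_index
  obtain ⟨T, hT⟩ := Subgroup.exists_right_complement'_of_coprime hcop
  have hTi : T.index = Nat.card S := hT.index_eq_card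
  have hTc : Nat.card T = (S : Subgroup C).index := hT.symm.index_eq_card.symm
  have hTodd : ¬ 2 ∣ Nat.card T := by rw [hTc]; exact S.not_dvd_index
  have hTcyc : IsCyclic T := by
    have : IsZGroup T := by
      constructor
      intro s hsp P
      have hsf : Fact s.Prime := ⟨hsp⟩
      by_cases hs2 : s = 2
      · subst hs2
        have h1 : Nat.card P = 1 := by
          obtain ⟨k, hk⟩ := P.isPGroup'.exists_card_eq
          rcases Nat.eq_zero_or_pos k with h0 | h0
          · rw [hk, h0, pow_zero]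
          · exfalso
            apply hTodd
            exact ((dvd_pow_self 2 h0.ne').trans (by rw [← hk])).trans (Subgroup.card_subgroup_dvd_card (P : Subgroup T))
        have : Subsingleton P := (Nat.card_eq_one_iff_unique.mp h1).1
        exact isCyclic_of_subsingleton
      · -- embed into a Sylow subgroup of `X`
        set f : T →* X := C.subtype.comp T.subtype with hf
        have hfi : Function.Injective f := Subtype.val_injective.comp Subtype.val_injective
        have hPp : IsPGroup s ((P : Subgroup T).map f) := P.isPGroup'.map _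
        obtain ⟨R, hR⟩ := hPp.exists_le_sylow
        have hcyc : IsCyclic R := hS s hsp hs2 R
        have h2 : IsCyclic ((P : Subgroup T).map f) :=
          isCyclic_of_injective (Subgroup.inclusion hR) (Subgroup.inclusion_injective hR)
        exact isCyclic_of_injective ((P : Subgroup T).equivMapOfInjective f hfi).toMonoidHom
          ((P : Subgroup T).equivMapOfInjective f hfi).injective
    have : Group.IsNilpotent T := inferInstance
    infer_instance
  refine ⟨T.map C.subtype, ?_, ?_⟩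
  · have h1 : IsCyclic (T.map C.subtype) := isCyclic_of_surjective
      ((T.equivMapOfInjective C.subtype Subtype.val_injective).toMonoidHom)
      (T.equivMapOfInjective C.subtype Subtype.val_injective).surjective
    infer_instance
  · intro s hs' hd
    rw [Subgroup.index_map_subtype] at hd
    have hsp := (hπ s hs').1
    rcases hsp.dvd_mul.mp hd with h | h
    · rw [hTi] at h
      obtain ⟨k, hk⟩ := S.isPGroup'.exists_card_eq
      rw [hk] at h
      exact (hπ s hs').2.1 ((Nat.prime_dvd_prime_iff_eq hsp Nat.prime_two).mp (hsp.dvd_of_dvd_pow h))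
    · exact hsC s hs' h

theorem row_suzuki {X : Type u} [Group X] (h : Cfsg.Lie.IsoSuzuki X) : Row X := by
  obtain ⟨F, _, _, m, hm, hF, ⟨e⟩⟩ := h
  obtain ⟨i⟩ := Cfsg.Agent.OddCyclic.ClaimC.SzIso.iso hm hF
  refine Row.congr (i.trans e.symm) ?_
  apply row_of_cn
  · intro x hx
    exact Cfsg.Agent.S0332.result hm hF x hx
  · intro p hp hp2 P
    have : Fact p.Prime := ⟨hp⟩
    exact Cfsg.Agent.S0331.result hm hF hp2 P

/-- The four cyclic Hall subgroups of the Ree groups: abstract version. -/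
theorem row_of_ti {X : Type u} [Group X] [Finite X] {ι : Type} (k n : ι → ℕ)
    (hX3 : 9 ∣ Nat.card X)
    (hA : ∀ i : ι, ∃ A : Subgroup X, IsCyclic A ∧ Nat.card A = k i ∧
      Nat.card (Subgroup.normalizer (A : Set X)) = n i ∧
      ∀ A₀ : Subgroup X, A₀ ≤ A → A₀ ≠ ⊥ → Subgroup.normalizer (A₀ : Set X) = Subgroup.normalizer (A : Set X))
    (hn9 : ∀ i, ¬ 9 ∣ n i)
    (hcov : ∀ p : ℕ, p.Prime → p ≠ 2 → p ≠ 3 → p ∣ Nat.card X → ∃ i, p ∣ k i)
    (hsep : ∀ p : ℕ, p.Prime → p ≠ 2 → p ≠ 3 → ∀ i, p ∣ n i → ∀ M, M * k i = Nat.card X → ¬ p ∣ M) : Row X := by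
  intro π hπ hnt hc
  -- a prime of `π` different from `3`
  obtain ⟨p, hp, hp3⟩ : ∃ p ∈ π, p ≠ 3 := by
    obtain ⟨p, hp, q, hq, hpq⟩ := hnt
    by_cases h : p = 3
    · exact ⟨q, hq, fun h' => hpq (h.trans h'.symm)⟩
    · exact ⟨p, hp, h⟩
  obtain ⟨hpp, hp2, hpd⟩ := hπ p hp
  have hpf : Fact p.Prime := ⟨hpp⟩
  obtain ⟨i, hi⟩ := hcov p hpp hp2 hp3 hpd
  obtain ⟨A, hAc, hAk, hAn, hAt⟩ := hA i
  rw [← hAk] at hi
  obtain ⟨x, hx⟩ := exists_prime_orderOf_dvd_card' p hi
  set C := Subgroup.centralizer ({(x : X)} : Set X) with hCdef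
  have hxo : orderOf (x : X) = p := by rw [Subgroup.orderOf_coe, hx]
  have hCA : C ≤ Subgroup.normalizer (A : Set X) := by
    rw [← hAt (Subgroup.zpowers (x : X)) (by rw [Subgroup.zpowers_le]; exact x.2) ?_]
    · intro c hc'
      rw [Subgroup.mem_centralizer_singleton_iff] at hc'
      have h1 : c ∈ Subgroup.centralizer ((Subgroup.zpowers (x : X) : Subgroup X) : Set X) := by
        rw [Subgroup.mem_centralizer_iff]
        rintro _ ⟨j, rfl⟩
        have hcomm : Commute (x : X) c := hc'.symm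
        exact (hcomm.zpow_left j)
      exact Subgroup.centralizer_le_normalizer _ h1
    · rw [Ne, Subgroup.zpowers_eq_bot]
      intro h
      rw [h, orderOf_one] at hxo
      exact hpp.one_lt.ne hxo
  have hCd : Nat.card C ∣ n i := by
    rw [← hAn]
    exact Subgroup.card_dvd_of_le hCA
  have hs : ∀ s ∈ π, s ≠ p → ¬ s ∣ C.index := fun s hs hsp =>
    hc p hp s hs hsp.symm x ⟨1, by rw [hxo, pow_one]⟩
  have h3 : 3 ∉ π := by
    intro h3
    have h1 := hs 3 h3 (Ne.symm hp3)
    apply hn9 i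
    have h2 : 9 ∣ Nat.card C * C.index := by rw [Subgroup.card_mul_index]; exact hX3
    have h4 : Nat.Coprime 9 C.index := by
      have h5 : Nat.Coprime 3 C.index := (Nat.Prime.coprime_iff_not_dvd Nat.prime_three).mpr h1
      exact (h5.pow_left 2)
    exact (h4.dvd_of_dvd_mul_right h2).trans hCd
  refine ⟨A, inferInstance, ?_⟩
  intro s hs' hd
  obtain ⟨hsp, hs2, hsd⟩ := hπ s hs'
  have hs3 : s ≠ 3 := fun h => h3 (h ▸ hs')
  have hsn : s ∣ n i := by
    by_cases h : s = p
    · rw [h, ← hAn]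
      exact hi.trans (Subgroup.card_dvd_of_le Subgroup.le_normalizer)
    · have h1 : s ∣ C.index * Nat.card C := by rw [Subgroup.index_mul_card]; exact hsd
      exact ((hsp.dvd_mul.mp h1).resolve_left (hs s hs' h)).trans hCd
  exact hsep s hsp hs2 hs3 i hsn A.index (by rw [← hAk, Subgroup.index_mul_card]) hd

/-- The numbers: `Q = 2a + 1 = 4b - 1`, `r² = 3Q`, `c = Q - r + 1`, `d = Q + r + 1`. -/
theorem num {m : ℕ} (hm : 1 ≤ m) : ∃ a b c d : ℕ,
    3 ^ (2 * m + 1) = 2 * a + 1 ∧ 3 ^ (2 * m + 1) + 1 = 4 * b ∧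
    3 ^ (2 * m + 1) + 1 = 3 ^ (m + 1) + c ∧ d = 3 ^ (2 * m + 1) + 3 ^ (m + 1) + 1 ∧
    c * d = 2 * a * 3 ^ (2 * m + 1) + 1 := by
  have h8 : 3 ^ (2 * m + 1) % 8 = 3 := by
    rw [pow_succ, pow_mul, Nat.mul_mod, Nat.pow_mod]
    norm_num
  have hle : 3 ^ (m + 1) ≤ 3 ^ (2 * m + 1) := Nat.pow_le_pow_right (by norm_num) (by omega)
  have hsq : 3 ^ (m + 1) * 3 ^ (m + 1) = 3 * 3 ^ (2 * m + 1) := by
    rw [← pow_add, ← pow_succ']
    congr 1
    omega
  set Q := 3 ^ (2 * m + 1) with hQ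
  set r := 3 ^ (m + 1) with hr
  refine ⟨Q / 2, (Q + 1) / 4, Q + 1 - r, Q + r + 1, by omega, by omega, by (clear * - hle; omega), rfl, ?_⟩
  obtain ⟨t, ht⟩ : ∃ t, Q = r + t := ⟨Q - r, by (clear * - hle; omega)⟩
  have h1 : Q + 1 - r = t + 1 := by (clear * - ht; omega)
  have h2 : 2 * (Q / 2) = Q - 1 := by omega
  rw [h1, h2]
  obtain ⟨w, hw⟩ : ∃ w, Q = w + 1 := ⟨Q - 1, by omega⟩
  have h3 : Q - 1 = w := by (clear * - hw; omega)
  rw [h3]
  zify at ht hw hsq ⊢
  have hw' : (w : ℤ) = Q - 1 := by linarith only [hw]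
  have ht' : (t : ℤ) = Q - r := by linarith only [ht]
  rw [hw', ht']
  linear_combination -hsq

theorem row_ree_aux {K : Type} [Field K] [Fintype K] {m : ℕ} (hm : 1 ≤ m)
    (hK : Fintype.card K = 3 ^ (2 * m + 1)) : Row ↥(Cfsg.Lie.twistedG2 K (3 ^ m)) := by
  obtain ⟨a, b, c, d, ha, hb, hc, hd, hcd⟩ := num hm
  have hcard := Cfsg.Agent.S1069.result hK
  have hA := Cfsg.Agent.S1158.result hm hK
  have h27 : 27 ∣ 3 ^ (2 * m + 1) := by
    have : (27 : ℕ) = 3 ^ 3 := by norm_num
    rw [this]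
    exact pow_dvd_pow 3 (by omega)
  have h9r : 9 ∣ 3 ^ (m + 1) := by
    have : (9 : ℕ) = 3 ^ 2 := by norm_num
    rw [this]
    exact pow_dvd_pow 3 (by omega)
  have hprQ : ∀ s : ℕ, s.Prime → s ∣ 3 ^ (2 * m + 1) → s = 3 := fun s hs h =>
    (Nat.prime_dvd_prime_iff_eq hs Nat.prime_three).mp (hs.dvd_of_dvd_pow h)
  have hprr : ∀ s : ℕ, s.Prime → s ∣ 3 ^ (m + 1) → s = 3 := fun s hs h =>
    (Nat.prime_dvd_prime_iff_eq hs Nat.prime_three).mp (hs.dvd_of_dvd_pow h)
  set Q := 3 ^ (2 * m + 1) with hQ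
  set r := 3 ^ (m + 1) with hr
  have hcard2 : Nat.card ↥(Cfsg.Lie.twistedG2 K (3 ^ m)) = Q ^ 3 * (2 * a) * (4 * b * (c * d)) := by
    rw [hcard]
    have h1 : Q - 1 = 2 * a := by (clear * - ha; omega)
    rw [h1, hcd, ← hb, ha]
    ring
  have hQ0 : 0 < Q := by positivity
  have ha0 : 0 < a := by (clear * - ha; omega)
  have hb0 : 0 < b := by (clear * - hb; omega)
  have hcd0 : 0 < c * d := by rw [hcd]; omega
  have hc0 : 0 < c := Nat.pos_of_mul_pos_right hcd0 |> fun _ => by
    rcases Nat.eq_zero_or_pos c with h | h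
    · rw [h, zero_mul] at hcd0; omega
    · exact h
  have hd0 : 0 < d := by rw [hd]; (clear * - hd; omega)
  have hfin : Finite ↥(Cfsg.Lie.twistedG2 K (3 ^ m)) := by
    apply Nat.finite_of_card_ne_zero
    rw [hcard2]
    (clear * - ha0 hb0 hc0 hd0; positivity)
  -- the basic separations
  have sab : ∀ s : ℕ, s.Prime → s ≠ 2 → s ∣ a → s ∣ b → False := by
    intro s hs hs2 h1 h2
    have h3 : s ∣ 4 * b := h2.mul_left 4
    have h4 : s ∣ 2 * a := h1.mul_left 2
    have h5 : 4 * b = 2 * a + 2 := by omega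
    rw [h5] at h3
    have h6 : s ∣ 2 := (Nat.dvd_add_right h4).mp h3
    exact hs2 ((Nat.prime_dvd_prime_iff_eq hs Nat.prime_two).mp h6)
  have sacd : ∀ s : ℕ, s.Prime → s ∣ a → s ∣ c * d → False := by
    intro s hs h1 h2
    rw [hcd] at h2
    have h4 : s ∣ 2 * a * Q := (h1.mul_left 2).mul_right Q
    exact hs.one_lt.ne' (Nat.dvd_one.mp ((Nat.dvd_add_right h4).mp h2))
  have sbcd : ∀ s : ℕ, s.Prime → s ≠ 3 → s ∣ b → s ∣ c * d → False := by
    intro s hs hs3 h1 h2
    have h3 : c * d + 2 * (4 * b) = Q * (4 * b) + 3 := by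
      rw [hcd, ← hb, ha]; ring
    have h4 : s ∣ Q * (4 * b) + 3 := by
      rw [← h3]
      exact dvd_add h2 ((h1.mul_left 4).mul_left 2)
    have h5 : s ∣ 3 := (Nat.dvd_add_right ((h1.mul_left 4).mul_left Q)).mp h4
    exact hs3 ((Nat.prime_dvd_prime_iff_eq hs Nat.prime_three).mp h5)
  have scd : ∀ s : ℕ, s.Prime → s ≠ 2 → s ≠ 3 → s ∣ c → s ∣ d → False := by
    intro s hs hs2 hs3 h1 h2
    have h3 : d = c + 2 * r := by (clear * - hc hd; omega)
    rw [h3] at h2
    have h4 : s ∣ 2 * r := (Nat.dvd_add_right h1).mp h2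
    rcases hs.dvd_mul.mp h4 with h | h
    · exact hs2 ((Nat.prime_dvd_prime_iff_eq hs Nat.prime_two).mp h)
    · exact hs3 (hprr s hs h)
  refine row_of_ti (ι := Fin 4) (k := ![a, b, c, d]) (n := ![2 * (2 * a), 6 * (4 * b), 6 * c, 6 * d]) ?_ ?_ ?_ ?_ ?_
  · rw [hcard2]
    exact (((Dvd.intro_left 3 (by norm_num) : (9 : ℕ) ∣ 27).trans h27).trans (dvd_pow_self Q (by norm_num))).trans
      ((dvd_mul_right _ _).trans (dvd_mul_right _ _))
  · intro i
    have e1 : (Q - 1) / 2 = a := by (clear * - ha; omega)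
    have e2 : (Q + 1) / 4 = b := by (clear * - hb; omega)
    have e3 : Q - r + 1 = c := by (clear * - hc; omega)
    have e4 : Q + r + 1 = d := hd.symm
    have e5 : Q - 1 = 2 * a := by (clear * - hb e1; omega)
    simp only [e3, e4, e5, hb] at hA
    fin_cases i
    · exact hA (a, 2 * (2 * a)) (by simp only [_root_.ne_eq, _root_.OfNat.ofNat_ne_zero, _root_.not_false_eq_true, _root_.mul_div_cancel_left₀, _root_.Set.mem_insert_iff, _root_.Prod.mk.injEq, _root_.Set.mem_singleton_iff, _root_.true_or])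
    · exact hA (b, 6 * (4 * b)) (by simp only [_root_.ne_eq, _root_.OfNat.ofNat_ne_zero, _root_.not_false_eq_true, _root_.mul_div_cancel_left₀, _root_.Set.mem_insert_iff, _root_.Prod.mk.injEq, _root_.mul_eq_mul_left_iff, _root_.or_false, _root_.Set.mem_singleton_iff, _root_.true_or, _root_.or_true])
    · exact hA (c, 6 * c) (by simp only [_root_.ne_eq, _root_.OfNat.ofNat_ne_zero, _root_.not_false_eq_true, _root_.mul_div_cancel_left₀, _root_.Set.mem_insert_iff, _root_.Prod.mk.injEq, _root_.mul_eq_mul_left_iff, _root_.or_false, _root_.Set.mem_singleton_iff, _root_.and_self, _root_.true_or, _root_.or_true])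
    · exact hA (d, 6 * d) (by simp only [_root_.ne_eq, _root_.OfNat.ofNat_ne_zero, _root_.not_false_eq_true, _root_.mul_div_cancel_left₀, _root_.Set.mem_insert_iff, _root_.Prod.mk.injEq, _root_.mul_eq_mul_left_iff, _root_.or_false, _root_.and_self, _root_.Set.mem_singleton_iff, _root_.or_true])
  · intro i
    have hQ9 : 9 ∣ Q := (Dvd.intro_left 3 (by norm_num) : (9 : ℕ) ∣ 27).trans h27
    fin_cases i
    · show ¬ 9 ∣ 2 * (2 * a)
      (clear * - ha; omega)
    · show ¬ 9 ∣ 6 * (4 * b)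
      (clear * - hb; omega)
    · show ¬ 9 ∣ 6 * c
      (clear * - hc; omega)
    · show ¬ 9 ∣ 6 * d
      (clear * - hd; omega)
  · intro p hp hp2 hp3 hpd
    rw [hcard2] at hpd
    rcases hp.dvd_mul.mp hpd with h | h
    · rcases hp.dvd_mul.mp h with h | h
      · exact absurd (hprQ p hp (hp.dvd_of_dvd_pow h)) hp3
      · rcases hp.dvd_mul.mp h with h | h
        · exact absurd ((Nat.prime_dvd_prime_iff_eq hp Nat.prime_two).mp h) hp2
        · exact ⟨0, h⟩
    · rcases hp.dvd_mul.mp h with h | h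
      · rcases hp.dvd_mul.mp h with h | h
        · have : p ∣ 2 ^ 2 := by simpa using h
          exact absurd ((Nat.prime_dvd_prime_iff_eq hp Nat.prime_two).mp (hp.dvd_of_dvd_pow this)) hp2
        · exact ⟨1, h⟩
      · rcases hp.dvd_mul.mp h with h | h
        · exact ⟨2, h⟩
        · exact ⟨3, h⟩
  · intro s hs hs2 hs3 i hi M hM hsM
    rw [hcard2] at hM
    have h2' : ∀ j : ℕ, s ∣ 2 ^ j → False := fun j hj =>
      hs2 ((Nat.prime_dvd_prime_iff_eq hs Nat.prime_two).mp (hs.dvd_of_dvd_pow hj))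
    have hQ' : ∀ j : ℕ, s ∣ Q ^ j → False := fun j hj => hs3 (hprQ s hs (hs.dvd_of_dvd_pow hj))
    have h6 : ∀ y : ℕ, s ∣ 6 * y → s ∣ y := by
      intro y hy
      rcases hs.dvd_mul.mp hy with h | h
      · have h7 : s ∣ 2 * 3 := h
        rcases hs.dvd_mul.mp h7 with h | h
        · exact absurd ((Nat.prime_dvd_prime_iff_eq hs Nat.prime_two).mp h) hs2
        · exact absurd ((Nat.prime_dvd_prime_iff_eq hs Nat.prime_three).mp h) hs3
      · exact h
    have h2 : ∀ y : ℕ, s ∣ 2 * y → s ∣ y := fun y hy =>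
      (hs.dvd_mul.mp hy).resolve_left (fun h => h2' 1 (by simpa using h))
    have h4 : ∀ y : ℕ, s ∣ 4 * y → s ∣ y := fun y hy =>
      (hs.dvd_mul.mp hy).resolve_left (fun h => h2' 2 (by simpa using h))
    fin_cases i
    · have hi' : s ∣ a := h2 _ (h2 _ hi)
      have hM' : M * a = Q ^ 3 * (2 * a) * (4 * b * (c * d)) := hM
      have hMe : M = Q ^ 3 * (2 ^ 3 * (b * (c * d))) :=
        Nat.eq_of_mul_eq_mul_right ha0 (by rw [hM']; ring)
      rw [hMe] at hsM
      rcases hs.dvd_mul.mp hsM with h | h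
      · exact hQ' _ h
      rcases hs.dvd_mul.mp h with h | h
      · exact h2' _ h
      rcases hs.dvd_mul.mp h with h | h
      · exact sab s hs hs2 hi' h
      · exact sacd s hs hi' h
    · have hi' : s ∣ b := h4 _ (h6 _ hi)
      have hM' : M * b = Q ^ 3 * (2 * a) * (4 * b * (c * d)) := hM
      have hMe : M = Q ^ 3 * (2 ^ 3 * (a * (c * d))) :=
        Nat.eq_of_mul_eq_mul_right hb0 (by rw [hM']; ring)
      rw [hMe] at hsM
      rcases hs.dvd_mul.mp hsM with h | h
      · exact hQ' _ h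
      rcases hs.dvd_mul.mp h with h | h
      · exact h2' _ h
      rcases hs.dvd_mul.mp h with h | h
      · exact sab s hs hs2 h hi'
      · exact sbcd s hs hs3 hi' h
    · have hi' : s ∣ c := h6 _ hi
      have hM' : M * c = Q ^ 3 * (2 * a) * (4 * b * (c * d)) := hM
      have hMe : M = Q ^ 3 * (2 ^ 3 * (a * (b * d))) :=
        Nat.eq_of_mul_eq_mul_right hc0 (by rw [hM']; ring)
      rw [hMe] at hsM
      rcases hs.dvd_mul.mp hsM with h | h
      · exact hQ' _ h
      rcases hs.dvd_mul.mp h with h | h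
      · exact h2' _ h
      rcases hs.dvd_mul.mp h with h | h
      · exact sacd s hs h (hi'.mul_right d)
      rcases hs.dvd_mul.mp h with h | h
      · exact sbcd s hs hs3 h (hi'.mul_right d)
      · exact scd s hs hs2 hs3 hi' h
    · have hi' : s ∣ d := h6 _ hi
      have hM' : M * d = Q ^ 3 * (2 * a) * (4 * b * (c * d)) := hM
      have hMe : M = Q ^ 3 * (2 ^ 3 * (a * (b * c))) :=
        Nat.eq_of_mul_eq_mul_right hd0 (by rw [hM']; ring)
      rw [hMe] at hsM
      rcases hs.dvd_mul.mp hsM with h | h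
      · exact hQ' _ h
      rcases hs.dvd_mul.mp h with h | h
      · exact h2' _ h
      rcases hs.dvd_mul.mp h with h | h
      · exact sacd s hs h (hi'.mul_left c)
      rcases hs.dvd_mul.mp h with h | h
      · exact sbcd s hs hs3 h (hi'.mul_left c)
      · exact scd s hs hs2 hs3 h hi'

theorem row_ree {X : Type u} [Group X] (h : Cfsg.Lie.IsoRee X) : Row X := by
  obtain ⟨K, _, _, m, hm, hK, ⟨e⟩⟩ := h
  exact Row.congr e.symm (row_ree_aux hm hK)

end Cfsg.Agent.H345.NHSzRee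
end

-- part: H669/NHAlt
section
set_option linter.all false
open scoped Cfsg.Agent.FastGrp

/-!
# The alternating row of `H630.NH.Row` (helper669, for S4597, S4599, S4600)
-/

set_option autoImplicit false

namespace Cfsg.Agent.H669.NHAlt

open Cfsg.Agent.H630.NH

theorem dvd_descFactorial {n p q : ℕ} (hp : p.Prime) (hpq : p ≤ q) : p ∣ n.descFactorial q := by
  have h1 : Nat.factorial q ∣ n.descFactorial q := Nat.factorial_dvd_descFactorial n q
  exact (hp.dvd_factorial.2 hpq).trans h1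

theorem row_alt (n : ℕ) (hn : 5 ≤ n) : Row ↥(alternatingGroup (Fin n)) := by
  refine Row.of_pairs fun p q hp hq hp2 hq2 hpq _ hqd => Or.inr ?_
  have : Fact q.Prime := ⟨hq⟩
  have hqn : q ≤ n := by
    have h1 : q ∣ Nat.factorial n := by
      have h2 := Subgroup.card_subgroup_dvd_card (alternatingGroup (Fin n))
      rw [Nat.card_perm, Nat.card_fin] at h2
      exact hqd.trans h2
    exact (hq.dvd_factorial).1 h1
  -- a `q`-cycle
  obtain ⟨x, hx⟩ : ∃ x : Equiv.Perm (Fin n), x.cycleType = {q} := by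
    rw [Equiv.Perm.exists_with_cycleType_iff]
    refine ⟨by simpa using hqn, ?_⟩
    intro a ha
    rw [Multiset.mem_singleton] at ha
    rw [ha]
    exact hq.two_le
  have hxo : orderOf x = q := by
    rw [← Equiv.Perm.lcm_cycleType, hx, Multiset.lcm_singleton]
    simp
  have hxA : x ∈ alternatingGroup (Fin n) := by
    rw [Equiv.Perm.mem_alternatingGroup, Equiv.Perm.sign_of_cycleType, hx]
    have hodd : Odd q := hq.odd_of_ne_two hq2
    simp only [Multiset.sum_singleton, Multiset.card_singleton]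
    exact Even.neg_one_pow hodd.add_one
  refine ⟨⟨x, hxA⟩, ⟨1, by rw [pow_one, Subgroup.orderOf_mk, hxo]⟩, ?_⟩
  set C : Subgroup (alternatingGroup (Fin n)) := Subgroup.centralizer ({⟨x, hxA⟩} : Set _) with hC
  have h1 : Nat.card (Subgroup.centralizer ({x} : Set (Equiv.Perm (Fin n)))) = (n - q).factorial * q := by
    rw [Equiv.Perm.nat_card_centralizer, hx]
    simp
  have h2 : Nat.card C ∣ (n - q).factorial * q := by
    rw [← h1]
    have h3 : C.map (alternatingGroup (Fin n)).subtype ≤ Subgroup.centralizer ({x} : Set (Equiv.Perm (Fin n))) := by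
      rintro _ ⟨y, hy, rfl⟩
      rw [Subgroup.mem_centralizer_singleton_iff]
      have hy' : y ∈ C := hy
      rw [hC, Subgroup.mem_centralizer_singleton_iff] at hy'
      exact congrArg Subtype.val hy'
    have h4 := Subgroup.card_dvd_of_le h3
    rwa [Subgroup.card_map_of_injective (alternatingGroup (Fin n)).subtype_injective] at h4
  obtain ⟨k, hk⟩ := h2
  have h3 : 2 * (Nat.card C * C.index) = (n - q).factorial * n.descFactorial q := by
    rw [C.card_mul_index, Nat.factorial_mul_descFactorial hqn]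
    have : Nontrivial (Fin n) := Fin.nontrivial_iff_two_le.2 (by omega)
    have h4 := two_mul_nat_card_alternatingGroup (α := Fin n)
    rw [Nat.card_perm, Nat.card_fin] at h4
    exact h4
  have h4 : 2 * q * C.index = k * n.descFactorial q := by
    have h5 : 0 < Nat.card C := Nat.card_pos
    apply Nat.eq_of_mul_eq_mul_left h5
    calc Nat.card C * (2 * q * C.index) = q * (2 * (Nat.card C * C.index)) := by ring
      _ = q * ((n - q).factorial * n.descFactorial q) := by rw [h3]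
      _ = ((n - q).factorial * q) * n.descFactorial q := by ring
      _ = _ := by rw [hk]; ring
  have h5 : p ∣ 2 * q * C.index := by
    rw [h4]
    exact (dvd_descFactorial hp hpq.le).mul_left k
  rcases hp.dvd_mul.1 h5 with h6 | h6
  · exfalso
    rcases hp.dvd_mul.1 h6 with h7 | h7
    · exact hp2 ((Nat.prime_dvd_prime_iff_eq hp Nat.prime_two).1 h7)
    · exact hpq.ne ((Nat.prime_dvd_prime_iff_eq hp hq).1 h7)
  · exact h6

end Cfsg.Agent.H669.NHAlt
end
end
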